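import Cfsg.Agent.Lib.Small.TwoGen.Basic
import Cfsg.Agent.Lib.Lie.TwistD4S

/-!
The triality twisted groups ³D₄(q) are generated by two elements.
-/

set_option autoImplicit false
set_option maxRecDepth 4000

namespace Cfsg.Agent.Small.TwoGen.D4

open Cfsg.Lie Cfsg.Agent.Lie
open Cfsg.Agent.Lie.D4 (Setup okComm')
open Cfsg.Agent.Lie.D4.Setup (cB)
open scoped MatrixGroups

/-- A word of the longest element. -/
def wD : List ℕ := [1, 0, 2, 3, 1, 0, 2, 3, 1, 0, 2, 3]

theorem wD_lt : ∀ i ∈ wD, i < chevD4.rank := by decide +kernel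

theorem wD_neg : (List.range 24).all (fun r => wroot chevD4 wD r == chevD4.neg r &&
    wroot chevD4 wD.reverse r == chevD4.neg r) = true := by decide +kernel

theorem wD_spec {r : ℕ} (hr : r < 24) :
    wroot chevD4 wD r = chevD4.neg r ∧ wroot chevD4 wD.reverse r = chevD4.neg r := by
  have h := List.all_eq_true.1 wD_neg r (List.mem_range.2 hr)
  simpa [Bool.and_eq_true, beq_iff_eq] using h

/-- Monomial elements permute diagonal characters. -/
theorem nw_diag {D : ChevalleyDatum} {F : Type*} [Field F] (hF : Facts D) {w : List ℕ}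
    (hw : ∀ i ∈ w, i < D.rank) (g : GL D.Idx F) (χ : ℕ → F) (hg : (g : Matrix D.Idx D.Idx F) = diagM D χ) :
    ((nw hF w * g * (nw hF w)⁻¹ : GL D.Idx F) : Matrix D.Idx D.Idx F) =
      diagM D (fun s => χ (wroot D w.reverse s)) := by
  induction w with
  | nil => simpa [nw, wroot] using hg
  | cons i w ih =>
    have ih' := ih fun j hj => hw j (List.mem_cons_of_mem _ hj)
    have e : nw hF (i :: w) * g * (nw hF (i :: w))⁻¹ =
        hF.ng (D.simple i) (1 : F) * (nw hF w * g * (nw hF w)⁻¹) * (hF.ng (D.simple i) (1 : F))⁻¹ := by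
      simp only [nw, List.map_cons, List.prod_cons, _root_.mul_inv_rev]
      group
    rw [e, Units.val_mul, Units.val_mul, ih', hF.coe_ng, hF.nMat_mul_diagM i (hw i List.mem_cons_self),
      Matrix.mul_assoc, ← hF.coe_ng, Units.mul_inv, Matrix.mul_one]
    exact Facts.diagM_congr fun s _ => by simp [wroot, List.foldr_append]

variable {K : Type*} [Field K] [Fintype K] {q : ℕ} (S : Setup K q)

include S

theorem nu_inverts (c : Fin chevD4.rank → Kˣ) :
    nw factsD4 wD * torus chevD4 K c * (nw factsD4 wD)⁻¹ = (torus chevD4 K c)⁻¹ := by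
  rw [← map_inv]
  ext1
  rw [nw_diag factsD4 wD_lt _ _ (coe_torus c), coe_torus]
  refine Facts.diagM_congr fun s hs => ?_
  rw [(wD_spec hs).2, torChar, torChar]
  congr 1
  refine Finset.prod_congr rfl fun i _ => ?_
  rw [factsD4.cartan_neg i i.isLt s hs, Pi.inv_apply, _root_.zpow_neg, _root_.inv_zpow]

/-- The generators of the triple. -/
noncomputable def XB (_S : Setup K q) (t : K) : GL chevD4.Idx K := (factsD4.sys K).prodOver [18, 13, 12] (cB q t)

/-- The opposite generators of the triple. -/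
noncomputable def YB (_S : Setup K q) (t : K) : GL chevD4.Idx K := (factsD4.sys K).prodOver [5, 10, 11] (cB q t)

theorem prodB_add {L : List ℕ} (hL : L = [18, 13, 12] ∨ L = [5, 10, 11]) (a b : K) :
    (factsD4.sys K).prodOver L (cB q (a + b)) =
      (factsD4.sys K).prodOver L (cB q a) * (factsD4.sys K).prodOver L (cB q b) := by
  have hq : ∀ x y : K, (x + y) ^ q = x ^ q + y ^ q := fun x y => by rw [← S.hfr, map_add, S.hfr, S.hfr]
  have hadd : ∀ r, cB q (a + b) r = cB q a r + cB q b r := fun r => by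
    simp only [cB]; split_ifs <;> simp [hq]
  have hok : okComm chevD4 L = true := okComm' (by rcases hL with rfl | rfl <;> simp)
  obtain ⟨r, s, u, rfl⟩ : ∃ r s u, L = [r, s, u] := by rcases hL with rfl | rfl <;> exact ⟨_, _, _, rfl⟩
  simp only [CommSys.prodOver, Facts.sys_x, List.map_cons, List.map_nil, List.prod_cons, List.prod_nil,
    mul_one, hadd, factsD4.xg_add]
  have c : ∀ {i j : ℕ}, i ∈ [r, s, u] → j ∈ [r, s, u] → ∀ x y : K,
      Commute (factsD4.xg i x) (factsD4.xg j y) := fun hi hj x y => factsD4.xg_commute hok hi hj x y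
  rw [(c (i := s) (j := u) (by simp) (by simp) (cB q b s) (cB q a u)).mul_mul_mul_comm,
    ((c (i := r) (j := s) (by simp) (by simp) (cB q b r) (cB q a s)).mul_right
      (c (i := r) (j := u) (by simp) (by simp) (cB q b r) (cB q a u))).mul_mul_mul_comm]

theorem XB_add (a b : K) : XB S (a + b) = XB S a * XB S b := prodB_add S (Or.inl rfl) a b

theorem YB_neg (a : K) : YB S (-a) = (YB S a)⁻¹ := by
  have h0 : YB S (0 : K) = 1 := by
    have h := prodB_add S (L := [5, 10, 11]) (Or.inr rfl) (0 : K) 0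
    rw [add_zero, left_eq_mul] at h
    exact h
  rw [eq_inv_iff_mul_eq_one, ← h0, YB, YB, YB, ← prodB_add S (Or.inr rfl), neg_add_cancel]

theorem XB_zero : XB S (0 : K) = 1 := by
  have h := XB_add S 0 0
  rw [add_zero, left_eq_mul] at h
  exact h

theorem XB_neg (a : K) : XB S (-a) = (XB S a)⁻¹ := by
  rw [eq_inv_iff_mul_eq_one, ← XB_add, neg_add_cancel, XB_zero]

theorem nw_eq : nw factsD4 (F := K) wD =
    (factsD4.ng 14 1 * ([18, 13, 12].map fun r => factsD4.ng r (1 : K)).prod) ^ 3 := by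
  simp [nw, wD, pow_succ, mul_assoc, show chevD4.simple 1 = 14 from rfl, show chevD4.simple 0 = 18 from rfl,
    show chevD4.simple 2 = 13 from rfl, show chevD4.simple 3 = 12 from rfl]

theorem nu_mem : nw factsD4 (F := K) wD ∈ twistedD4 K q := by
  have hm1 : (-1 : K) ^ q = -1 := by rw [← S.hfr, map_neg, map_one]
  rw [nw_eq S]
  refine pow_mem (mul_mem ?_ ?_) 3
  · rw [factsD4.ng_eq, inv_one, show chevD4.neg 14 = 9 from rfl]
    exact mul_mem (mul_mem (S.A_mem (Or.inl rfl) (one_pow q)) (S.A_mem (Or.inr rfl) hm1))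
      (S.A_mem (Or.inl rfl) (one_pow q))
  · rw [show ([18, 13, 12].map fun r => factsD4.ng r (1 : K)) =
        [18, 13, 12].map fun r => factsD4.ng r (cB q (1 : K) r) by simp [cB],
      factsD4.prod_ng (by decide) (by decide +kernel) (cB q (1 : K))]
    refine mul_mem (mul_mem (S.B_mem (Or.inl rfl) _) ?_) (S.B_mem (Or.inl rfl) _)
    have := S.B_mem (L := [5, 10, 11]) (Or.inr rfl) (-1)
    simpa [CommSys.prodOver, Facts.sys_x, cB, hm1, show chevD4.neg 18 = 5 from rfl,
      show chevD4.neg 13 = 10 from rfl, show chevD4.neg 12 = 11 from rfl] using this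

theorem nu_conj_B (t : K) : ∃ e : K, (e = 1 ∨ e = -1) ∧
    nw factsD4 wD * XB S t * (nw factsD4 wD)⁻¹ = YB S (e * t) := by
  obtain ⟨e, he, hc⟩ := nw_conj factsD4 wD_lt (r := 18) (by decide) t
  rw [(wD_spec (r := 18) (by decide)).1, show chevD4.neg 18 = 5 from rfl] at hc
  refine ⟨e, he, ?_⟩
  have hν := S.le_fix (nu_mem S)
  have hsig : ∀ r, r ∈ ([18, 13, 5, 10] : List ℕ) → ∀ x : K, S.T.sig (factsD4.xg r x) =
      factsD4.xg (graphD4a.img r) (x ^ q) := by
    intro r hr x
    have hlt : r < 24 := by revert r; decide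
    have hsg : graphD4a.sign r = 1 := by revert r; decide +kernel
    rw [S.T.sig_x r hlt, factsD4.imgX_lt S.T.R hlt, S.expo_one hlt, pow_one, S.hfr, S.hR, hsg,
      Int.cast_one, one_mul]
  have hstep : ∀ g : GL chevD4.Idx K, g ∈ chevD4.group K → ∀ g' : GL chevD4.Idx K,
      nw factsD4 wD * g * (nw factsD4 wD)⁻¹ = g' →
      nw factsD4 wD * S.T.sig g * (nw factsD4 wD)⁻¹ = S.T.sig g' := by
    intro g hg g' h
    rw [← h, S.T.sig_mul _ (mul_mem hν.1 hg) _ (inv_mem hν.1), S.T.sig_mul _ hν.1 _ hg, S.T.sig_inv hν.1, hν.2]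
  have h13 := hstep _ (factsD4.xg_mem_group _ _) _ hc
  rw [hsig 18 (by simp), hsig 5 (by simp), show graphD4a.img 18 = 13 from rfl,
    show graphD4a.img 5 = 10 from rfl] at h13
  have h12 := hstep _ (factsD4.xg_mem_group _ _) _ h13
  rw [hsig 13 (by simp), hsig 10 (by simp), show graphD4a.img 13 = 12 from rfl,
    show graphD4a.img 10 = 11 from rfl] at h12
  simp only [XB, YB, CommSys.prodOver, Facts.sys_x, List.map_cons, List.map_nil, List.prod_cons,
    List.prod_nil, mul_one, cB]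
  norm_num
  rw [← hc, ← h12, ← h13]
  group

theorem two_gen : ∃ a b : ↥(twistedD4 K q), Subgroup.closure ({a, b} : Set ↥(twistedD4 K q)) = ⊤ := by
  classical
  obtain ⟨z, hz⟩ := IsCyclic.exists_generator (α := Kˣ)
  have hM : 0 < 1 + q + q * q := by omega
  have hcard : Fintype.card Kˣ = (q - 1) * (1 + q + q * q) := by
    rw [Fintype.card_units, ← Nat.card_eq_fintype_card, S.hK]
    obtain ⟨k, rfl⟩ : ∃ k, q = k + 1 := ⟨q - 1, by have := S.hq; omega⟩
    rw [Nat.add_sub_cancel]
    have : (k + 1) ^ 3 = k * (1 + (k + 1) + (k + 1) * (k + 1)) + 1 := by ring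
    omega
  -- the norm
  have hN : ∀ x : Kˣ, x ^ (1 + q + q * q) = x * (x ^ q * (x ^ q) ^ q) := fun x => by
    rw [pow_add, pow_add, pow_one, ← pow_mul, mul_assoc]
  have hord : ∀ x : Kˣ, x ^ ((q - 1) * (1 + q + q * q)) = 1 := fun x => by rw [← hcard, pow_card_eq_one]
  have hNq : ∀ x : Kˣ, (x ^ (1 + q + q * q)) ^ q = x ^ (1 + q + q * q) := fun x => by
    have hq1 : q = (q - 1) + 1 := by have := S.hq; omega
    conv_lhs => arg 2; rw [hq1]
    rw [pow_succ, ← pow_mul, mul_comm (1 + q + q * q), hord, one_mul]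
  obtain ⟨f, hf⟩ : ∃ f : Kˣ →* Kˣ, ∀ x, f x = x ^ 4 * (x ^ (1 + q + q * q))⁻¹ :=
    ⟨MonoidHom.mk' (fun x => x ^ 4 * (x ^ (1 + q + q * q))⁻¹) fun a b => by
      simp only [mul_pow, _root_.mul_inv]; exact mul_mul_mul_comm _ _ _ _, fun _ => rfl⟩
  have hinj : Function.Injective f := by
    rw [injective_iff_map_eq_one]
    intro x hx
    rw [hf, mul_inv_eq_one] at hx
    have h1 : x ^ (4 * (q - 1)) = 1 := by rw [pow_mul, hx, ← pow_mul, mul_comm, hord]
    have hodd : Nat.Coprime (1 + q + q * q) 4 := by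
      rw [show (4 : ℕ) = 2 ^ 2 by rfl]
      refine Nat.Coprime.pow_right 2 ((Nat.prime_two.coprime_iff_not_dvd).2 ?_).symm
      obtain ⟨c, hc⟩ := Nat.even_mul_succ_self q
      rw [show q * (q + 1) = q + q * q by ring] at hc
      omega
    have h2 : x ^ (q - 1) = 1 := by
      have := pow_gcd_eq_one.2 ⟨h1, hord x⟩
      rwa [mul_comm 4, Nat.gcd_mul_left, Nat.gcd_comm, hodd, mul_one] at this
    have h3 : x ^ q = x := by
      have hq1 : q = (q - 1) + 1 := by have := S.hq; omega
      rw [hq1, pow_succ, h2, one_mul]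
    rw [hN, h3, h3, show x ^ 4 = x * (x * x) * x by rw [pow_succ, pow_three]] at hx
    exact mul_eq_left.1 hx
  have hu : f z ≠ 1 := fun h => by
    have hz1 : z = 1 := hinj (h.trans (map_one f).symm)
    have := Fintype.card_le_one_iff.2 (fun a b : Kˣ => by
      have ha := hz a; have hb := hz b
      rw [hz1, Subgroup.zpowers_one_eq_bot, Subgroup.mem_bot] at ha hb
      rw [ha, hb])
    rw [hcard] at this
    nlinarith [S.hq, Nat.sub_add_cancel (show 1 ≤ q by have := S.hq; omega)]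
  have hgen : ∀ x, x ∈ Subgroup.zpowers (f z) := fun x => by
    obtain ⟨y, rfl⟩ := (Finite.injective_iff_surjective.1 hinj) x
    obtain ⟨k, rfl⟩ := Subgroup.mem_zpowers_iff.1 (hz y)
    exact ⟨k, (map_zpow f z k).symm⟩
  obtain ⟨h, hh⟩ : ∃ h : GL chevD4.Idx K, h = torus chevD4 K (S.crd (z ^ 2) (z ^ (1 + q + q * q))) := ⟨_, rfl⟩
  have hhm : h ∈ twistedD4 K q := hh ▸ S.torus_mem (hNq z)
  have hval : ∀ t m : Kˣ, torChar chevD4 (S.crd t m) 14 = m ^ 2 * (t * (t ^ q * (t ^ q) ^ q))⁻¹ ∧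
      torChar chevD4 (S.crd t m) 18 = t ^ 2 * m⁻¹ := fun t m => by
    have e : ∀ (c : Fin 4 → Kˣ) (r : ℕ), torChar chevD4 c r = c 0 ^ chevD4.cartan 0 r * c 1 ^ chevD4.cartan 1 r *
        c 2 ^ chevD4.cartan 2 r * c 3 ^ chevD4.cartan 3 r :=
      fun c r => Fin.prod_univ_four (fun i : Fin 4 => c i ^ chevD4.cartan i.val r)
    have hv : (List.range 4).map (fun i => chevD4.cartan i 14) = [-1, 2, -1, -1] ∧
        (List.range 4).map (fun i => chevD4.cartan i 18) = [2, -1, 0, 0] := by decide +kernel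
    simp only [List.range_succ, List.range_zero, List.map_append, List.map_cons, List.map_nil,
      List.nil_append, List.cons_append, List.cons.injEq, and_true] at hv
    obtain ⟨⟨a0, a1, a2, a3⟩, b0, b1, b2, b3⟩ := hv
    refine ⟨(e _ _).trans ?_, (e _ _).trans ?_⟩
    · rw [a0, a1, a2, a3]
      show t ^ (-1 : ℤ) * m ^ (2 : ℤ) * (t ^ q) ^ (-1 : ℤ) * ((t ^ q) ^ q) ^ (-1 : ℤ) = _
      rw [zpow_neg_one, zpow_neg_one, zpow_neg_one, zpow_ofNat, _root_.mul_inv, _root_.mul_inv]
      ac_rfl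
    · rw [b0, b1, b2, b3]
      show t ^ (2 : ℤ) * m ^ (-1 : ℤ) * (t ^ q) ^ (0 : ℤ) * ((t ^ q) ^ q) ^ (0 : ℤ) = _
      rw [zpow_zero, zpow_zero, zpow_neg_one, zpow_ofNat, mul_one, mul_one]
  have hc14 : torChar chevD4 (S.crd (z ^ 2) (z ^ (1 + q + q * q))) 14 = 1 := by
    rw [(hval _ _).1, ← hN, ← pow_mul, ← pow_mul, mul_comm 2, mul_inv_cancel]
  have hc18 : torChar chevD4 (S.crd (z ^ 2) (z ^ (1 + q + q * q))) 18 = f z := by
    rw [(hval _ _).2, hf, ← pow_mul]
  obtain ⟨b, hb⟩ : ∃ b : GL chevD4.Idx K, b = nw factsD4 wD * XB S 1 := ⟨_, rfl⟩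
  have hXm : ∀ t, XB S t ∈ twistedD4 K q := fun t => S.B_mem (Or.inl rfl) t
  have hbm : b ∈ twistedD4 K q := hb ▸ mul_mem (nu_mem S) (hXm 1)
  have ham : h * factsD4.xg 14 (1 : K) ∈ twistedD4 K q :=
    mul_mem hhm (S.A_mem (Or.inl rfl) (one_pow q))
  refine ⟨⟨_, ham⟩, ⟨_, hbm⟩, Subgroup.map_injective (twistedD4 K q).subtype_injective ?_⟩
  rw [MonoidHom.map_closure, ← MonoidHom.range_eq_map, Subgroup.range_subtype, Set.image_pair]
  set H : Subgroup (GL chevD4.Idx K) := Subgroup.closure {h * factsD4.xg 14 (1 : K), b} with hH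
  refine le_antisymm ((Subgroup.closure_le _).2 (by rintro x (rfl | rfl) <;> assumption)) ?_
  change twistedD4 K q ≤ H
  have hab : h * factsD4.xg 14 (1 : K) ∈ H := Subgroup.subset_closure (Or.inl rfl)
  have hbH : b ∈ H := Subgroup.subset_closure (Or.inr rfl)
  have hcomm : Commute h (factsD4.xg 14 (1 : K)) := by
    have := factsD4.torus_conj (F := K) (S.crd (z ^ 2) (z ^ (1 + q + q * q))) (s := 14) (by decide) 1
    rwa [hc14, Units.val_one, one_mul, ← hh, mul_inv_eq_iff_eq_mul] at this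
  have hpow : h ^ (Fintype.card K - 1) = 1 := by
    rw [hh, ← map_pow, show S.crd (z ^ 2) (z ^ (1 + q + q * q)) ^ (Fintype.card K - 1) = 1 from ?_, map_one]
    funext i
    rw [Pi.pow_apply, Pi.one_apply, ← Fintype.card_units, pow_card_eq_one]
  have h14 : factsD4.xg 14 (1 : K) ∈ H := by
    have := pow_mem hab (Fintype.card K - 1)
    rw [hcomm.mul_pow, hpow, one_mul, xg_pow_card factsD4] at this
    exact inv_mem_iff.1 this
  have hhH : h ∈ H := by simpa using mul_mem hab (inv_mem h14)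
  have hXconj : ∀ (t m : Kˣ), m ^ q = m → ∀ x : K, torus chevD4 K (S.crd t m) * XB S x *
      (torus chevD4 K (S.crd t m))⁻¹ = XB S ((torChar chevD4 (S.crd t m) 18 : K) * x) := by
    intro t m hm x
    have hg := S.le_fix (S.torus_mem (t := t) hm)
    have hsig : ∀ r, r ∈ ([18, 13] : List ℕ) → ∀ y : K, S.T.sig (factsD4.xg r y) =
        factsD4.xg (graphD4a.img r) (y ^ q) := by
      intro r hr y
      have hlt : r < 24 := by revert r; decide
      have hsg : graphD4a.sign r = 1 := by revert r; decide +kernel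
      rw [S.T.sig_x r hlt, factsD4.imgX_lt S.T.R hlt, S.expo_one hlt, pow_one, S.hfr, S.hR, hsg,
        Int.cast_one, one_mul]
    have hstep : ∀ g : GL chevD4.Idx K, g ∈ chevD4.group K → ∀ g' : GL chevD4.Idx K,
        torus chevD4 K (S.crd t m) * g * (torus chevD4 K (S.crd t m))⁻¹ = g' →
        torus chevD4 K (S.crd t m) * S.T.sig g * (torus chevD4 K (S.crd t m))⁻¹ = S.T.sig g' := by
      intro g hg' g' h
      rw [← h, S.T.sig_mul _ (mul_mem hg.1 hg') _ (inv_mem hg.1), S.T.sig_mul _ hg.1 _ hg', S.T.sig_inv hg.1,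
        hg.2]
    have h18 := factsD4.torus_conj (F := K) (S.crd t m) (s := 18) (by decide) x
    have h13 := hstep _ (factsD4.xg_mem_group _ _) _ h18
    rw [hsig 18 (by simp), hsig 18 (by simp), show graphD4a.img 18 = 13 from rfl] at h13
    have h12 := hstep _ (factsD4.xg_mem_group _ _) _ h13
    rw [hsig 13 (by simp), hsig 13 (by simp), show graphD4a.img 13 = 12 from rfl] at h12
    simp only [XB, CommSys.prodOver, Facts.sys_x, List.map_cons, List.map_nil, List.prod_cons,
      List.prod_nil, mul_one, cB]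
    norm_num
    rw [← h18, ← h12, ← h13]
    group
  have hX : ∀ x, XB S x ∈ H := by
    have h1 : XB S (1 - (f z : K)) ∈ H := by
      have := mul_mem hhH (mul_mem (mul_mem (inv_mem hbH) hhH) hbH)
      rw [show h * (b⁻¹ * h * b) = (h * XB S (-1) * h⁻¹) * XB S 1 by
        rw [hb, XB_neg]
        have hinv : (nw factsD4 (F := K) wD)⁻¹ * h * nw factsD4 wD = h⁻¹ := by
          have e := congrArg (fun g => ((nw factsD4 (F := K) wD)⁻¹ * g * nw factsD4 wD)⁻¹)
            (nu_inverts S (S.crd (z ^ 2) (z ^ (1 + q + q * q))))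
          rw [← hh] at e
          simpa [_root_.mul_inv_rev, mul_assoc] using e.symm
        calc h * ((nw factsD4 wD * XB S 1)⁻¹ * h * (nw factsD4 wD * XB S 1))
            = h * ((XB S 1)⁻¹ * ((nw factsD4 wD)⁻¹ * h * nw factsD4 wD) * XB S 1) := by group
          _ = _ := by rw [hinv]; group] at this
      rw [hh, hXconj _ _ (hNq z), hc18, ← XB_add] at this
      rwa [show (f z : K) * (-1) + 1 = 1 - (f z : K) by ring] at this
    refine addSubgroup_eq_top
      { carrier := {x | XB S x ∈ H}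
        add_mem' := fun {a c} ha hc => show XB S (a + c) ∈ H by rw [XB_add]; exact mul_mem ha hc
        zero_mem' := show XB S 0 ∈ H by rw [XB_zero]; exact one_mem H
        neg_mem' := fun {a} ha => show XB S (-a) ∈ H by rw [XB_neg]; exact inv_mem ha }
      (f z) hgen 1 (Or.inl rfl) (c := 1 - (f z : K))
      (sub_ne_zero.2 fun e => hu (Units.ext e.symm)) h1 fun a ha => ?_
    show XB S _ ∈ H
    rw [zpow_one, ← hc18, ← hXconj _ _ (hNq z), ← hh]
    exact mul_mem (mul_mem hhH ha) (inv_mem hhH)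
  have hn : nw factsD4 (F := K) wD ∈ H := by simpa [hb] using mul_mem hbH (inv_mem (hX 1))
  have hY : ∀ x, YB S x ∈ H := fun x => by
    obtain ⟨e, he, hc⟩ := nu_conj_B S x
    have h1 := hc ▸ mul_mem (mul_mem hn (hX x)) (inv_mem hn)
    rcases he with rfl | rfl
    · rwa [one_mul] at h1
    · rw [neg_one_mul, YB_neg] at h1
      exact inv_mem_iff.1 h1
  have hm1 : (-1 : K) ^ q = -1 := by rw [← S.hfr, map_neg, map_one]
  have hB : ∀ t : Kˣ, torus chevD4 K (S.crd t 1) ∈ H := fun t => by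
    have hi : ∀ x : K, (-x⁻¹) ^ q = -(x ^ q)⁻¹ := fun x => by rw [← S.hfr, map_neg, map_inv₀, S.hfr]
    have hh' := factsD4.prod_hg_mem (L := [18, 13, 12]) (by decide) (by decide +kernel) H (cB q (t : K))
      (hX _)
      (by simpa [YB, CommSys.prodOver, Facts.sys_x, cB, hi, show chevD4.neg 18 = 5 from rfl,
        show chevD4.neg 13 = 10 from rfl, show chevD4.neg 12 = 11 from rfl] using hY (-(t : K)⁻¹))
      (by simpa [XB, CommSys.prodOver, cB, hm1] using hX (-1 : K))
      (by simpa [YB, CommSys.prodOver, Facts.sys_x, cB, show chevD4.neg 18 = 5 from rfl,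
        show chevD4.neg 13 = 10 from rfl, show chevD4.neg 12 = 11 from rfl] using hY 1)
    have e : S.crd t 1 = Pi.mulSingle 0 t * (Pi.mulSingle 2 (t ^ q) * Pi.mulSingle 3 ((t ^ q) ^ q)) := by
      funext j
      match j with
      | ⟨0, _⟩ => show t = t * (1 * 1); simp
      | ⟨1, _⟩ => show (1 : Kˣ) = 1 * (1 * 1); simp
      | ⟨2, _⟩ => show t ^ q = 1 * (t ^ q * 1); simp
      | ⟨3, _⟩ => show (t ^ q) ^ q = 1 * (1 * (t ^ q) ^ q); simp
    rw [e, map_mul, map_mul, factsD4.torus_single, factsD4.torus_single, factsD4.torus_single]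
    simpa [cB, ← Units.val_pow_eq_pow_val, show chevD4.simple 0 = 18 from rfl, show chevD4.simple 2 = 13 from rfl,
      show chevD4.simple 3 = 12 from rfl, show chevD4.simple (2 % chevD4.rank) = 13 from rfl,
      show chevD4.simple (3 % chevD4.rank) = 12 from rfl] using hh'
  have hA : ∀ t : K, t ^ q = t → factsD4.xg 14 t ∈ H := by
    intro t ht
    rcases eq_or_ne t 0 with rfl | ht0
    · rw [factsD4.xg_zero]; exact one_mem H
    obtain ⟨k, hk⟩ := mem_powers_iff_mem_zpowers.2 (hz (Units.mk0 t ht0))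
    dsimp only at hk
    have hkq : z ^ (k * (q - 1)) = 1 := by
      have hu' : Units.mk0 t ht0 ^ (q - 1) = 1 := by
        refine mul_right_cancel (b := Units.mk0 t ht0) ?_
        rw [← pow_succ, one_mul, show q - 1 + 1 = q by have := S.hq; omega]
        exact Units.ext (by simpa using ht)
      rw [pow_mul, hk, hu']
    have hdvd := orderOf_dvd_of_pow_eq_one hkq
    rw [orderOf_eq_card_of_forall_mem_zpowers hz, Nat.card_eq_fintype_card, hcard, mul_comm k] at hdvd
    obtain ⟨j, rfl⟩ := Nat.dvd_of_mul_dvd_mul_left (by have := S.hq; omega) hdvd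
    rw [pow_mul] at hk
    have hm : (z ^ (1 + q + q * q)) ^ j = Units.mk0 t ht0 := hk
    have hstep := factsD4.torus_conj (F := K) (S.crd ((z ^ j)⁻¹) 1) (s := 14) (by decide) 1
    rw [(hval _ _).1, one_pow, one_mul, ← hN, inv_pow, inv_inv, mul_one, ← pow_mul, mul_comm j, pow_mul, hm,
      Units.val_mk0] at hstep
    rw [← hstep]
    exact mul_mem (mul_mem (hB _) h14) (inv_mem (hB _))
  have hA' : ∀ t : K, t ^ q = t → factsD4.xg 9 t ∈ H := by
    intro t ht
    obtain ⟨e, he, hc⟩ := nw_conj factsD4 wD_lt (r := 14) (by decide) t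
    rw [(wD_spec (r := 14) (by decide)).1, show chevD4.neg 14 = 9 from rfl] at hc
    have h1 := hc ▸ mul_mem (mul_mem hn (hA t ht)) (inv_mem hn)
    rcases he with rfl | rfl
    · rwa [one_mul] at h1
    · rw [neg_one_mul, factsD4.xg_neg] at h1
      exact inv_mem_iff.1 h1
  refine (Subgroup.closure_le _).2 ?_
  rintro g ⟨w, hw, hgw⟩
  rw [show g = factsD4.wg w from Units.ext (by rw [hgw, factsD4.coe_wg])]
  rcases hw with ⟨t, ht, r, hr, rfl⟩ | ⟨t, rs, hrs, rfl⟩
  · simp only [List.mem_cons, List.not_mem_nil, or_false, d4p2, d4m2] at hr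
    rcases hr with rfl | rfl
    · simpa [Facts.wg] using hA t ht
    · simpa [Facts.wg] using hA' t ht
  · have hq2 : t ^ (q ^ 2) = (t ^ q) ^ q := by rw [← pow_mul, pow_two]
    simp only [List.mem_cons, List.not_mem_nil, or_false] at hrs
    rcases hrs with rfl | rfl
    · simpa [Facts.wg, XB, CommSys.prodOver, Facts.sys_x, cB, hq2, d4p1, d4p3, d4p4] using hX t
    · simpa [Facts.wg, YB, CommSys.prodOver, Facts.sys_x, cB, hq2, d4m1, d4m3, d4m4] using hY t

end Cfsg.Agent.Small.TwoGen.D4
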