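import Cfsg.Agent.Lib.Small.TwoGen.Basic
import Cfsg.Agent.Lib.Lie.TwistE6H
import Cfsg.Agent.Lib.Lie.TwistE6S
import Mathlib.FieldTheory.Finiteness

/-!
The twisted groups ²E₆(q) are generated by two elements.
-/

set_option autoImplicit false
set_option maxRecDepth 4000

namespace Cfsg.Agent.Small.TwoGen.E6

open Cfsg.Lie Cfsg.Agent.Lie
open Cfsg.Agent.Lie.E6 (Setup cB)
open scoped MatrixGroups

/-- Derivation for q ≥ 3. -/
def certTwE6 : List (ℕ × ℕ × ℕ) :=
  [(0, 56, 0), (0, 10, 0), (0, 31, 0), (0, 19, 0), (2, 19, 0), (0, 13, 0), (0, 34, 0), (2, 34, 0),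
    (0, 35, 0), (2, 35, 0), (0, 49, 0), (0, 43, 0), (0, 62, 0), (0, 41, 0), (1, 56, 9), (0, 20, 0),
    (0, 6, 0), (0, 27, 0), (0, 8, 0), (0, 46, 0), (0, 39, 0), (0, 51, 0), (0, 65, 0), (0, 44, 0),
    (0, 63, 0), (0, 25, 0)]

/-- Derivation for q = 2. -/
def certTwE6Two : List (ℕ × ℕ × ℕ) :=
  [(0, 5, 0), (0, 26, 0), (0, 14, 0), (0, 50, 0), (0, 64, 0), (1, 5, 55), (0, 15, 0), (0, 61, 0),
    (0, 40, 0), (0, 52, 0), (0, 58, 0), (0, 37, 0), (2, 37, 0), (0, 36, 0), (2, 36, 0), (0, 22, 0),
    (0, 28, 0), (0, 9, 0), (0, 30, 0), (1, 5, 40), (0, 8, 0), (0, 46, 0), (0, 39, 0), (0, 51, 0),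
    (0, 65, 0), (0, 44, 0), (0, 63, 0), (0, 25, 0)]

/-- The root elements of r, r̄ and of s, s̄ commute apart from one pair. -/
def okCom (r s : ℕ) : Option ℕ :=
  if commutes chevE6 0 r (graphE6.img r) && commutes chevE6 0 s (graphE6.img s) &&
      commutes chevE6 0 r (graphE6.img s) && commutes chevE6 0 (graphE6.img r) s then
    singleUnit chevE6 0 r s else none

/-- The word of the monomial element. -/
def wE : List ℕ := [1, 3, 2, 4, 0, 5]

theorem wE_lt : ∀ i ∈ wE, i < chevE6.rank := by decide +kernel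

/-- One step. -/
def stepFn (L : List ℕ) : ℕ × ℕ × ℕ → Option (List ℕ)
  | (0, a, _) => if L.contains a then some (wroot chevE6 wE a :: L) else none
  | (1, a, b) => if L.contains a && L.contains b then (okCom a b).map fun u => u :: L else none
  | (2, a, _) =>
    if L.contains a && graphE6.img (graphE6.img a) == a && commutes chevE6 0 a (graphE6.img a) then
      some (graphE6.img a :: L) else none
  | _ => none

/-- Run a derivation. -/
def run : List ℕ → List (ℕ × ℕ × ℕ) → Option (List ℕ)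
  | L, [] => some L
  | L, x :: xs => (stepFn L x).bind fun L' => run L' xs

/-- All generators are reached. -/
def check (r0 : ℕ) (xs : List (ℕ × ℕ × ℕ)) : Bool :=
  match run [r0] xs with
  | none => false
  | some L => [56, 42, 15, 29, 46, 39, 25, 32].all fun r => L.contains r

theorem check_general : check 56 certTwE6 = true := by decide +kernel

theorem check_two : check 5 certTwE6Two = true := by decide +kernel

theorem sign_all : ([56, 36, 42, 37, 15, 35, 29, 34, 46, 39, 25, 32] : List ℕ).all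
    (fun r => graphE6.sign r == 1) = true := by decide +kernel

theorem commutes_rev {F : Type*} [Field F] {r s : ℕ} (h : commutes chevE6 0 r s = true) (a b : F) :
    Commute (factsE6.xg r a) (factsE6.xg s b) :=
  commute_of_commutes factsE6 (bad := 0) ⟨fun h => absurd rfl h, fun h => absurd rfl h⟩ h a b

theorem table_all : (List.range 72).all (fun r => graphE6.sign (graphE6.img r) == graphE6.sign r &&
    (r == graphE6.img r || commutes chevE6 0 r (graphE6.img r))) = true := by decide +kernel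

theorem sign_img {r : ℕ} (hr : r < 72) : graphE6.sign (graphE6.img r) = graphE6.sign r := by
  have h := List.all_eq_true.1 table_all r (List.mem_range.2 hr)
  simp only [Bool.and_eq_true, beq_iff_eq] at h
  exact h.1

theorem orth_img {r : ℕ} (hr : r < 72) :
    r = graphE6.img r ∨ commutes chevE6 0 r (graphE6.img r) = true := by
  have h := List.all_eq_true.1 table_all r (List.mem_range.2 hr)
  simp only [Bool.and_eq_true, Bool.or_eq_true, beq_iff_eq] at h
  exact h.2

variable {K : Type*} [Field K] [Fintype K] {q : ℕ} (S : Setup K q)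

include S

/-- A root element times its image. -/
noncomputable def PE (r : ℕ) (t : K) : GL chevE6.Idx K := factsE6.xg r t * S.T.sig (factsE6.xg r t)

theorem sig_xg {r : ℕ} (hr : r < 72) (t : K) :
    S.T.sig (factsE6.xg r t) = factsE6.xg (graphE6.img r) ((graphE6.sign r : K) * t ^ q) := by
  rw [S.T.sig_x r hr, factsE6.imgX_lt S.T.R hr, S.expo_one hr, pow_one, S.hfr, S.hR]

theorem PE_eq {r : ℕ} (hr : r < 72) (t : K) :
    PE S r t = factsE6.xg r t * factsE6.xg (graphE6.img r) ((graphE6.sign r : K) * t ^ q) := by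
  rw [PE, sig_xg S hr]

theorem img_lt {r : ℕ} (hr : r < 72) : graphE6.img r < 72 := S.hR ▸ S.T.root_lt hr

theorem sign_sq {r : ℕ} (hr : r < 72) : (graphE6.sign r : K) * (graphE6.sign r : K) = 1 := by
  have : graphE6.sign r * graphE6.sign r = 1 := by revert r; decide +kernel
  rw [← Int.cast_mul, this, Int.cast_one]

theorem PE_zero {r : ℕ} : PE S r 0 = 1 := by rw [PE, factsE6.xg_zero, S.T.sig_one, one_mul]

theorem PE_add {r : ℕ} (hr : r < 72) (hc : r = graphE6.img r ∨ commutes chevE6 0 r (graphE6.img r) = true)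
    (a b : K) : PE S r (a + b) = PE S r a * PE S r b := by
  have hfr : (a + b) ^ q = a ^ q + b ^ q := by rw [← S.hfr, map_add, S.hfr, S.hfr]
  rw [PE_eq S hr, PE_eq S hr, PE_eq S hr, hfr, mul_add, factsE6.xg_add, factsE6.xg_add]
  have h : Commute (factsE6.xg r b) (factsE6.xg (graphE6.img r) ((graphE6.sign r : K) * a ^ q)) := by
    rcases hc with hc | hc
    · rw [← hc]
      exact (by rw [Commute, SemiconjBy, ← factsE6.xg_add, ← factsE6.xg_add, add_comm] :
        Commute (factsE6.xg r b) (factsE6.xg r ((graphE6.sign r : K) * a ^ q)))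
    · exact commutes_rev hc _ _
  exact h.mul_mul_mul_comm _ _

theorem PE_conj {m : GL chevE6.Idx K} (hm : m ∈ S.T.fix) {r u : ℕ} {t c : K}
    (h : m * factsE6.xg r t * m⁻¹ = factsE6.xg u c) : m * PE S r t * m⁻¹ = PE S u c := by
  have hs := congrArg S.T.sig h
  rw [S.T.sig_mul _ (mul_mem hm.1 (factsE6.xg_mem_group r t)) _ (inv_mem hm.1),
    S.T.sig_mul _ hm.1 _ (factsE6.xg_mem_group r t), S.T.sig_inv hm.1, hm.2] at hs
  rw [PE, PE, ← hs, ← h]
  group

theorem okCom_spec {r s u : ℕ} (h : okCom r s = some u) :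
    ∃ C : K, (C = 1 ∨ C = -1) ∧ r < 72 ∧ s < 72 ∧ u < 72 ∧ ∀ a b : K,
      (PE S r a * PE S s b)⁻¹ * (PE S s b * PE S r a) = PE S u (C * a * b) := by
  unfold okCom at h
  split at h
  swap
  · exact absurd h (by simp)
  rename_i hc
  simp only [Bool.and_eq_true] at hc
  obtain ⟨⟨⟨h1, h2⟩, h3⟩, h4⟩ := hc
  obtain ⟨C, hC, hk⟩ := comm_singleUnit (F := K) factsE6 (bad := 0)
    ⟨fun h => absurd rfl h, fun h => absurd rfl h⟩ h
  obtain ⟨hr, -⟩ := commutes_lt h1
  obtain ⟨hs, -⟩ := commutes_lt h2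
  have hu : u < 72 := by
    unfold singleUnit at h
    split at h
    swap
    · exact absurd h (by simp)
    rename_i hok
    split at h
    swap
    · exact absurd h (by simp)
    rename_i c hl
    split at h
    swap
    · exact absurd h (by simp)
    simp only [Option.some.injEq] at h
    obtain ⟨hr', hs'⟩ := okPairRoots_lt hok
    exact h ▸ factsE6.commTerms_lt hr' hs' c (List.mem_of_mem_filter (hl ▸ List.mem_singleton_self c))
  refine ⟨C, hC, hr, hs, hu, fun a b => ?_⟩
  have gx := factsE6.xg_mem_group (F := K) r a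
  have gy := factsE6.xg_mem_group (F := K) s b
  have e2 := congrArg S.T.sig (hk a b)
  rw [S.T.sig_mul _ (inv_mem (mul_mem gx gy)) _ (mul_mem gy gx), S.T.sig_inv (mul_mem gx gy),
    S.T.sig_mul _ gx _ gy, S.T.sig_mul _ gy _ gx] at e2
  rw [PE, PE, PE, ← hk a b]
  rw [hk a b, ← e2, ← hk a b, sig_xg S hr, sig_xg S hs]
  generalize hx' : factsE6.xg (graphE6.img r) ((graphE6.sign r : K) * a ^ q) = x'
  generalize hy' : factsE6.xg (graphE6.img s) ((graphE6.sign s : K) * b ^ q) = y'
  have c1 : Commute (factsE6.xg r a) x' := hx' ▸ commutes_rev h1 _ _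
  have c2 : Commute (factsE6.xg s b) y' := hy' ▸ commutes_rev h2 _ _
  have c3 : Commute (factsE6.xg r a) y' := hy' ▸ commutes_rev h3 _ _
  have c4 : Commute x' (factsE6.xg s b) := hx' ▸ commutes_rev h4 _ _
  generalize factsE6.xg r a = x, factsE6.xg s b = y at c1 c2 c3 c4 ⊢
  have cx : Commute ((x * y)⁻¹ * (y * x)) (x' * y') :=
    ((c1.mul_left c4.symm).inv_left.mul_left (c4.symm.mul_left c1)).mul_right
      ((c3.mul_left c2).inv_left.mul_left (c2.mul_left c3))
  calc (x * x' * (y * y'))⁻¹ * (y * y' * (x * x'))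
      = (x * (x' * y) * y')⁻¹ * (y * (y' * x) * x') := by group
    _ = (x * (y * x') * y')⁻¹ * (y * (x * y') * x') := by rw [c4.eq, c3.eq]
    _ = (x' * y')⁻¹ * ((x * y)⁻¹ * (y * x)) * (y' * x') := by group
    _ = (x * y)⁻¹ * (y * x) * (x' * y')⁻¹ * (y' * x') := by rw [cx.inv_right.eq]
    _ = _ := by group

theorem wg_nu_mem : nw factsE6 (F := K) wE ∈ twistedE6 K q := by
  have hB : ∀ {a b : ℕ}, (a, b) ∈ ([(56, 36), (42, 37), (15, 35), (29, 34)] : List (ℕ × ℕ)) → ∀ t : K,
      t ^ q = t → factsE6.xg a t * factsE6.xg b t ∈ twistedE6 K q := by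
    intro a b h t ht
    have := Setup.B_mem (q := q) h t
    simp only [List.mem_cons, List.not_mem_nil, or_false, Prod.mk.injEq] at h
    rcases h with ⟨rfl, rfl⟩ | ⟨rfl, rfl⟩ | ⟨rfl, rfl⟩ | ⟨rfl, rfl⟩ <;>
      simpa [CommSys.prodOver, Facts.sys_x, cB, ht] using this
  have hm1 : (-1 : K) ^ q = -1 := by rw [← S.hfr, map_neg, map_one]
  have hn : ∀ r, r = 46 ∨ r = 39 → factsE6.ng r (1 : K) ∈ twistedE6 K q := by
    rintro r (rfl | rfl) <;> rw [factsE6.ng_eq, inv_one]
    · exact mul_mem (mul_mem (Setup.A_mem (by simp) (one_pow q))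
        (Setup.A_mem (r := chevE6.neg 46) (by decide) hm1)) (Setup.A_mem (by simp) (one_pow q))
    · exact mul_mem (mul_mem (Setup.A_mem (by simp) (one_pow q))
        (Setup.A_mem (r := chevE6.neg 39) (by decide) hm1)) (Setup.A_mem (by simp) (one_pow q))
  have hp : ∀ a b, commutes chevE6 0 a b = true → commutes chevE6 0 a (chevE6.neg b) = true →
      commutes chevE6 0 (chevE6.neg a) b = true → commutes chevE6 0 (chevE6.neg a) (chevE6.neg b) = true →
      (a, b) ∈ ([(56, 36), (42, 37), (15, 35), (29, 34)] : List (ℕ × ℕ)) →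
      (chevE6.neg a, chevE6.neg b) ∈ ([(56, 36), (42, 37), (15, 35), (29, 34)] : List (ℕ × ℕ)) →
      factsE6.ng a (1 : K) * factsE6.ng b (1 : K) ∈ twistedE6 K q := by
    intro a b h1 h2 h3 h4 h5 h6
    have := mul_mem (mul_mem (hB h5 1 (one_pow q)) (hB h6 (-1) hm1)) (hB h5 1 (one_pow q))
    rw [factsE6.ng_eq, factsE6.ng_eq, inv_one]
    convert this using 1
    have d1 := commutes_rev (F := K) h1 1 1
    have d2 := commutes_rev (F := K) h2 1 (-1)
    have d3 := commutes_rev (F := K) h3 (-1) 1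
    generalize factsE6.xg a (1 : K) = x, factsE6.xg b (1 : K) = y, factsE6.xg (chevE6.neg a) (-1 : K) = u,
      factsE6.xg (chevE6.neg b) (-1 : K) = v at d1 d2 d3 ⊢
    calc x * u * x * (y * v * y) = x * u * (x * y) * v * y := by group
      _ = x * (u * y) * (x * v) * y := by rw [d1.eq]; group
      _ = x * y * u * (v * x) * y := by rw [d3.eq, d2.eq]; group
      _ = _ := by group
  rw [show nw factsE6 (F := K) wE = factsE6.ng 46 1 * (factsE6.ng 39 1 *
      ((factsE6.ng 42 1 * factsE6.ng 37 1) * (factsE6.ng 56 1 * factsE6.ng 36 1))) by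
    simp [nw, wE, mul_assoc, show chevE6.simple 1 = 46 from rfl, show chevE6.simple 3 = 39 from rfl,
      show chevE6.simple 2 = 42 from rfl, show chevE6.simple 4 = 37 from rfl,
      show chevE6.simple 0 = 56 from rfl, show chevE6.simple 5 = 36 from rfl]]
  exact mul_mem (hn 46 (Or.inl rfl)) (mul_mem (hn 39 (Or.inr rfl))
    (mul_mem (hp 42 37 (by decide +kernel) (by decide +kernel) (by decide +kernel) (by decide +kernel)
        (by decide) (by decide)) (hp 56 36 (by decide +kernel) (by decide +kernel) (by decide +kernel)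
        (by decide +kernel) (by decide) (by decide))))

theorem nu_conj {r : ℕ} (hr : r < 72) (t : K) :
    ∃ e : K, (e = 1 ∨ e = -1) ∧
      nw factsE6 wE * PE S r t * (nw factsE6 wE)⁻¹ = PE S (wroot chevE6 wE r) (e * t) := by
  obtain ⟨e, he, hc⟩ := nw_conj factsE6 wE_lt hr t
  exact ⟨e, he, PE_conj S (S.le_fix (wg_nu_mem S)) hc⟩

theorem PE_neg_mem {H : Subgroup (GL chevE6.Idx K)} {r : ℕ} (hr : r < 72) {t : K}
    (h : PE S r t ∈ H) : PE S r (-t) ∈ H := by
  have hc := orth_img hr
  have : PE S r (-t) * PE S r t = 1 := by rw [← PE_add S hr hc, neg_add_cancel, PE_zero]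
  rw [eq_inv_of_mul_eq_one_left this]
  exact inv_mem h

/-- All elements of the pair of r are in the subgroup. -/
def Full (H : Subgroup (GL chevE6.Idx K)) (r : ℕ) : Prop := r < 72 ∧ ∀ t : K, PE S r t ∈ H

theorem step_sound {H : Subgroup (GL chevE6.Idx K)} (hn : nw factsE6 (F := K) wE ∈ H) {L L' : List ℕ}
    (hL : ∀ r ∈ L, Full S H r) (x : ℕ × ℕ × ℕ) (h : stepFn L x = some L') : ∀ r ∈ L', Full S H r := by
  unfold stepFn at h
  split at h
  all_goals try (exact (Option.some_ne_none _ h.symm).elim)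
  all_goals (split at h; swap; · exact (Option.some_ne_none _ h.symm).elim)
  all_goals rename_i hcond
  all_goals simp only [Bool.and_eq_true, beq_iff_eq, List.contains_iff_mem] at hcond
  all_goals try simp only [Option.some.injEq] at h
  all_goals try subst h
  · obtain ⟨hr, hf⟩ := hL _ hcond
    refine List.forall_mem_cons.2 ⟨⟨wroot_lt factsE6 wE_lt hr, fun t => ?_⟩, hL⟩
    obtain ⟨e, he, hc⟩ := nu_conj S hr t
    have hlt : wroot chevE6 wE _ < 72 := wroot_lt factsE6 wE_lt hr
    have hm : PE S (wroot chevE6 wE _) (e * t) ∈ H := hc ▸ mul_mem (mul_mem hn (hf t)) (inv_mem hn)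
    rcases he with rfl | rfl
    · rwa [one_mul] at hm
    · rw [neg_one_mul] at hm
      simpa using PE_neg_mem S hlt hm
  · obtain ⟨u, hu, rfl⟩ := Option.map_eq_some_iff.1 h
    obtain ⟨C, hC, hr, hs, hult, hk⟩ := okCom_spec S hu
    refine List.forall_mem_cons.2 ⟨⟨hult, fun t => ?_⟩, hL⟩
    have hCC : C * C = 1 := by rcases hC with rfl | rfl <;> simp
    have := hk (C * t) 1
    rw [mul_one (C * (C * t)), ← mul_assoc C C t, hCC, one_mul] at this
    exact this ▸ mul_mem (inv_mem (mul_mem ((hL _ hcond.1).2 _) ((hL _ hcond.2).2 _)))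
      (mul_mem ((hL _ hcond.2).2 _) ((hL _ hcond.1).2 _))
  · obtain ⟨hr, hf⟩ := hL _ hcond.1.1
    obtain ⟨hi, hc⟩ := hcond.1.2, hcond.2
    refine List.forall_mem_cons.2 ⟨⟨img_lt S hr, fun t => ?_⟩, hL⟩
    rename_i a _
    have hsg := sign_sq S hr
    have hss : (graphE6.sign (graphE6.img a) : K) = (graphE6.sign a : K) := by
      rw [sign_img hr]
    have hs1 : (graphE6.sign a : K) ^ q = (graphE6.sign a : K) := by rw [← S.hfr, map_intCast]
    have := hf ((graphE6.sign a : K) * t ^ q)
    rw [PE_eq S hr, mul_pow, hs1, S.pow_sq, ← mul_assoc, hsg, one_mul, (commutes_rev hc _ _).eq] at this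
    rw [PE_eq S (img_lt S hr), hi, hss]
    exact this

theorem run_sound {H : Subgroup (GL chevE6.Idx K)} (hn : nw factsE6 (F := K) wE ∈ H)
    (xs : List (ℕ × ℕ × ℕ)) {L L' : List ℕ} (hL : ∀ r ∈ L, Full S H r) (h : run L xs = some L') :
    ∀ r ∈ L', Full S H r := by
  induction xs generalizing L with
  | nil => simp only [run, Option.some.injEq] at h; exact h ▸ hL
  | cons x xs ih =>
    simp only [run, Option.bind_eq_some_iff] at h
    obtain ⟨L1, h1, h2⟩ := h
    exact ih (step_sound S hn hL x h1) h2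

theorem exists_trace (t : K) (ht : t ^ q = t) : ∃ v : K, v + v ^ q = t := by
  obtain ⟨a, ha⟩ : ∃ a : K, a + a ^ q ≠ 0 := by
    by_contra h
    simp only [not_exists, not_not] at h
    have h1 := h 1
    rw [one_pow] at h1
    have hall : ∀ a : K, a ^ q = a := fun a => by linear_combination h a - a * h1
    have hc := card_pow_eq_self (q := q) (F := K) S.hq S.hK
    rw [Nat.card_congr (Equiv.subtypeUnivEquiv hall), S.hK] at hc
    nlinarith [S.hq]
  refine ⟨t / (a + a ^ q) * a, ?_⟩
  have e : (t / (a + a ^ q)) ^ q = t / (a + a ^ q) := by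
    rw [div_pow, ht, ← S.hfr, map_add, S.hfr, S.hfr, S.pow_sq, add_comm]
  rw [mul_pow, e]
  field_simp

theorem le_of_full {H : Subgroup (GL chevE6.Idx K)} (hn : nw factsE6 (F := K) wE ∈ H) {r0 : ℕ}
    (h0 : Full S H r0) {xs : List (ℕ × ℕ × ℕ)} (h : check r0 xs = true) : twistedE6 K q ≤ H := by
  unfold check at h
  split at h
  · exact absurd h (by simp)
  rename_i L hL
  have hg := run_sound S hn xs (L := [r0]) (fun r hr => by rw [List.mem_singleton.1 hr]; exact h0) hL
  simp only [List.all_eq_true, List.contains_iff_mem] at h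
  have hsign : ∀ r ∈ ([56, 36, 42, 37, 15, 35, 29, 34, 46, 39, 25, 32] : List ℕ), (graphE6.sign r : K) = 1 :=
    fun r hr => by rw [beq_iff_eq.1 (List.all_eq_true.1 sign_all r hr), Int.cast_one]
  refine (Subgroup.closure_le _).2 ?_
  rintro g ⟨w, hw, hgw⟩
  rw [show g = factsE6.wg w from Units.ext (by rw [hgw, factsE6.coe_wg])]
  rcases hw with ⟨t, ht, r, hr, rfl⟩ | ⟨t, rs, hrs, rfl⟩
  · simp only [List.mem_cons, List.not_mem_nil, or_false, e6p2, e6m2, e6p4, e6m4] at hr
    obtain ⟨v, hv⟩ := exists_trace S t ht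
    have hm : r ∈ L ∧ r < 72 ∧ graphE6.img r = r ∧ r ∈ ([46, 39, 25, 32] : List ℕ) := by
      rcases hr with rfl | rfl | rfl | rfl <;> exact ⟨h _ (by simp), by decide, rfl, by simp⟩
    have := (hg r hm.1).2 v
    rw [PE_eq S hm.2.1, hm.2.2.1, hsign r (by simp at hm ⊢; omega), one_mul, ← factsE6.xg_add, hv] at this
    simpa [Facts.wg] using this
  · simp only [List.mem_cons, List.not_mem_nil, or_false, e6p1, e6p6, e6m1, e6m6, e6p3, e6p5, e6m3, e6m5] at hrs
    rcases hrs with rfl | rfl | rfl | rfl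
    · have := (hg 56 (h _ (by simp))).2 t
      rw [PE_eq S (by decide), hsign 56 (by simp), one_mul] at this
      simpa [Facts.wg, show graphE6.img 56 = 36 from rfl] using this
    · have := (hg 15 (h _ (by simp))).2 t
      rw [PE_eq S (by decide), hsign 15 (by simp), one_mul] at this
      simpa [Facts.wg, show graphE6.img 15 = 35 from rfl] using this
    · have := (hg 42 (h _ (by simp))).2 t
      rw [PE_eq S (by decide), hsign 42 (by simp), one_mul] at this
      simpa [Facts.wg, show graphE6.img 42 = 37 from rfl] using this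
    · have := (hg 29 (h _ (by simp))).2 t
      rw [PE_eq S (by decide), hsign 29 (by simp), one_mul] at this
      simpa [Facts.wg, show graphE6.img 29 = 34 from rfl] using this

theorem torChar_crd (z : Kˣ) : torChar chevE6 (S.crd ((z ^ 2)⁻¹) z⁻¹ 1 1) 42 = 1 ∧
    torChar chevE6 (S.crd ((z ^ 2)⁻¹) z⁻¹ 1 1) 56 = (z ^ 3)⁻¹ := by
  have e : ∀ (c : Fin 6 → Kˣ) (r : ℕ), torChar chevE6 c r = c 0 ^ chevE6.cartan 0 r * c 1 ^ chevE6.cartan 1 r *
      c 2 ^ chevE6.cartan 2 r * c 3 ^ chevE6.cartan 3 r * c 4 ^ chevE6.cartan 4 r * c 5 ^ chevE6.cartan 5 r :=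
    fun c r => Fin.prod_univ_six (fun i : Fin 6 => c i ^ chevE6.cartan i.val r)
  have hv : (List.range 6).map (fun i => chevE6.cartan i 42) = [-1, 0, 2, -1, 0, 0] ∧
      (List.range 6).map (fun i => chevE6.cartan i 56) = [2, 0, -1, 0, 0, 0] := by decide +kernel
  simp only [List.range_succ, List.range_zero, List.map_append, List.map_cons, List.map_nil,
    List.nil_append, List.cons_append, List.cons.injEq, and_true] at hv
  obtain ⟨⟨a0, a1, a2, a3, a4, a5⟩, b0, b1, b2, b3, b4, b5⟩ := hv
  constructor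
  · refine (e _ _).trans ?_
    rw [a0, a1, a2, a3, a4, a5]
    simp [Setup.crd, ← pow_two, inv_pow]
  · refine (e _ _).trans ?_
    rw [b0, b1, b2, b3, b4, b5]
    simp [Setup.crd, inv_pow, ← pow_mul]
    group

theorem full_of_scaling (hq3 : 3 ≤ q) (A : AddSubgroup K) {z : Kˣ} (hz : ∀ x, x ∈ Subgroup.zpowers z) {c : K}
    (hc : c ≠ 0) (hcA : c ∈ A) (hinv : ∀ a ∈ A, ((z ^ 3)⁻¹ : Kˣ).val * a ∈ A) : ∀ x, x ∈ A := by
  classical
  have hmul : ∀ x y : K, (∀ a ∈ A, x * a ∈ A) → (∀ a ∈ A, y * a ∈ A) → ∀ a ∈ A, x * y * a ∈ A :=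
    fun x y hx hy a ha => by rw [mul_assoc]; exact hx _ (hy _ ha)
  have hpow : ∀ x : K, (∀ a ∈ A, x * a ∈ A) → ∀ k : ℕ, ∀ a ∈ A, x ^ k * a ∈ A := fun x hx k => by
    induction k with
    | zero => intro a ha; simpa using ha
    | succ k ih => rw [pow_succ]; exact hmul _ _ ih hx
  let R : Subfield K :=
    { carrier := {x | ∀ a ∈ A, x * a ∈ A}
      mul_mem' := fun {x y} hx hy => hmul x y hx hy
      one_mem' := fun a ha => by simpa using ha
      add_mem' := fun {x y} hx hy a ha => by rw [add_mul]; exact A.add_mem (hx a ha) (hy a ha)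
      zero_mem' := fun a _ => by simp
      neg_mem' := fun {x} hx a ha => by rw [neg_mul]; exact A.neg_mem (hx a ha)
      inv_mem' := fun x hx => by
        rcases eq_or_ne x 0 with rfl | h0
        · simpa using fun a (_ : a ∈ A) => A.zero_mem
        · have h1 := FiniteField.pow_card_sub_one_eq_one x h0
          have hgt : 2 ≤ Fintype.card K := Fintype.one_lt_card
          rw [show x⁻¹ = x ^ (Fintype.card K - 2) by
            refine inv_eq_of_mul_eq_one_left ?_
            rw [← pow_succ, show Fintype.card K - 2 + 1 = Fintype.card K - 1 by omega, h1]]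
          exact hpow x hx _ }
  have hu : ((z ^ 3)⁻¹ : Kˣ).val ∈ R := hinv
  by_cases htop : ∀ x : K, x ∈ R
  · intro x
    have h := htop (x / c) c hcA
    rwa [div_mul_cancel₀ _ hc] at h
  exfalso
  obtain ⟨x, hx⟩ := not_forall.1 htop
  have hfin : 1 < Module.finrank R K := by
    by_contra h
    have h1 : Module.finrank R K = 1 := by
      have := Module.finrank_pos (R := R) (M := K)
      omega
    obtain ⟨r, hr⟩ := (finrank_eq_one_iff_of_nonzero' (1 : K) one_ne_zero).1 h1 x
    refine hx ?_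
    rw [← hr]
    exact mul_mem r.2 (one_mem R)
  have hcard : Fintype.card K = Fintype.card R ^ Module.finrank R K := Module.card_eq_pow_finrank
  have hR : Fintype.card R ≤ q := by
    have h2 : Fintype.card R ^ 2 ≤ Fintype.card K := hcard ▸ Nat.pow_le_pow_right Fintype.card_pos hfin
    rw [← Nat.card_eq_fintype_card (α := K), S.hK] at h2
    exact (Nat.pow_le_pow_iff_left two_ne_zero).1 h2
  have h1 := FiniteField.pow_card_sub_one_eq_one (⟨_, hu⟩ : R) (fun h => Units.ne_zero ((z ^ 3)⁻¹) (congrArg Subtype.val h))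
  have h2 : ((z ^ 3)⁻¹ : Kˣ) ^ (Fintype.card R - 1) = 1 := Units.ext (by simpa using congrArg Subtype.val h1)
  rw [inv_pow, inv_eq_one, ← pow_mul] at h2
  have h3 : orderOf z = Fintype.card Kˣ := by
    rw [orderOf_eq_card_of_forall_mem_zpowers hz, Nat.card_eq_fintype_card]
  have hR1 : 1 < Fintype.card R := Fintype.one_lt_card
  have h4 := Nat.le_of_dvd (by omega) (orderOf_dvd_of_pow_eq_one h2)
  rw [h3, Fintype.card_units, ← Nat.card_eq_fintype_card (α := K), S.hK] at h4
  have h5 : 4 * q ≤ q ^ 2 + 3 := by nlinarith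
  have h6 : 3 * (Fintype.card R - 1) ≤ 3 * (q - 1) := by omega
  omega

theorem two_gen_large (hq3 : 3 ≤ q) :
    ∃ a b : ↥(twistedE6 K q), Subgroup.closure ({a, b} : Set ↥(twistedE6 K q)) = ⊤ := by
  classical
  obtain ⟨z, hz⟩ := IsCyclic.exists_generator (α := Kˣ)
  obtain ⟨h, hh⟩ : ∃ h : GL chevE6.Idx K, h = torus chevE6 K (S.crd ((z ^ 2)⁻¹) z⁻¹ 1 1) := ⟨_, rfl⟩
  have hhm : h ∈ twistedE6 K q := hh ▸ S.torus_mem (one_pow q) (one_pow q)
  have hyeq : PE S 42 1 = factsE6.xg 42 (1 : K) * factsE6.xg 37 1 := by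
    rw [PE_eq S (by decide), show graphE6.sign 42 = 1 from rfl, show graphE6.img 42 = 37 from rfl]
    simp
  have hym : PE S 42 1 ∈ twistedE6 K q := by
    rw [hyeq]
    simpa [CommSys.prodOver, Facts.sys_x, cB] using Setup.B_mem (K := K) (q := q) (a := 42) (b := 37) (by simp) 1
  have hsub : Subgroup.closure {h * PE S 42 1, nw factsE6 (F := K) wE} ≤ twistedE6 K q :=
    (Subgroup.closure_le _).2 (by rintro x (rfl | rfl); exacts [mul_mem hhm hym, wg_nu_mem S])
  set H : Subgroup (GL chevE6.Idx K) := Subgroup.closure {h * PE S 42 1, nw factsE6 wE} with hH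
  have hn : nw factsE6 (F := K) wE ∈ H := Subgroup.subset_closure (Or.inr rfl)
  have hconj : ∀ r t, r < 72 → h * PE S r t * h⁻¹ =
      PE S r ((torChar chevE6 (S.crd ((z ^ 2)⁻¹) z⁻¹ 1 1) r : K) * t) := fun r t hr =>
    PE_conj S (S.le_fix hhm) (by rw [hh]; exact factsE6.torus_conj _ hr t)
  obtain ⟨hc42, hc56⟩ := torChar_crd S z
  have hcomm : Commute h (PE S 42 1) := by
    have := hconj 42 1 (by decide)
    rwa [hc42, Units.val_one, one_mul, mul_inv_eq_iff_eq_mul] at this
  have hy : PE S 42 1 ^ (Fintype.card K - 1) = (PE S 42 1)⁻¹ := by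
    have hc : Commute (factsE6.xg 42 (1 : K)) (factsE6.xg 37 1) := commutes_rev (by decide +kernel) _ _
    rw [hyeq, hc.mul_pow, xg_pow_card, xg_pow_card, ← _root_.mul_inv_rev, hc.eq]
  have hpow : h ^ (Fintype.card K - 1) = 1 := by
    rw [hh, ← map_pow, show S.crd ((z ^ 2)⁻¹) z⁻¹ 1 1 ^ (Fintype.card K - 1) = 1 from ?_, map_one]
    funext i
    rw [Pi.pow_apply, Pi.one_apply, ← Fintype.card_units, pow_card_eq_one]
  have hab : h * PE S 42 1 ∈ H := Subgroup.subset_closure (Or.inl rfl)
  have hyH : PE S 42 1 ∈ H := by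
    have := pow_mem hab (Fintype.card K - 1)
    rw [hcomm.mul_pow, hpow, one_mul, hy] at this
    exact inv_mem_iff.1 this
  have hhH : h ∈ H := by simpa using mul_mem hab (inv_mem hyH)
  obtain ⟨e, he, hc⟩ := nu_conj S (r := 42) (by decide) 1
  have hc56m : PE S 56 (e * 1) ∈ H := by
    rw [show wroot chevE6 wE 42 = 56 by decide +kernel] at hc
    exact hc ▸ mul_mem (mul_mem hn hyH) (inv_mem hn)
  have hadd : ∀ a b : K, PE S 56 (a + b) = PE S 56 a * PE S 56 b :=
    PE_add S (by decide) (Or.inr (by decide +kernel))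
  have hfull : ∀ x : K, PE S 56 x ∈ H := full_of_scaling S hq3
    { carrier := {t | PE S 56 t ∈ H}
      add_mem' := fun {a b} ha hb => show PE S 56 (a + b) ∈ H by rw [hadd]; exact mul_mem ha hb
      zero_mem' := show PE S 56 0 ∈ H by rw [PE_zero]; exact one_mem H
      neg_mem' := fun {a} ha => show PE S 56 (-a) ∈ H from PE_neg_mem S (by decide) (show PE S 56 a ∈ H from ha) }
    hz (c := e * 1) (by rcases he with rfl | rfl <;> simp) hc56m fun a ha => by
      show PE S 56 _ ∈ H
      have := hconj 56 a (by decide)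
      rw [hc56] at this
      rw [← this]
      exact mul_mem (mul_mem hhH ha) (inv_mem hhH)
  refine ⟨⟨_, mul_mem hhm hym⟩, ⟨_, wg_nu_mem S⟩, Subgroup.map_injective (twistedE6 K q).subtype_injective ?_⟩
  rw [MonoidHom.map_closure, ← MonoidHom.range_eq_map, Subgroup.range_subtype, Set.image_pair]
  exact le_antisymm hsub (le_of_full S hn ⟨by decide, hfull⟩ check_general)

theorem two_gen_two (hq2 : q = 2) :
    ∃ a b : ↥(twistedE6 K q), Subgroup.closure ({a, b} : Set ↥(twistedE6 K q)) = ⊤ := by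
  subst hq2
  classical
  have hK : Fintype.card K = 4 := by rw [← Nat.card_eq_fintype_card, S.hK]; norm_num
  have h2 : (2 : K) = 0 := by
    have h := FiniteField.cast_card_eq_zero K
    rw [hK] at h
    push_cast at h
    have : (2 : K) * 2 = 0 := by linear_combination h
    rcases mul_eq_zero.1 this with h | h <;> exact h
  have hsame : ∀ e : K, e = 1 ∨ e = -1 → e = 1 := by
    rintro e (rfl | rfl)
    · rfl
    · linear_combination -h2
  obtain ⟨ω, hω⟩ : ∃ ω : K, ω ^ 2 ≠ ω := by
    by_contra h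
    simp only [not_exists, not_not] at h
    have hc := card_pow_eq_self (q := 2) (F := K) le_rfl S.hK
    rw [Nat.card_congr (Equiv.subtypeUnivEquiv h), S.hK] at hc
    norm_num at hc
  have hω0 : ω ≠ 0 := by rintro rfl; simp at hω
  have hω1 : ω ≠ 1 := by rintro rfl; simp at hω
  obtain ⟨ν, hν⟩ : ∃ ν : GL chevE6.Idx K, ν = nw factsE6 wE := ⟨_, rfl⟩
  obtain ⟨y, hy⟩ : ∃ y : GL chevE6.Idx K, y = PE S 7 ω * PE S 3 1 := ⟨_, rfl⟩
  have hfixmem : ∀ r, r < 72 → graphE6.img (graphE6.img r) = r → commutes chevE6 0 r (graphE6.img r) = true →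
      ∀ t : K, PE S r t ∈ S.T.fix := by
    intro r hr hrr hc t
    refine ⟨mul_mem (factsE6.xg_mem_group _ _) (S.T.sig_mem (factsE6.xg_mem_group _ _)), ?_⟩
    have hsg := sign_sq S hr
    have hss : (graphE6.sign (graphE6.img r) : K) = (graphE6.sign r : K) := by
      rw [sign_img hr]
    have hs1 : (graphE6.sign r : K) ^ 2 = (graphE6.sign r : K) := by rw [← S.hfr, map_intCast]
    rw [PE, S.T.sig_mul _ (factsE6.xg_mem_group _ _) _ (S.T.sig_mem (factsE6.xg_mem_group _ _)), sig_xg S hr,
      sig_xg S (img_lt S hr), hrr, hss, mul_pow, hs1, S.pow_sq, ← mul_assoc, hsg, one_mul]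
    exact (commutes_rev hc _ _).eq.symm
  have hmem : ∀ r, r < 36 → graphE6.img r < 36 → graphE6.img (graphE6.img r) = r →
      commutes chevE6 0 r (graphE6.img r) = true → ∀ t : K, PE S r t ∈ twistedE6 K 2 := by
    intro r hr hr' hrr hc t
    refine S.data.neg_fix_le (L := [r, graphE6.img r]) (fun s hs => ?_) ?_ (hfixmem r (by omega) hrr hc t)
    · simp only [List.mem_cons, List.not_mem_nil, or_false] at hs
      rcases hs with rfl | rfl <;> assumption
    · rw [PE_eq S (by omega)]
      exact mul_mem (CommSys.x_mem_US _ (by simp) _) (CommSys.x_mem_US _ (by simp) _)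
  have hsub : Subgroup.closure {y, ν} ≤ twistedE6 K 2 :=
    (Subgroup.closure_le _).2 (by
      rintro x (rfl | rfl)
      · exact hy ▸ mul_mem (hmem 7 (by decide) (by decide +kernel) (by decide +kernel) (by decide +kernel) ω)
          (hmem 3 (by decide) (by decide +kernel) (by decide +kernel) (by decide +kernel) 1)
      · exact hν ▸ wg_nu_mem S)
  set H : Subgroup (GL chevE6.Idx K) := Subgroup.closure {y, ν} with hH
  have hn : nw factsE6 (F := K) wE ∈ H := hν ▸ Subgroup.subset_closure (Or.inr rfl)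
  have hy0 : PE S 7 ω * PE S 3 1 ∈ H := hy ▸ Subgroup.subset_closure (Or.inl rfl)
  have hmove : ∀ r u : ℕ, r < 72 → wroot chevE6 wE r = u → ∀ t : K,
      nw factsE6 wE * PE S r t * (nw factsE6 wE)⁻¹ = PE S u t := by
    intro r u hr hu t
    obtain ⟨e, he, hc⟩ := nu_conj S hr t
    rwa [hu, hsame e he, one_mul] at hc
  have hmove1 : ∀ r u : ℕ, r < 72 → wroot chevE6 wE r = u → ∀ t : K, PE S r t ∈ H → PE S u t ∈ H :=
    fun r u hr hu t ht => hmove r u hr hu t ▸ mul_mem (mul_mem hn ht) (inv_mem hn)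
  have hmove2 : ∀ r s u v : ℕ, r < 72 → s < 72 → wroot chevE6 wE r = u → wroot chevE6 wE s = v →
      ∀ a b : K, PE S r a * PE S s b ∈ H → PE S u a * PE S v b ∈ H := by
    intro r s u v hr hs hu hv a b hab
    rw [← hmove r u hr hu a, ← hmove s v hs hv b]
    simpa [mul_assoc] using mul_mem (mul_mem hn hab) (inv_mem hn)
  have hPcomm : ∀ r s, r < 72 → s < 72 → commutes chevE6 0 r s = true →
      commutes chevE6 0 r (graphE6.img s) = true → commutes chevE6 0 (graphE6.img r) s = true →
      commutes chevE6 0 (graphE6.img r) (graphE6.img s) = true → ∀ a b : K,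
      Commute (PE S r a) (PE S s b) := by
    intro r s hr hs h1 h2 h3 h4 a b
    rw [PE_eq S hr, PE_eq S hs]
    exact ((commutes_rev h1 _ _).mul_right (commutes_rev h2 _ _)).mul_left
      ((commutes_rev h3 _ _).mul_right (commutes_rev h4 _ _))
  have hPsame : ∀ r, r < 72 → commutes chevE6 0 r (graphE6.img r) = true → ∀ a b : K,
      Commute (PE S r a) (PE S r b) := fun r hr hc a b => by
    rw [Commute, SemiconjBy, ← PE_add S hr (Or.inr hc), ← PE_add S hr (Or.inr hc), add_comm]
  have hy2 : PE S 3 ω * PE S 33 1 ∈ H :=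
    hmove2 16 12 3 33 (by decide) (by decide) (by decide +kernel) (by decide +kernel) _ _
      (hmove2 7 3 16 12 (by decide) (by decide) (by decide +kernel) (by decide +kernel) _ _ hy0)
  obtain ⟨C, hC, -, -, -, hk⟩ := okCom_spec S (show okCom 7 33 = some 5 by decide +kernel)
  have hω5 : PE S 5 ω ∈ H := by
    have h := mul_mem (inv_mem (mul_mem hy0 hy2)) (mul_mem hy2 hy0)
    have hk' := hk ω 1
    rw [hsame C hC, one_mul, mul_one] at hk'
    rw [← hk']
    have c1 : Commute (PE S 7 ω) (PE S 3 (1 : K)) := hPcomm 7 3 (by decide) (by decide) (by decide +kernel)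
      (by decide +kernel) (by decide +kernel) (by decide +kernel) _ _
    have c2 : Commute (PE S 3 (1 : K)) (PE S 3 ω) := hPsame 3 (by decide) (by decide +kernel) _ _
    have c3 : Commute (PE S 7 ω) (PE S 3 ω) := hPcomm 7 3 (by decide) (by decide) (by decide +kernel)
      (by decide +kernel) (by decide +kernel) (by decide +kernel) _ _
    have c4 : Commute (PE S 3 (1 : K)) (PE S 33 (1 : K)) := hPcomm 3 33 (by decide) (by decide)
      (by decide +kernel) (by decide +kernel) (by decide +kernel) (by decide +kernel) _ _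
    generalize PE S 7 ω = A, PE S 3 (1 : K) = B, PE S 3 ω = A', PE S 33 (1 : K) = B' at h c1 c2 c3 c4 ⊢
    have e : (A * B * (A' * B'))⁻¹ * (A' * B' * (A * B)) = (A * B')⁻¹ * (B' * A) := by
      calc (A * B * (A' * B'))⁻¹ * (A' * B' * (A * B))
          = (A * (B * A') * B')⁻¹ * (A' * B' * (A * B)) := by group
        _ = (A * A' * (B * B'))⁻¹ * (A' * B' * (A * B)) := by rw [c2.eq]; group
        _ = (A' * A * (B' * B))⁻¹ * (A' * B' * (A * B)) := by rw [c3.eq, c4.eq]
        _ = B⁻¹ * ((A * B')⁻¹ * (B' * A)) * B := by group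
        _ = _ := by
          have cc : Commute B ((A * B')⁻¹ * (B' * A)) :=
            ((c1.symm.mul_right c4).inv_right).mul_right (c4.mul_right c1.symm)
          rw [mul_assoc, ← cc.eq, inv_mul_cancel_left]
    rwa [e] at h
  have hω14 : PE S 14 ω ∈ H :=
    hmove1 26 14 (by decide) (by decide +kernel) _ (hmove1 5 26 (by decide) (by decide +kernel) _ hω5)
  have h15 : PE S 5 1 ∈ H := by
    have hr : graphE6.img (graphE6.img 14) = 14 := by decide +kernel
    obtain ⟨s, hs⟩ : ∃ s, s = graphE6.img 14 := ⟨_, rfl⟩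
    have hsgeq : (graphE6.sign 14 : K) = 1 := hsame _ (by
      rcases (show graphE6.sign 14 = 1 ∨ graphE6.sign 14 = -1 by decide +kernel) with h | h <;> simp [h])
    have hflip : PE S 14 ω = PE S s (ω ^ 2) := by
      rw [hs, PE_eq S (by decide), PE_eq S (img_lt S (by decide)), hr, hsgeq, one_mul, S.pow_sq]
      have hsg2 : (graphE6.sign (graphE6.img 14) : K) = 1 := hsame _ (by
        rcases (show graphE6.sign (graphE6.img 14) = 1 ∨ graphE6.sign (graphE6.img 14) = -1 by
          decide +kernel) with h | h <;> simp [h])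
      rw [hsg2, one_mul]
      exact (commutes_rev (by decide +kernel) _ _).eq
    obtain ⟨C', hC', -, -, -, hk2⟩ := okCom_spec S (show okCom 7 (graphE6.img 14) = some 5 by decide +kernel)
    have hk' := hk2 ω (ω ^ 2)
    have hω3 : ω * ω ^ 2 = 1 := by
      have := FiniteField.pow_card_sub_one_eq_one ω hω0
      rw [hK] at this
      linear_combination this
    rw [hsame C' hC', one_mul, hω3, ← hs, ← hflip] at hk'
    rw [← hk']
    have h := mul_mem (inv_mem (mul_mem hy0 hω14)) (mul_mem hω14 hy0)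
    have c1 : Commute (PE S 7 ω) (PE S 3 (1 : K)) := hPcomm 7 3 (by decide) (by decide) (by decide +kernel)
      (by decide +kernel) (by decide +kernel) (by decide +kernel) _ _
    have c2 : Commute (PE S 3 (1 : K)) (PE S 14 ω) := hPcomm 3 14 (by decide) (by decide)
      (by decide +kernel) (by decide +kernel) (by decide +kernel) (by decide +kernel) _ _
    generalize PE S 7 ω = A, PE S 3 (1 : K) = B, PE S 14 ω = P at h c1 c2 ⊢
    have e : (A * B * P)⁻¹ * (P * (A * B)) = (A * P)⁻¹ * (P * A) := by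
      calc (A * B * P)⁻¹ * (P * (A * B)) = (A * (B * P))⁻¹ * (P * (A * B)) := by group
        _ = (A * (P * B))⁻¹ * (P * (A * B)) := by rw [c2.eq]
        _ = B⁻¹ * ((A * P)⁻¹ * (P * A)) * B := by group
        _ = _ := by
          have cc : Commute B ((A * P)⁻¹ * (P * A)) :=
            ((c1.symm.mul_right c2).inv_right).mul_right (c2.mul_right c1.symm)
          rw [mul_assoc, ← cc.eq, inv_mul_cancel_left]
    rwa [e] at h
  have hadd : ∀ a b : K, PE S 5 (a + b) = PE S 5 a * PE S 5 b :=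
    PE_add S (by decide) (Or.inr (by decide +kernel))
  have hfull : ∀ x : K, PE S 5 x ∈ H := by
    have hu : ({0, 1, ω, ω + 1} : Finset K) = Finset.univ := by
      refine Finset.eq_univ_of_card _ ?_
      have a1 : ω + 1 ≠ 0 := fun h => hω1 (by linear_combination h - h2)
      have a2 : ω + 1 ≠ 1 := fun h => hω0 (by linear_combination h)
      have a3 : ω + 1 ≠ ω := fun h => one_ne_zero (by linear_combination h : (1 : K) = 0)
      rw [hK, Finset.card_insert_of_notMem (by simp [hω0.symm, a1.symm]),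
        Finset.card_insert_of_notMem (by simp [hω1.symm, a2.symm]),
        Finset.card_insert_of_notMem (by simp [a3.symm]), Finset.card_singleton]
    intro x
    have hx := Finset.mem_univ x
    rw [← hu] at hx
    simp only [Finset.mem_insert, Finset.mem_singleton] at hx
    rcases hx with rfl | rfl | rfl | rfl
    · rw [PE_zero]; exact one_mem H
    · exact h15
    · exact hω5
    · rw [hadd]; exact mul_mem hω5 h15
  refine ⟨⟨_, hsub (Subgroup.subset_closure (Or.inl rfl))⟩, ⟨_, hsub (Subgroup.subset_closure (Or.inr rfl))⟩,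
    Subgroup.map_injective (twistedE6 K 2).subtype_injective ?_⟩
  rw [MonoidHom.map_closure, ← MonoidHom.range_eq_map, Subgroup.range_subtype, Set.image_pair]
  exact le_antisymm hsub (le_of_full S hn ⟨by decide, hfull⟩ check_two)

theorem two_gen : ∃ a b : ↥(twistedE6 K q), Subgroup.closure ({a, b} : Set ↥(twistedE6 K q)) = ⊤ := by
  rcases (S.hq : 2 ≤ q).eq_or_lt with h | h
  · exact two_gen_two S h.symm
  · exact two_gen_large S h

end Cfsg.Agent.Small.TwoGen.E6
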