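import Cfsg.Agent.Lib.Small.TwoGen.HermCycle
import Cfsg.Agent.Lib.Small.PSUn.Basic
import Cfsg.Agent.Lib.Small.PSUn.Torus

/-!
The cycle element of the standard Hermitian space and two generators of `SU_n(q)` and `PSU_n(q)`.
-/

set_option autoImplicit false
set_option linter.unusedSectionVars false

namespace Cfsg.Agent.Small.TwoGenU

open Matrix Cfsg.Agent.Small.Unitary Cfsg.Agent.Small.PSUn

variable {F : Type*} [Field F] [Fintype F] [StarRing F] {n q : ℕ} {hstar : ∀ x : F, star x = x ^ q}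

/-- Equal up to a non-zero scalar. -/
def Sim (x y : Fin n → F) : Prop := ∃ c : F, c ≠ 0 ∧ x = c • y

theorem Sim.refl (x : Fin n → F) : Sim x x := ⟨1, one_ne_zero, (one_smul F x).symm⟩

theorem Sim.trans {x y z : Fin n → F} (h : Sim x y) (h' : Sim y z) : Sim x z := by
  obtain ⟨c, hc, rfl⟩ := h
  obtain ⟨d, hd, rfl⟩ := h'
  exact ⟨c * d, mul_ne_zero hc hd, smul_smul c d z⟩

theorem Sim.map {x y : Fin n → F} (h : Sim x y) (g : Cfsg.SU n F q) : Sim (act g x) (act g y) := by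
  obtain ⟨c, hc, rfl⟩ := h
  exact ⟨c, hc, act_smul g c y⟩

theorem Sim.smul {c : F} (hc : c ≠ 0) (y : Fin n → F) : Sim (c • y) y := ⟨c, hc, rfl⟩

theorem Sim.eigen {x y : Fin n → F} (h : Sim x y) {g : Cfsg.SU n F q} {l : F} (hl : act g y = l • y) :
    act g x = l • x := by
  obtain ⟨c, -, rfl⟩ := h
  rw [act_smul, hl, smul_comm]

/-- Mutually orthogonal hyperbolic pairs. -/
structure HFam {M : ℕ} (e f : Fin M → Fin n → F) : Prop where
  ee : ∀ i j, herm (e i) (e j) = 0
  ff : ∀ i j, herm (f i) (f j) = 0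
  ef : ∀ i j, herm (e i) (f j) = if i = j then 1 else 0

theorem HFam.fe {M : ℕ} {e f : Fin M → Fin n → F} (h : HFam e f) (i j : Fin M) :
    herm (f i) (e j) = if i = j then 1 else 0 := by
  rw [← star_herm, h.ef]
  rcases eq_or_ne i j with rfl | hne
  · simp
  · simp [hne, hne.symm]

/-- A signed transposition of two pairs. -/
theorem exists_swap (hstar : ∀ x : F, star x = x ^ q) {M : ℕ} {e f : Fin M → Fin n → F} (hf : HFam e f) {i j : Fin M} (hij : i ≠ j) :
    ∃ g : Cfsg.SU n F q, act g (e j) = e i ∧ act g (e i) = -e j ∧ act g (f j) = f i ∧ act g (f i) = -f j ∧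
      ∀ x, herm (e i) x = 0 → herm (f i) x = 0 → herm (e j) x = 0 → herm (f j) x = 0 → act g x = x := by
  have h1 : EOk (e i) (-f j) 0 := ⟨hf.ee _ _, by rw [herm_neg_right, hf.ef, if_neg hij, neg_zero], by
    rw [herm_neg_left, herm_neg_right, hf.ff]; simp⟩
  have h2 : EOk (e j) (f i) 0 := ⟨hf.ee _ _, by rw [hf.ef, if_neg hij.symm], by simp [hf.ff]⟩
  refine ⟨eich hstar (e i) (-f j) 0 * eich hstar (e j) (f i) 0 * eich hstar (e i) (-f j) 0,
    ?_, ?_, ?_, ?_, fun x x1 x2 x3 x4 => ?_⟩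
  all_goals simp only [act_mul, act_eich hstar h1, act_eich hstar h2, herm_add_right, herm_smul_right, herm_neg_left,
    herm_neg_right, hf.ee, hf.ff, hf.ef, hf.fe, if_neg hij, if_neg hij.symm, if_true]
  · module
  · module
  · module
  · module
  · rw [x1, x2, x3, x4]; simp

/-- The cyclic permutation of the pairs. -/
theorem exists_perm (hstar : ∀ x : F, star x = x ^ q) {M : ℕ} {e f : Fin M → Fin n → F} (hf : HFam e f) : ∀ (k : ℕ) (o l : Fin M), o.val = 0 → l.val = k →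
    ∃ P : Cfsg.SU n F q,
      (∀ i j : Fin M, j.val = i.val + 1 → j.val ≤ k → Sim (act P (e i)) (e j) ∧ Sim (act P (f i)) (f j)) ∧
      Sim (act P (e l)) (e o) ∧ Sim (act P (f l)) (f o) ∧
      ∀ x, (∀ i : Fin M, i.val ≤ k → herm (e i) x = 0 ∧ herm (f i) x = 0) → act P x = x := by
  intro k
  induction k with
  | zero =>
    intro o l ho hl
    obtain rfl : l = o := Fin.ext (hl.trans ho.symm)
    exact ⟨1, fun i j h1 h2 => by omega, by rw [act_one]; exact Sim.refl _, by rw [act_one]; exact Sim.refl _,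
      fun x _ => act_one x⟩
  | succ k ih =>
    intro o l ho hl
    obtain ⟨p, hp⟩ : ∃ p : Fin M, p.val = k := ⟨⟨k, by omega⟩, rfl⟩
    obtain ⟨P, hstep, hle, hlf, hfix⟩ := ih o p ho hp
    have hne : l ≠ p := fun h => by subst h; omega
    obtain ⟨g, g1, g2, g3, g4, g5⟩ := exists_swap hstar hf hne
    have hfe : act P (e l) = e l := hfix _ fun i hi => by
      have : i ≠ l := fun h => by subst h; omega
      rw [hf.ee, hf.fe, if_neg this]; exact ⟨rfl, rfl⟩
    have hff : act P (f l) = f l := hfix _ fun i hi => by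
      have : i ≠ l := fun h => by subst h; omega
      rw [hf.ff, hf.ef, if_neg this]; exact ⟨rfl, rfl⟩
    refine ⟨P * g, fun i j hij hj => ?_, ?_, ?_, fun x hx => ?_⟩
    · rw [act_mul, act_mul]
      rcases eq_or_ne i p with rfl | hip
      · obtain rfl : j = l := Fin.ext (by omega)
        rw [g1, g3, hfe, hff]; exact ⟨Sim.refl _, Sim.refl _⟩
      · have hil : i ≠ l := fun h => by subst h; omega
        rw [g5 (e i) (hf.ee _ _) (by rw [hf.fe, if_neg hil.symm]) (hf.ee _ _) (by rw [hf.fe, if_neg hip.symm]),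
          g5 (f i) (by rw [hf.ef, if_neg hil.symm]) (hf.ff _ _) (by rw [hf.ef, if_neg hip.symm]) (hf.ff _ _)]
        exact hstep i j hij (by have := Fin.val_ne_of_ne hip; omega)
    · rw [act_mul, g2, ← neg_one_smul F (e p), act_smul]
      exact (Sim.smul (neg_ne_zero.2 one_ne_zero) _).trans hle
    · rw [act_mul, g4, ← neg_one_smul F (f p), act_smul]
      exact (Sim.smul (neg_ne_zero.2 one_ne_zero) _).trans hlf
    · rw [act_mul, g5 x (hx l (by omega)).1 (hx l (by omega)).2 (hx p (by omega)).1 (hx p (by omega)).2]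
      exact hfix x fun i hi => hx i (by omega)

/-- The cycle of the pairs. -/
theorem exists_cyc (hstar : ∀ x : F, star x = x ^ q) (hF : Fintype.card F = q ^ 2) {M : ℕ} (hM : 1 ≤ M) {e f : Fin M → Fin n → F} (hf : HFam e f)
    {w : Fin n → F} (hw : ∀ i, herm (e i) w = 0 ∧ herm (f i) w = 0)
    (hspan : ∀ v, v ∈ Submodule.span F (Set.range e ∪ Set.range f ∪ {w})) :
    ∃ C : Cyc hstar n, C.M = M ∧ C.w = w ∧
      (∀ k (i : Fin M), i.val = k → Sim (C.z k) (e i)) ∧ (∀ k (i : Fin M), i.val = k → Sim (C.z (M + k)) (f i)) := by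
  obtain ⟨o, ho⟩ : ∃ o : Fin M, o.val = 0 := ⟨⟨0, by omega⟩, rfl⟩
  obtain ⟨l, hl⟩ : ∃ l : Fin M, l.val = M - 1 := ⟨⟨M - 1, by omega⟩, rfl⟩
  obtain ⟨P, hstep, hle, hlf, hfix⟩ := exists_perm hstar hf (M - 1) o l ho hl
  obtain ⟨θ, hθ0, hθ⟩ := exists_skew hstar hF
  have hθ' : star (-θ⁻¹) = -(-θ⁻¹) := by rw [star_neg, star_inv₀, hθ, inv_neg]
  obtain ⟨σ, hσ⟩ : ∃ σ, σ = eich hstar (e o) 0 θ * eich hstar (f o) 0 (-θ⁻¹) * eich hstar (e o) 0 θ := ⟨_, rfl⟩
  have hσa : ∀ x, act σ x = act (eich hstar (e o) 0 θ) (act (eich hstar (f o) 0 (-θ⁻¹))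
      (act (eich hstar (e o) 0 θ) x)) := fun x => by rw [hσ, act_mul, act_mul]
  have hσfix : ∀ x, herm (e o) x = 0 → herm (f o) x = 0 → act σ x = x := fun x h1 h2 => by
    simp [hσa, act_eich_zero hstar (hf.ee o o) hθ, act_eich_zero hstar (hf.ff o o) hθ', h1, h2]
  have hσe : Sim (act σ (e o)) (f o) := by
    refine ⟨-θ⁻¹, neg_ne_zero.2 (inv_ne_zero hθ0), ?_⟩
    simp only [hσa, act_eich_zero hstar (hf.ee o o) hθ, act_eich_zero hstar (hf.ff o o) hθ', herm_add_right,
      herm_smul_right, hf.ee, hf.ff, hf.ef, hf.fe, if_true]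
    match_scalars <;> field_simp <;> ring
  have hσf : Sim (act σ (f o)) (e o) := by
    refine ⟨θ, hθ0, ?_⟩
    simp only [hσa, act_eich_zero hstar (hf.ee o o) hθ, act_eich_zero hstar (hf.ff o o) hθ', herm_add_right,
      herm_smul_right, hf.ee, hf.ff, hf.ef, hf.fe, if_true]
    match_scalars <;> field_simp <;> ring
  obtain ⟨g, hg⟩ : ∃ g, g = σ * P := ⟨_, rfl⟩
  have hna : ∀ x, act g x = act σ (act P x) := fun x => by rw [hg, act_mul]
  have hgstep : ∀ i j : Fin M, j.val = i.val + 1 → Sim (act g (e i)) (e j) ∧ Sim (act g (f i)) (f j) := by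
    intro i j hij
    have hjo : j ≠ o := fun h => by subst h; omega
    obtain ⟨h1, h2⟩ := hstep i j hij (by omega)
    rw [hna, hna]
    have q1 := h1.map σ
    have q2 := h2.map σ
    rw [hσfix (e j) (hf.ee _ _) (by rw [hf.fe, if_neg hjo.symm])] at q1
    rw [hσfix (f j) (by rw [hf.ef, if_neg hjo.symm]) (hf.ff _ _)] at q2
    exact ⟨q1, q2⟩
  have hgle : Sim (act g (e l)) (f o) := by rw [hna]; exact (hle.map σ).trans hσe
  have hglf : Sim (act g (f l)) (e o) := by rw [hna]; exact (hlf.map σ).trans hσf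
  have hgw : act g w = w := by rw [hna, hfix w fun i _ => hw i, hσfix w (hw o).1 (hw o).2]
  obtain ⟨z, hz⟩ : ∃ z : ℕ → Fin n → F, z = fun k => act (g ^ k) (e o) := ⟨_, rfl⟩
  have hzs : ∀ k, z (k + 1) = act g (z k) := fun k => by rw [hz]; simp only [pow_succ', act_mul]
  have hze : ∀ k (i : Fin M), i.val = k → Sim (z k) (e i) := by
    intro k
    induction k with
    | zero =>
      intro i hi
      rw [Fin.ext (hi.trans ho.symm) (b := o), hz]
      simp only [pow_zero, act_one]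
      exact Sim.refl _
    | succ k ih =>
      intro i hi
      rw [hzs]
      exact ((ih ⟨k, by omega⟩ rfl).map g).trans (hgstep ⟨k, by omega⟩ i hi).1
  have hzf : ∀ k (i : Fin M), i.val = k → Sim (z (M + k)) (f i) := by
    intro k
    induction k with
    | zero =>
      intro i hi
      rw [Fin.ext (hi.trans ho.symm) (b := o), show M + 0 = M - 1 + 1 by omega, hzs]
      exact ((hze _ l hl).map g).trans hgle
    | succ k ih =>
      intro i hi
      rw [← Nat.add_assoc, hzs]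
      exact ((ih ⟨k, by omega⟩ rfl).map g).trans (hgstep ⟨k, by omega⟩ i hi).2
  have hper : Sim (z (2 * M)) (e o) := by
    rw [show 2 * M = M + (M - 1) + 1 by omega, hzs]
    exact ((hzf _ l hl).map g).trans hglf
  have horth : ∀ d, d < 2 * M → d ≠ M → herm (e o) (z d) = 0 := by
    intro d hd hdM
    rcases Nat.lt_or_ge d M with h | h
    · obtain ⟨a, -, ha⟩ := hze d ⟨d, h⟩ rfl
      rw [ha, herm_smul_right, hf.ee, mul_zero]
    · obtain ⟨a, -, ha⟩ := hzf (d - M) ⟨d - M, by omega⟩ rfl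
      rw [show d = M + (d - M) by omega, ha, herm_smul_right, hf.ef, if_neg, mul_zero]
      intro h'
      have := congrArg Fin.val h'
      simp only [ho] at this
      omega
  have hdual : herm (e o) (z M) ≠ 0 := by
    obtain ⟨a, ha0, ha⟩ := hzf 0 o ho
    rw [Nat.add_zero] at ha
    rw [ha, herm_smul_right, hf.ef, if_pos rfl, mul_one]; exact ha0
  subst hz
  refine ⟨{ g := g, M := M, hM := hM, e := e o, w := w, sing := hf.ee o o, orth0 := horth, dual0 := hdual,
            per := hper, fix := hgw, ew := (hw o).1, span := fun v => ?_ }, rfl, rfl, hze, hzf⟩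
  refine Submodule.span_le.2 ?_ (hspan v)
  rintro x ((⟨i, rfl⟩ | ⟨i, rfl⟩) | hx)
  · obtain ⟨a, ha0, ha⟩ := hze i.val i rfl
    have ha' : act (g ^ i.val) (e o) = a • e i := ha
    rw [show e i = a⁻¹ • act (g ^ i.val) (e o) by rw [ha', smul_smul, inv_mul_cancel₀ ha0, one_smul]]
    exact Submodule.smul_mem _ _ (Submodule.subset_span (Or.inl ⟨_, rfl⟩))
  · obtain ⟨a, ha0, ha⟩ := hzf i.val i rfl
    have ha' : act (g ^ (M + i.val)) (e o) = a • f i := ha
    rw [show f i = a⁻¹ • act (g ^ (M + i.val)) (e o) by rw [ha', smul_smul, inv_mul_cancel₀ ha0, one_smul]]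
    exact Submodule.smul_mem _ _ (Submodule.subset_span (Or.inl ⟨_, rfl⟩))
  · exact Submodule.subset_span (Or.inr hx)

theorem Cyc.eig_all (C : Cyc hstar n) {h : Cfsg.SU n F q}
    (hlt : ∀ k, k < 2 * C.M → ∃ l : F, act h (C.z k) = l • C.z k) : ∀ k, ∃ l : F, act h (C.z k) = l • C.z k := by
  intro k
  induction k using Nat.strong_induction_on with
  | _ k ih =>
    rcases Nat.lt_or_ge k (2 * C.M) with hk | hk
    · exact hlt k hk
    · obtain ⟨k', rfl⟩ : ∃ k', k = k' + 2 * C.M := ⟨k - 2 * C.M, by omega⟩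
      obtain ⟨l, hl⟩ := ih k' (by have := C.hM; omega)
      obtain ⟨c, -, hc⟩ := C.wrap k'
      exact ⟨l, by rw [hc, act_smul, hl, smul_comm]⟩

/-- The standard pairs. -/
theorem exists_fam (hstar : ∀ x : F, star x = x ^ q) (hF : Fintype.card F = q ^ 2) {M : ℕ} (hMn : 2 * M ≤ n) :
    ∃ (e f : Fin M → Fin n → F) (a b : Fin M → Fin n),
      (∀ k, Pair (a k) (b k) (e k) (f k)) ∧ HFam e f ∧ ∀ k, (a k).val = 2 * k.val ∧ (b k).val = 2 * k.val + 1 := by
  obtain ⟨a, ha⟩ : ∃ a : Fin M → Fin n, ∀ k, (a k).val = 2 * k.val :=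
    ⟨fun k => ⟨2 * k.val, by omega⟩, fun _ => rfl⟩
  obtain ⟨b, hb⟩ : ∃ b : Fin M → Fin n, ∀ k, (b k).val = 2 * k.val + 1 :=
    ⟨fun k => ⟨2 * k.val + 1, by omega⟩, fun _ => rfl⟩
  have hne : ∀ k, a k ≠ b k := fun k h => by
    have := congrArg Fin.val h; rw [ha, hb] at this; omega
  choose e f P using fun k => exists_pair hstar hF (hne k)
  refine ⟨e, f, a, b, P, ?_, fun k => ⟨ha k, hb k⟩⟩
  have hdis : ∀ (i j : Fin M), i ≠ j → ∀ u v : Fin n → F, Supp {a i, b i} u → Supp {a j, b j} v → herm u v = 0 := by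
    intro i j hij u v hu hv
    rw [herm, dotProduct]
    refine Finset.sum_eq_zero fun k _ => ?_
    by_cases hk : k ∈ ({a i, b i} : Finset (Fin n))
    · have : k ∉ ({a j, b j} : Finset (Fin n)) := by
        simp only [Finset.mem_insert, Finset.mem_singleton, Fin.ext_iff, ha, hb] at hk ⊢
        have := Fin.val_ne_of_ne hij
        omega
      rw [hv k this, mul_zero]
    · rw [Pi.star_apply, hu k hk, star_zero, zero_mul]
  refine ⟨fun i j => ?_, fun i j => ?_, fun i j => ?_⟩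
  · rcases eq_or_ne i j with rfl | h
    · exact (P i).ee
    · exact hdis i j h _ _ (P i).supp_e (P j).supp_e
  · rcases eq_or_ne i j with rfl | h
    · exact (P i).ff
    · exact hdis i j h _ _ (P i).supp_f (P j).supp_f
  · rcases eq_or_ne i j with rfl | h
    · rw [(P i).ef, if_pos rfl]
    · rw [if_neg h]; exact hdis i j h _ _ (P i).supp_e (P j).supp_f

theorem single_mem {i j : Fin n} {e f : Fin n → F} (P : Pair i j e f) {k : Fin n} (hk : k = i ∨ k = j) :
    (Pi.single k 1 : Fin n → F) = herm f (Pi.single k 1) • e + herm e (Pi.single k 1) • f := by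
  obtain ⟨h1, h2⟩ := mem_Wsub.1 (P.projW_mem (Pi.single k 1))
  have h0 : projW e f (Pi.single k 1 : Fin n → F) = 0 := by
    funext m
    by_cases hm : m = i ∨ m = j
    · rcases hm with rfl | rfl <;> assumption
    · have hm' : m ∉ ({i, j} : Finset (Fin n)) := by simpa using hm
      simp only [projW, Pi.sub_apply, Pi.smul_apply, P.supp_e m hm', P.supp_f m hm', smul_zero, sub_zero, Pi.zero_apply]
      exact Pi.single_eq_of_ne (fun h => hm (by subst h; exact hk)) _
  conv_lhs => rw [eq_projW_add e f (Pi.single k 1 : Fin n → F), h0, add_zero]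

/-- The torus element with inverse eigenvalues on two pairs. -/
theorem exists_torus (hstar : ∀ x : F, star x = x ^ q) {M : ℕ} {e f : Fin M → Fin n → F} (hf : HFam e f) {a b : Fin M → Fin n}
    (P : ∀ k, Pair (a k) (b k) (e k) (f k)) {o p : Fin M} (hop : o ≠ p) {c : F} (hc : c ≠ 0) :
    ∃ h : Cfsg.SU n F q, act h (e o) = c • e o ∧ act h (f o) = (star c)⁻¹ • f o ∧ act h (e p) = c⁻¹ • e p ∧
      act h (f p) = star c • f p ∧ (∀ k, k ≠ o → k ≠ p → act h (e k) = e k ∧ act h (f k) = f k) ∧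
      ∀ x, (∀ k, herm (e k) x = 0 ∧ herm (f k) x = 0) → act h x = x := by
  obtain ⟨A, hA⟩ : ∃ A, A = dMat (e o) (f o) c * dMat (e p) (f p) c⁻¹ := ⟨_, rfl⟩
  have hu : Aᴴ * A = 1 := by
    rw [hA, Matrix.conjTranspose_mul, Matrix.mul_assoc, ← Matrix.mul_assoc _ (dMat (e o) (f o) c),
      dMat_unitary (P o) hc, Matrix.one_mul, dMat_unitary (P p) (inv_ne_zero hc)]
  have hd : A.det = 1 := by
    have : star c ≠ 0 := star_ne_zero.mpr hc
    rw [hA, Matrix.det_mul, dMat_det (P o), dMat_det (P p), star_inv₀]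
    field_simp
  have hav : ∀ x, act (mkSU hstar A hu hd) x = dMat (e o) (f o) c *ᵥ (dMat (e p) (f p) c⁻¹ *ᵥ x) := fun x => by
    rw [Matrix.mulVec_mulVec, ← hA]; rfl
  refine ⟨mkSU hstar A hu hd, ?_, ?_, ?_, ?_, fun k h1 h2 => ⟨?_, ?_⟩, fun x hx => ?_⟩ <;>
    simp only [hav, dMat_mulVec, herm_add_right, herm_smul_right, hf.ee, hf.ff, hf.ef, hf.fe, star_inv₀, inv_inv]
  · simp only [hop, hop.symm, if_true, if_false]; module
  · simp only [hop, hop.symm, if_true, if_false]; module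
  · simp only [hop, hop.symm, if_true, if_false]; module
  · simp only [hop, hop.symm, if_true, if_false]; module
  · simp [h1.symm, h2.symm]
  · simp [h1.symm, h2.symm]
  · simp [(hx o).1, (hx o).2, (hx p).1, (hx p).2]

/-- The torus element of a single pair and a unit vector. -/
theorem exists_torus_one (hstar : ∀ x : F, star x = x ^ q) {i j : Fin n} {e f w : Fin n → F} (P : Pair i j e f) (he : herm e w = 0) (hf : herm f w = 0)
    (hw : herm w w = 1) {c : F} (hc : c ≠ 0) :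
    ∃ h : Cfsg.SU n F q, act h e = c • e ∧ act h f = (star c)⁻¹ • f ∧ act h w = (star c / c) • w := by
  obtain ⟨A, hA⟩ : ∃ A, A = dMat e f c * oMat w (star c / c) := ⟨_, rfl⟩
  have hsc : star c ≠ 0 := star_ne_zero.mpr hc
  have hη : star (star c / c) * (star c / c) = 1 := by rw [star_div₀, star_star]; field_simp
  have hu : Aᴴ * A = 1 := by
    rw [hA, Matrix.conjTranspose_mul, Matrix.mul_assoc, ← Matrix.mul_assoc _ (dMat e f c),
      dMat_unitary P hc, Matrix.one_mul, oMat_unitary hw hη]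
  have hd : A.det = 1 := by
    rw [hA, Matrix.det_mul, dMat_det P, oMat_det hw]
    field_simp
  have hwe : herm w e = 0 := by rw [← star_herm, he, star_zero]
  have hwf : herm w f = 0 := by rw [← star_herm, hf, star_zero]
  have hav : ∀ x, act (mkSU hstar A hu hd) x = dMat e f c *ᵥ (oMat w (star c / c) *ᵥ x) := fun x => by
    rw [Matrix.mulVec_mulVec, ← hA]; rfl
  refine ⟨mkSU hstar A hu hd, ?_, ?_, ?_⟩ <;>
    simp only [hav, dMat_mulVec, oMat_mulVec, herm_add_right, herm_smul_right, P.ee, P.ff, P.ef, P.fe, hwe, hwf, hw,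
      he, hf] <;> module

/-- A generator of the multiplicative group avoids small exponents. -/
theorem pow_ne {g : Fˣ} (hg : ∀ x, x ∈ Subgroup.zpowers g) (hF : Fintype.card F = q ^ 2) {k : ℕ}
    (h : ¬ (q ^ 2 - 1 ∣ k)) : (g : F) ^ k ≠ 1 := by
  classical
  intro h1
  refine h ?_
  have hord : orderOf g = q ^ 2 - 1 := by
    rw [orderOf_eq_card_of_forall_mem_zpowers hg, Nat.card_eq_fintype_card, Fintype.card_units, hF]
  rw [← hord]
  exact orderOf_dvd_of_pow_eq_one (Units.ext (by simpa using h1))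

/-- From a seed to two generators. -/
theorem two_of (a b : Cfsg.SU n F q)
    (h : ∀ H : Subgroup (Cfsg.SU n F q), a ∈ H → b ∈ H → H = ⊤) :
    ∃ a b : Cfsg.SU n F q, Subgroup.closure ({a, b} : Set (Cfsg.SU n F q)) = ⊤ :=
  ⟨a, b, h _ (Subgroup.subset_closure (Or.inl rfl)) (Subgroup.subset_closure (Or.inr rfl))⟩

/-- `SU_{2M+1}(q)`. -/
theorem gen_odd (hstar : ∀ x : F, star x = x ^ q) (hF : Fintype.card F = q ^ 2) {M : ℕ} (hM : 1 ≤ M) (hn : n = 2 * M + 1) (hex : ¬(n = 3 ∧ q = 2)) :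
    ∃ a b : Cfsg.SU n F q, Subgroup.closure ({a, b} : Set (Cfsg.SU n F q)) = ⊤ := by
  classical
  have hq := Hermitian.q_two_le hF
  obtain ⟨g, hg⟩ : ∃ g : Fˣ, ∀ x, x ∈ Subgroup.zpowers g := IsCyclic.exists_generator
  obtain ⟨e, f, a, b, P, hf, hab⟩ := exists_fam hstar hF (M := M) (n := n) (by omega)
  obtain ⟨L, hL⟩ : ∃ L : Fin n, L.val = 2 * M := ⟨⟨2 * M, by omega⟩, rfl⟩
  obtain ⟨w, hw⟩ : ∃ w : Fin n → F, w = Pi.single L 1 := ⟨_, rfl⟩
  have hLo : ∀ k, L ∉ ({a k, b k} : Finset (Fin n)) := fun k => by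
    simp only [Finset.mem_insert, Finset.mem_singleton, Fin.ext_iff, (hab k).1, (hab k).2]; omega
  have hew : ∀ k, herm (e k) w = 0 ∧ herm (f k) w = 0 := fun k => by
    rw [hw, herm_single_right, herm_single_right, (P k).supp_e L (hLo k), (P k).supp_f L (hLo k)]
    simp
  have hww : herm w w = 1 := by rw [hw, herm_single_left]; simp
  obtain ⟨C, hCM, hCw, hze, hzf⟩ := exists_cyc hstar hF hM hf hew (fun v => by
    rw [pi_eq_sum_univ' v]
    refine Submodule.sum_mem _ fun k _ => Submodule.smul_mem _ _ ?_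
    rcases Nat.lt_or_ge k.val (2 * M) with hk | hk
    · obtain ⟨i, hi⟩ : ∃ i : Fin M, i.val = k.val / 2 := ⟨⟨k.val / 2, by omega⟩, rfl⟩
      have hki : k = a i ∨ k = b i := by
        simp only [Fin.ext_iff, (hab i).1, (hab i).2]; omega
      rw [single_mem (P i) hki]
      exact Submodule.add_mem _ (Submodule.smul_mem _ _ (Submodule.subset_span (Or.inl (Or.inl ⟨i, rfl⟩))))
        (Submodule.smul_mem _ _ (Submodule.subset_span (Or.inl (Or.inr ⟨i, rfl⟩))))
    · rw [show k = L from Fin.ext (by omega), ← hw]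
      exact Submodule.subset_span (Or.inr rfl))
  subst hCM
  obtain ⟨o, ho⟩ : ∃ o : Fin C.M, o.val = 0 := ⟨⟨0, by omega⟩, rfl⟩
  obtain ⟨l, hl⟩ : ∃ l : Fin C.M, l.val = C.M - 1 := ⟨⟨C.M - 1, by omega⟩, rfl⟩
  have h2M : Sim (C.z (2 * C.M - 1)) (f l) := by
    rw [show 2 * C.M - 1 = C.M + (C.M - 1) by omega]; exact hzf _ l hl
  obtain ⟨a₀, hx⟩ := exists_param hstar hF (C.z_iso 0) (C.z_w 0)
  obtain ⟨h, ν, he, hfl, hwh, hall, hκ', hκ⟩ : ∃ (h : Cfsg.SU n F q) (ν : F),
      act h (e o) = (g : F) • e o ∧ (∃ l' : F, l' ≠ 0 ∧ act h (f l) = l' • f l ∧ star l' * ν ≠ 1) ∧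
      (act h w = ν • w ∧ ν ≠ 0) ∧ (∀ i, ∃ s t : F, act h (e i) = s • e i ∧ act h (f i) = t • f i) ∧ True ∧
      ∀ k : ℕ, 0 < k → k ≤ q - 1 → (star (g : F) * ν) ^ k ≠ 1 := by
    rcases hM.eq_or_lt with h1 | h1
    · obtain ⟨h, he, hfh, hwh⟩ := exists_torus_one hstar (P o) (hew o).1 (hew o).2 hww g.ne_zero
      have hlo : ∀ i : Fin C.M, i = o := fun i => Fin.ext (by omega)
      have hq3 : 3 ≤ q := by
        rcases Nat.lt_or_ge q 3 with h3 | h3
        · exact absurd ⟨by omega, by omega⟩ hex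
        · exact h3
      refine ⟨h, _, he, ⟨(star (g : F))⁻¹, inv_ne_zero (star_ne_zero.mpr g.ne_zero), by rw [hlo l]; exact hfh, ?_⟩,
        ⟨hwh, div_ne_zero (star_ne_zero.mpr g.ne_zero) g.ne_zero⟩,
        fun i => ⟨(g : F), (star (g : F))⁻¹, by rw [hlo i]; exact he, by rw [hlo i]; exact hfh⟩, trivial, ?_⟩
      · intro h2
        rw [star_inv₀, star_star, hstar, ← mul_div_assoc, div_eq_one_iff_eq g.ne_zero] at h2
        refine pow_ne hg hF (k := q - 2) ?_ ?_
        · intro hd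
          have := Nat.le_of_dvd (by omega) hd
          have : q ≤ q ^ 2 := Nat.le_self_pow two_ne_zero q
          omega
        · have e2 : (g : F) ^ q = (g : F) ^ (q - 2) * (g : F) * (g : F) := by
            rw [mul_assoc, ← pow_two, ← pow_add]; congr 1; omega
          rw [e2] at h2
          field_simp at h2
          exact h2
      · intro k hk0 hk h2
        rw [hstar, ← mul_div_assoc, ← pow_add, show q + q = 2 * q - 1 + 1 by omega, pow_succ,
          mul_div_cancel_right₀ _ g.ne_zero, ← pow_mul] at h2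
        refine pow_ne hg hF ?_ h2
        intro hd
        obtain ⟨t, rfl⟩ : ∃ t, q = t + 3 := ⟨q - 3, by omega⟩
        have e1 : (2 * (t + 3) + 1) * ((2 * (t + 3) - 1) * k) = 4 * k * ((t + 3) ^ 2 - 1) + 3 * k := by
          rw [show 2 * (t + 3) - 1 = 2 * t + 5 by omega, show (t + 3) ^ 2 - 1 = t * t + 6 * t + 8 by ring_nf; omega]
          ring
        have h3 : (t + 3) ^ 2 - 1 ∣ 3 * k := by
          have := hd.mul_left (2 * (t + 3) + 1)
          rw [e1] at this
          exact (Nat.dvd_add_right (dvd_mul_left _ _)).1 this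
        have h4 := Nat.le_of_dvd (by omega) h3
        rw [show (t + 3) ^ 2 - 1 = t * t + 6 * t + 8 by ring_nf; omega] at h4
        omega
    · have hol : o ≠ l := fun h => by subst h; omega
      obtain ⟨h, t1, t2, t3, t4, t5, t6⟩ := exists_torus hstar hf P hol g.ne_zero
      refine ⟨h, 1, t1, ⟨star (g : F), star_ne_zero.mpr g.ne_zero, t4, ?_⟩,
        ⟨by rw [one_smul]; exact t6 w hew, one_ne_zero⟩, fun i => ?_, trivial, ?_⟩
      · rw [star_star, mul_one]
        intro h2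
        refine pow_ne hg hF (k := 1) (fun hd => ?_) (by rw [pow_one]; exact h2)
        have := Nat.le_of_dvd one_pos hd
        have : 4 ≤ q ^ 2 := Nat.pow_le_pow_left hq 2
        omega
      · by_cases h1 : i = o
        · exact ⟨_, _, h1 ▸ t1, h1 ▸ t2⟩
        by_cases h2 : i = l
        · exact ⟨_, _, h2 ▸ t3, h2 ▸ t4⟩
        exact ⟨1, 1, by rw [one_smul]; exact (t5 i h1 h2).1, by rw [one_smul]; exact (t5 i h1 h2).2⟩
      · intro k hk0 hk h2
        rw [mul_one, hstar, ← pow_mul] at h2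
        refine pow_ne hg hF ?_ h2
        intro hd
        have hle := Nat.le_of_dvd (Nat.mul_pos (by omega) hk0) hd
        obtain ⟨t, rfl⟩ : ∃ t, q = t + 2 := ⟨q - 2, by omega⟩
        have : (t + 2) * k ≤ (t + 2) * (t + 1) := Nat.mul_le_mul_left _ (by omega)
        rw [show (t + 2) ^ 2 - 1 = t * t + 4 * t + 3 by ring_nf; omega] at hle
        have e3 : (t + 2) * (t + 1) = t * t + 3 * t + 2 := by ring
        omega
  obtain ⟨l', hl'0, hfl, hl'κ⟩ := hfl
  have hz : ∀ k, ∃ s : F, act h (C.z k) = s • C.z k := C.eig_all fun k hk => by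
    rcases Nat.lt_or_ge k C.M with hk' | hk'
    · obtain ⟨s, t, hs, -⟩ := hall ⟨k, hk'⟩
      exact ⟨s, (hze k ⟨k, hk'⟩ rfl).eigen hs⟩
    · obtain ⟨s, t, -, ht⟩ := hall ⟨k - C.M, by omega⟩
      have := hzf (k - C.M) ⟨k - C.M, by omega⟩ rfl
      rw [show C.M + (k - C.M) = k by omega] at this
      exact ⟨t, this.eigen ht⟩
  refine two_of h (eich hstar (C.z 0) C.w a₀ * C.g) fun H hh hb => ?_
  obtain ⟨hS, -⟩ := seed_family hF hx hh hb (C.comm_conj hz (hCw ▸ hwh.1)) ((hze 0 o ho).eigen he) (hCw ▸ hwh.1)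
    (C.conj_first (h2M.eigen hfl)) (C.conj_w (hCw ▸ hwh.1)) g.ne_zero hl'0 hwh.2 hl'κ hκ
    (fun h0 => absurd h0 (by rw [hCw, hww]; exact one_ne_zero))
  have hww' : herm C.w C.w = 1 := by rw [hCw, hww]
  have hxH : eich hstar (C.z 0) C.w a₀ ∈ H := by
    have := mem_of_Sh (c := 1) (a := a₀) hS (Tr_of_Sh hF hS hww') (by rwa [one_smul])
    rwa [one_smul] at this
  have hgH : C.g ∈ H := by simpa using mul_mem (inv_mem hxH) hb
  exact C.close_aniso hF (by omega) hex hgH hS hww'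

/-- `SU_{2M}(q)`. -/
theorem gen_even (hstar : ∀ x : F, star x = x ^ q) (hF : Fintype.card F = q ^ 2) {M : ℕ} (hM : 2 ≤ M) (hn : n = 2 * M) :
    ∃ a b : Cfsg.SU n F q, Subgroup.closure ({a, b} : Set (Cfsg.SU n F q)) = ⊤ := by
  classical
  have hq := Hermitian.q_two_le hF
  have hex : ¬(n = 3 ∧ q = 2) := by omega
  obtain ⟨g, hg⟩ : ∃ g : Fˣ, ∀ x, x ∈ Subgroup.zpowers g := IsCyclic.exists_generator
  obtain ⟨e, f, a, b, P, hf, hab⟩ := exists_fam hstar hF (M := M) (n := n) (by omega)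
  obtain ⟨C, hCM, hCw, hze, hzf⟩ := exists_cyc hstar hF (by omega : 1 ≤ M) hf (w := 0)
    (fun i => ⟨herm_zero_right _, herm_zero_right _⟩) (fun v => by
    rw [pi_eq_sum_univ' v]
    refine Submodule.sum_mem _ fun k _ => Submodule.smul_mem _ _ ?_
    obtain ⟨i, hi⟩ : ∃ i : Fin M, i.val = k.val / 2 := ⟨⟨k.val / 2, by omega⟩, rfl⟩
    have hki : k = a i ∨ k = b i := by
      simp only [Fin.ext_iff, (hab i).1, (hab i).2]; omega
    rw [single_mem (P i) hki]
    exact Submodule.add_mem _ (Submodule.smul_mem _ _ (Submodule.subset_span (Or.inl (Or.inl ⟨i, rfl⟩))))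
      (Submodule.smul_mem _ _ (Submodule.subset_span (Or.inl (Or.inr ⟨i, rfl⟩)))))
  subst hCM
  obtain ⟨o, ho⟩ : ∃ o : Fin C.M, o.val = 0 := ⟨⟨0, by omega⟩, rfl⟩
  obtain ⟨p, hp⟩ : ∃ p : Fin C.M, p.val = 1 := ⟨⟨1, by omega⟩, rfl⟩
  obtain ⟨l, hl⟩ : ∃ l : Fin C.M, l.val = C.M - 1 := ⟨⟨C.M - 1, by omega⟩, rfl⟩
  have hop : o ≠ p := fun h => by subst h; omega
  obtain ⟨h, t1, t2, t3, t4, t5, t6⟩ := exists_torus hstar hf P hop g.ne_zero
  have h2M : Sim (C.z (2 * C.M - 1)) (f l) := by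
    rw [show 2 * C.M - 1 = C.M + (C.M - 1) by omega]; exact hzf _ l hl
  have hw0 : act h C.w = (1 : F) • C.w := by rw [hCw, smul_zero]; exact Matrix.mulVec_zero _
  have hz : ∀ k, ∃ s : F, act h (C.z k) = s • C.z k := C.eig_all fun k hk => by
    have key : ∀ i : Fin C.M, ∃ s t : F, act h (e i) = s • e i ∧ act h (f i) = t • f i := fun i => by
      by_cases h1 : i = o
      · exact ⟨_, _, h1 ▸ t1, h1 ▸ t2⟩
      by_cases h2 : i = p
      · exact ⟨_, _, h2 ▸ t3, h2 ▸ t4⟩
      exact ⟨1, 1, by rw [one_smul]; exact (t5 i h1 h2).1, by rw [one_smul]; exact (t5 i h1 h2).2⟩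
    rcases Nat.lt_or_ge k C.M with hk' | hk'
    · obtain ⟨s, t, hs, -⟩ := key ⟨k, hk'⟩
      exact ⟨s, (hze k ⟨k, hk'⟩ rfl).eigen hs⟩
    · obtain ⟨s, t, -, ht⟩ := key ⟨k - C.M, by omega⟩
      have := hzf (k - C.M) ⟨k - C.M, by omega⟩ rfl
      rw [show C.M + (k - C.M) = k by omega] at this
      exact ⟨t, this.eigen ht⟩
  have he0 : act h (C.z 0) = (g : F) • C.z 0 := (hze 0 o ho).eigen t1
  have he1 : act h (C.z 1) = ((g : F))⁻¹ • C.z 1 := (hze 1 p hp).eigen t3
  have h1' : act (C.g * h * C.g⁻¹) (C.z 1) = (g : F) • C.z 1 := C.conj_succ he0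
  have hκ : ∀ k : ℕ, 0 < k → k ≤ q - 1 → (star (g : F) * (g : F)⁻¹) ^ k ≠ 1 := by
    intro k hk0 hk h2
    rw [hstar, show q = q - 1 + 1 by omega, pow_succ, mul_assoc, mul_inv_cancel₀ g.ne_zero, mul_one, ← pow_mul] at h2
    refine pow_ne hg hF ?_ h2
    intro hd
    have hle := Nat.le_of_dvd (Nat.mul_pos (by omega) hk0) hd
    obtain ⟨t, rfl⟩ : ∃ t, q = t + 2 := ⟨q - 2, by omega⟩
    have : (t + 2 - 1) * k ≤ (t + 1) * (t + 1) := Nat.mul_le_mul (by omega) (by omega)
    rw [show (t + 2) ^ 2 - 1 = t * t + 4 * t + 3 by ring_nf; omega] at hle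
    have e3 : (t + 1) * (t + 1) = t * t + 2 * t + 1 := by ring
    omega
  have ho1 : herm (C.z 0) (C.z 1) = 0 :=
    C.orth (by omega) (by omega) (by omega) (by omega) (by omega) (by omega) (by omega) (by omega)
  rcases hM.eq_or_lt with h2 | h3
  · have hlp : l = p := Fin.ext (by omega)
    have hx : EOk (C.z 0) (C.z 1) 0 := ⟨C.z_iso 0, ho1, by simp [C.z_iso]⟩
    refine two_of h (eich hstar (C.z 0) (C.z 1) 0 * C.g) fun H hh hb => ?_
    obtain ⟨-, hP⟩ := seed_family hF hx hh hb (C.comm_conj hz hw0) he0 he1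
      (C.conj_first (h2M.eigen (hlp ▸ t4))) h1' g.ne_zero (star_ne_zero.mpr g.ne_zero) (inv_ne_zero g.ne_zero)
      (by
        rw [star_star, ← pow_two]
        refine pow_ne hg hF fun hd => ?_
        have := Nat.le_of_dvd two_pos hd
        have : 4 ≤ q ^ 2 := Nat.pow_le_pow_left hq 2
        omega) hκ (fun _ => ⟨by simp, Or.inr rfl⟩)
    have hX := hP (C.z_iso 1)
    have hx1 := (hX 1).2
    rw [one_smul] at hx1
    have hgH : C.g ∈ H := by simpa using mul_mem (inv_mem hx1) hb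
    exact C.close_two hF (by omega) hex h2.symm hCw hgH hX
  · obtain ⟨θ, hθ0, hθ⟩ := exists_skew hstar hF
    have hx : EOk (C.z 0) (C.z 1) θ := ⟨C.z_iso 0, ho1, by rw [C.z_iso, hθ]; ring⟩
    have hl1 : act h (f l) = (1 : F) • f l := by
      rw [one_smul]
      exact (t5 l (fun h => by subst h; omega) (fun h => by subst h; omega)).2
    refine two_of h (eich hstar (C.z 0) (C.z 1) θ * C.g) fun H hh hb => ?_
    obtain ⟨-, hP⟩ := seed_family hF hx hh hb (C.comm_conj hz hw0) he0 he1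
      (C.conj_first (h2M.eigen hl1)) h1' g.ne_zero one_ne_zero (inv_ne_zero g.ne_zero)
      (by
        rw [star_one, one_mul, ← pow_one (g : F)]
        refine pow_ne hg hF fun hd => ?_
        have := Nat.le_of_dvd one_pos hd
        have : 4 ≤ q ^ 2 := Nat.pow_le_pow_left hq 2
        omega) hκ (fun _ => ⟨hθ, Or.inl (by simp)⟩)
    have hX := hP (C.z_iso 1)
    obtain ⟨hx1, hx1'⟩ := hX 1
    rw [one_smul] at hx1 hx1'
    have ht0 : EOk (C.z 0) 0 θ := (EOk_zero_iff (C.z_iso 0)).2 hθ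
    have hsplit : eich hstar (C.z 0) (C.z 1) θ = eich hstar (C.z 0) (C.z 1) 0 * eich hstar (C.z 0) 0 θ := by
      rw [eich_mul hstar hx1 ht0, add_zero, zero_add, herm_zero_right, sub_zero]
    have hgH : eich hstar (C.z 0) 0 θ * C.g ∈ H := by
      have := mul_mem (inv_mem hx1') hb
      rwa [hsplit, mul_assoc, inv_mul_cancel_left] at this
    exact C.close_twisted hF (by omega) hex h3 hCw hθ0 hθ hgH hX

/-- `PSU_n(q)` is generated by two elements. -/
theorem psu_two_generated (hstar : ∀ x : F, star x = x ^ q) (hF : Fintype.card F = q ^ 2) (hn : 3 ≤ n) (hex : ¬(n = 3 ∧ q = 2)) :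
    ∃ a b : Cfsg.PSU n F q, Subgroup.closure ({a, b} : Set (Cfsg.PSU n F q)) = ⊤ := by
  obtain ⟨a, b, h⟩ : ∃ a b : Cfsg.SU n F q, Subgroup.closure ({a, b} : Set (Cfsg.SU n F q)) = ⊤ := by
    rcases Nat.even_or_odd n with he | ho
    · have := Nat.even_iff.1 he
      exact gen_even hstar hF (M := n / 2) (by omega) (by omega)
    · have := Nat.odd_iff.1 ho
      exact gen_odd hstar hF (M := n / 2) (by omega) (by omega) hex
  refine ⟨pu a, pu b, ?_⟩
  have := congrArg (Subgroup.map (pu : Cfsg.SU n F q →* Cfsg.PSU n F q)) h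
  rwa [MonoidHom.map_closure, Set.image_pair, Subgroup.map_top_of_surjective _ pu_surjective] at this

end Cfsg.Agent.Small.TwoGenU
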