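import Cfsg.Agent.Lib.Lie.AllFacts
import Cfsg.Agent.Lib.Lie.Diagonal
import Cfsg.Agent.Lib.Lie.Group
import Mathlib.FieldTheory.Finite.Basic

/-!
Root-element facts used to show that Chevalley groups are generated by two elements: the action
of a monomial element attached to a word in the fundamental reflections, single-term commutators
modulo the characteristic, and filling a root subgroup from one element by torus scaling.
-/

set_option autoImplicit false

namespace Cfsg.Agent.Small.TwoGen

open Cfsg.Lie Cfsg.Agent.Lie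
open scoped MatrixGroups

/-- The Weyl group element of a word, on root indices. -/
def wroot (D : ChevalleyDatum) (w : List ℕ) (r : ℕ) : ℕ := w.foldr (fun i s => D.reflectRoot i s) r

/-- The commutator terms not vanishing in characteristic `ps` (`ps = 0`: all terms). -/
def liveTerms (D : ChevalleyDatum) (ps r s : ℕ) : List (ℕ × ℤ × ℕ × ℕ) :=
  (D.commTerms r s).filter fun c => ps == 0 || c.2.1 % (ps : ℤ) != 0

/-- The pair is a pair of roots to which the commutator formula applies. -/
def okPairRoots (D : ChevalleyDatum) (r s : ℕ) : Bool :=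
  decide (r < D.nroots) && decide (s < D.nroots) && s != r && s != D.neg r

/-- The roots commute in characteristic `ps`. -/
def commutes (D : ChevalleyDatum) (ps r s : ℕ) : Bool :=
  okPairRoots D r s && (liveTerms D ps r s).isEmpty

/-- A coefficient which is ±1 in characteristic `ps`. -/
def isUnitCoeff (ps : ℕ) (C : ℤ) : Bool := C.natAbs == 1 || ps == 2 || ps == 3

/-- The single live term of the commutator, with coefficient ±1. -/
def singleUnit (D : ChevalleyDatum) (ps r s : ℕ) : Option ℕ :=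
  if okPairRoots D r s then
    match liveTerms D ps r s with
    | [c] => if c.2.2.1 == 1 && c.2.2.2 == 1 && isUnitCoeff ps c.2.1 then some c.1 else none
    | _ => none
  else none

/-- The single live term of the commutator, with coefficient non-zero. -/
def singleNonzero (D : ChevalleyDatum) (bad ps r s : ℕ) : Option ℕ :=
  if okPairRoots D r s then
    match liveTerms D ps r s with
    | [c] => if c.2.2.1 == 1 && c.2.2.2 == 1 &&
        (c.2.1.natAbs == 1 || (ps == 2 || ps == 3) || (bad != 0 && c.2.1.natAbs == bad)) then some c.1 else none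
    | _ => none
  else none

/-- What is assumed of the characteristic. -/
structure CharOK (F : Type*) [Field F] (bad ps : ℕ) : Prop where
  bad_ne : bad ≠ 0 → (bad : F) ≠ 0
  ps_eq : ps ≠ 0 → (ps : F) = 0

variable {D : ChevalleyDatum} {F : Type*} [Field F] (hF : Facts D)

include hF in
theorem wroot_lt {w : List ℕ} (hw : ∀ i ∈ w, i < D.rank) {r : ℕ} (hr : r < D.nroots) :
    wroot D w r < D.nroots := by
  induction w with
  | nil => exact hr
  | cons i w ih =>
    exact hF.refl_lt i (hw i List.mem_cons_self) _ (ih fun j hj => hw j (List.mem_cons_of_mem _ hj))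

/-- The monomial element of a word. -/
noncomputable def nw (w : List ℕ) : GL D.Idx F := (w.map fun i => hF.ng (D.simple i) (1 : F)).prod

theorem nw_mem_group (w : List ℕ) : nw hF (F := F) w ∈ D.group F := by
  refine (D.group F).list_prod_mem fun g hg => ?_
  obtain ⟨i, -, rfl⟩ := List.mem_map.1 hg
  exact hF.wg_mem_group _

include hF in
theorem sgn_eq {i r : ℕ} (hi : i < D.rank) (hr : r < D.nroots) :
    hF.sgn F i r = 1 ∨ hF.sgn F i r = -1 := mul_self_eq_one_iff.1 (hF.sgn_mul_self hi hr)

theorem nw_conj {w : List ℕ} (hw : ∀ i ∈ w, i < D.rank) {r : ℕ} (hr : r < D.nroots) (t : F) :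
    ∃ e : F, (e = 1 ∨ e = -1) ∧
      nw hF w * hF.xg r t * (nw hF w)⁻¹ = hF.xg (wroot D w r) (e * t) := by
  induction w with
  | nil => exact ⟨1, Or.inl rfl, by simp [nw, wroot]⟩
  | cons i w ih =>
    have hw' : ∀ j ∈ w, j < D.rank := fun j hj => hw j (List.mem_cons_of_mem _ hj)
    have hi := hw i List.mem_cons_self
    obtain ⟨e, he, hc⟩ := ih hw'
    have hr' := wroot_lt hF hw' hr
    refine ⟨hF.sgn F i (wroot D w r) * e, ?_, ?_⟩
    · rcases he with rfl | rfl <;> rcases sgn_eq hF (F := F) hi hr' with h | h <;> simp [h]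
    · rw [show wroot D (i :: w) r = D.reflectRoot i (wroot D w r) from rfl,
        mul_assoc (hF.sgn F i (wroot D w r)), ← hF.ng_conj i hi _ hr', ← hc]
      simp only [nw, List.map_cons, List.prod_cons, _root_.mul_inv_rev]
      group

theorem xg_pow (r : ℕ) (t : F) (k : ℕ) : hF.xg r t ^ k = hF.xg r ((k : F) * t) := by
  induction k with
  | zero => simp [hF.xg_zero]
  | succ k ih => rw [pow_succ, ih, ← hF.xg_add]; push_cast; rw [add_mul, one_mul]

theorem xg_sign_mem {H : Subgroup (GL D.Idx F)} {r : ℕ} {e : F} (he : e = 1 ∨ e = -1)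
    (h : hF.xg r e ∈ H) : hF.xg r (1 : F) ∈ H := by
  rcases he with rfl | rfl
  · exact h
  · rw [hF.xg_neg] at h
    exact inv_mem_iff.1 h

theorem xg_one_sign_mem {H : Subgroup (GL D.Idx F)} {r : ℕ} {e : F} (he : e = 1 ∨ e = -1)
    (h : hF.xg r (1 : F) ∈ H) : hF.xg r e ∈ H := by
  rcases he with rfl | rfl
  · exact h
  · rw [hF.xg_neg]; exact inv_mem h

theorem wg_live {bad ps : ℕ} (hc : CharOK F bad ps) (r s : ℕ) (t u : F) :
    hF.wg (D.commWord F r s t u) =
      hF.wg ((liveTerms D ps r s).map fun c => (c.1, (c.2.1 : F) * (-t) ^ c.2.2.1 * u ^ c.2.2.2)) := by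
  unfold ChevalleyDatum.commWord liveTerms
  induction D.commTerms r s with
  | nil => simp
  | cons c L ih =>
    by_cases h : (ps == 0 || c.2.1 % (ps : ℤ) != 0) = true
    · rw [List.filter_cons, if_pos h, List.map_cons, List.map_cons, hF.wg_cons, hF.wg_cons, ih]
    · rw [List.filter_cons, if_neg h, List.map_cons, hF.wg_cons, ih]
      simp only [Bool.or_eq_true, beq_iff_eq, bne_iff_ne, ne_eq, not_or, not_not] at h
      obtain ⟨d, hd⟩ := Int.dvd_of_emod_eq_zero h.2
      rw [hd, Int.cast_mul, Int.cast_natCast, hc.ps_eq h.1]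
      simp [hF.xg_zero]

/-- The commutator formula, as a statement on conjugation. -/
theorem comm_live {bad ps : ℕ} (hc : CharOK F bad ps) {r s : ℕ} (hok : okPairRoots D r s = true) (t u : F) :
    (hF.xg r t * hF.xg s u)⁻¹ * (hF.xg s u * hF.xg r t) =
      hF.wg ((liveTerms D ps r s).map fun c => (c.1, (c.2.1 : F) * (-t) ^ c.2.2.1 * u ^ c.2.2.2)) := by
  simp only [okPairRoots, Bool.and_eq_true, decide_eq_true_eq, bne_iff_ne] at hok
  obtain ⟨⟨⟨hr, hs⟩, h1⟩, h2⟩ := hok
  have h := (hF.sys F).x_comm r s hr hs h1 h2 t u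
  simp only [Facts.sys_x] at h
  rw [h, inv_mul_cancel_left, ← wg_live hF hc]
  rfl

theorem commute_of_commutes {bad ps : ℕ} (hc : CharOK F bad ps) {r s : ℕ}
    (h : commutes D ps r s = true) (t u : F) : Commute (hF.xg r t) (hF.xg s u) := by
  simp only [commutes, Bool.and_eq_true, List.isEmpty_iff] at h
  have := comm_live hF hc h.1 t u
  rw [h.2, List.map_nil, hF.wg_nil, inv_mul_eq_one] at this
  exact this

theorem okPairRoots_lt {r s : ℕ} (h : okPairRoots D r s = true) : r < D.nroots ∧ s < D.nroots := by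
  simp only [okPairRoots, Bool.and_eq_true, decide_eq_true_eq] at h
  exact ⟨h.1.1.1, h.1.1.2⟩

theorem commutes_lt {ps r s : ℕ} (h : commutes D ps r s = true) : r < D.nroots ∧ s < D.nroots := by
  simp only [commutes, Bool.and_eq_true] at h
  exact okPairRoots_lt h.1

theorem isUnitCoeff_spec {bad ps : ℕ} (hc : CharOK F bad ps) {C : ℤ} (h : isUnitCoeff ps C = true)
    (hlive : ps = 0 ∨ C % (ps : ℤ) ≠ 0) : (C : F) = 1 ∨ (C : F) = -1 := by
  simp only [isUnitCoeff, Bool.or_eq_true, beq_iff_eq] at h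
  rcases h with (h | h) | h
  · rcases Int.natAbs_eq C with h' | h' <;> rw [h', h] <;> simp
  all_goals
    subst h
    have hz := hc.ps_eq (by norm_num)
    have hrem := hlive.resolve_left (by norm_num)
    rw [← Int.emod_add_mul_ediv C _, Int.cast_add, Int.cast_mul, Int.cast_natCast, hz, zero_mul, add_zero]
  · rw [show C % ((2 : ℕ) : ℤ) = 1 by omega]; simp
  · rcases (show C % ((3 : ℕ) : ℤ) = 1 ∨ C % ((3 : ℕ) : ℤ) = 2 by omega) with h' | h' <;> rw [h']
    · simp
    · right
      push_cast at hz ⊢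
      linear_combination hz

theorem mem_liveTerms {ps r s : ℕ} {c : ℕ × ℤ × ℕ × ℕ} (h : c ∈ liveTerms D ps r s) :
    ps = 0 ∨ c.2.1 % (ps : ℤ) ≠ 0 := by
  simp only [liveTerms, List.mem_filter, Bool.or_eq_true, beq_iff_eq, bne_iff_ne] at h
  exact h.2

/-- The commutator of two root elements with a single live term. -/
theorem comm_singleUnit {bad ps : ℕ} (hc : CharOK F bad ps) {r s u : ℕ}
    (h : singleUnit D ps r s = some u) :
    ∃ C : F, (C = 1 ∨ C = -1) ∧ ∀ a b : F,
      (hF.xg r a * hF.xg s b)⁻¹ * (hF.xg s b * hF.xg r a) = hF.xg u (C * a * b) := by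
  unfold singleUnit at h
  split at h
  swap
  · exact absurd h (by simp)
  rename_i hok
  split at h
  swap
  · exact absurd h (by simp)
  rename_i c hl
  split at h
  swap
  · exact absurd h (by simp)
  rename_i hcond
  simp only [Option.some.injEq] at h
  simp only [Bool.and_eq_true, beq_iff_eq] at hcond
  obtain ⟨⟨hi, hj⟩, hC⟩ := hcond
  have hC' := isUnitCoeff_spec hc hC (mem_liveTerms (hl ▸ List.mem_singleton_self c))
  refine ⟨-(c.2.1 : F), hC'.elim (fun e => Or.inr (by rw [e])) (fun e => Or.inl (by rw [e, neg_neg])), fun a b => ?_⟩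
  rw [comm_live hF hc hok, hl, List.map_singleton, hi, hj, h, hF.wg_cons, hF.wg_nil, mul_one, pow_one, pow_one]
  simp

/-- The commutator of two root elements with a single live term of non-zero coefficient. -/
theorem comm_singleNonzero {bad ps : ℕ} (hc : CharOK F bad ps) {r s u : ℕ}
    (h : singleNonzero D bad ps r s = some u) :
    ∃ C : F, C ≠ 0 ∧ ∀ a b : F,
      (hF.xg r a * hF.xg s b)⁻¹ * (hF.xg s b * hF.xg r a) = hF.xg u (C * a * b) := by
  unfold singleNonzero at h
  split at h
  swap
  · exact absurd h (by simp)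
  rename_i hok
  split at h
  swap
  · exact absurd h (by simp)
  rename_i c hl
  split at h
  swap
  · exact absurd h (by simp)
  rename_i hcond
  simp only [Option.some.injEq] at h
  simp only [Bool.and_eq_true, Bool.or_eq_true, beq_iff_eq, bne_iff_ne] at hcond
  obtain ⟨⟨hi, hj⟩, hC⟩ := hcond
  have hC' : (c.2.1 : F) ≠ 0 := by
    rcases hC with (h1 | h2) | ⟨h3, h4⟩
    · rcases Int.natAbs_eq c.2.1 with h' | h' <;> rw [h', h1] <;> simp
    · rcases isUnitCoeff_spec hc (C := c.2.1)
        (by simp only [isUnitCoeff, Bool.or_eq_true, beq_iff_eq]; tauto)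
        (mem_liveTerms (hl ▸ List.mem_singleton_self c)) with e | e <;> rw [e] <;> simp
    · rcases Int.natAbs_eq c.2.1 with h' | h' <;> rw [h', h4] <;> simpa using hc.bad_ne h3
  refine ⟨-(c.2.1 : F), neg_ne_zero.2 hC', fun a b => ?_⟩
  rw [comm_live hF hc hok, hl, List.map_singleton, hi, hj, h, hF.wg_cons, hF.wg_nil, mul_one, pow_one, pow_one]
  simp

theorem torus_of_hg {r : ℕ} (hr : r < D.nroots) (u : Fˣ) : hF.hg r (u : F) ∈ (torus D F).range := by
  rw [hF.hg_eq_torus hr u]; exact ⟨_, rfl⟩

/-- Torus conjugation by h_r(u). -/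
theorem hg_conj {r s : ℕ} (hr : r < D.nroots) (hs : s < D.nroots) (u : Fˣ) (t : F) :
    hF.hg r (u : F) * hF.xg s t * (hF.hg r (u : F))⁻¹ = hF.xg s (((u ^ D.pairing r s : Fˣ) : F) * t) := by
  rw [hF.hg_eq_torus hr, hF.torus_conj _ hs, Facts.torChar_hCoord]

theorem hg_pow_card [Fintype F] {r : ℕ} (hr : r < D.nroots) (u : Fˣ) :
    hF.hg r (u : F) ^ (Fintype.card F - 1) = 1 := by
  classical
  rw [hF.hg_eq_torus hr, ← map_pow, show Facts.hCoord D r u ^ (Fintype.card F - 1) = 1 from ?_, map_one]
  funext i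
  rw [Pi.pow_apply, Pi.one_apply, ← Fintype.card_units, pow_card_eq_one]

/-- From the product of a torus element and commuting root elements, both factors. -/
theorem split_torus [Fintype F] {H : Subgroup (GL D.Idx F)} {r : ℕ} (hr : r < D.nroots) (u : Fˣ)
    {y : GL D.Idx F} (hy : y ^ (Fintype.card F - 1) = y⁻¹) (hcomm : Commute (hF.hg r (u : F)) y)
    (h : hF.hg r (u : F) * y ∈ H) : hF.hg r (u : F) ∈ H ∧ y ∈ H := by
  have h1 : y ∈ H := by
    have := pow_mem h (Fintype.card F - 1)
    rw [hcomm.mul_pow, hg_pow_card hF hr, one_mul, hy] at this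
    exact inv_mem_iff.1 this
  exact ⟨by simpa using mul_mem h (inv_mem h1), h1⟩

theorem xg_pow_card [Fintype F] (r : ℕ) (t : F) :
    hF.xg r t ^ (Fintype.card F - 1) = (hF.xg r t)⁻¹ := by
  rw [xg_pow, ← hF.xg_neg]
  congr 1
  rw [Nat.cast_sub Fintype.card_pos, FiniteField.cast_card_eq_zero]
  simp

/-- An additive subgroup invariant under scaling by a generator or its square contains everything. -/
theorem addSubgroup_eq_top [Fintype F] (A : AddSubgroup F) (g : Fˣ) (hg : ∀ x, x ∈ Subgroup.zpowers g)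
    (m : ℤ) (hm : m.natAbs = 1 ∨ m.natAbs = 2) {c : F} (hc : c ≠ 0) (hcA : c ∈ A)
    (hinv : ∀ a ∈ A, ((g ^ m : Fˣ) : F) * a ∈ A) : ∀ x, x ∈ A := by
  have hpow : ∀ z ∈ Subgroup.zpowers (g ^ m), ((z : Fˣ) : F) * c ∈ A := by
    intro z hz
    obtain ⟨k, rfl⟩ := (mem_powers_iff_mem_zpowers (x := g ^ m)).2 hz
    dsimp only
    induction k with
    | zero => simpa using hcA
    | succ k ih =>
      rw [pow_succ', Units.val_mul, mul_assoc]
      exact hinv _ (ih ⟨k, rfl⟩)
  have hsq : ∀ z : F, z ^ 2 * c ∈ A := by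
    intro z
    rcases eq_or_ne z 0 with rfl | hz
    · simp
    obtain ⟨k, hk⟩ := hg (Units.mk0 z hz)
    have : Units.mk0 z hz ^ 2 ∈ Subgroup.zpowers (g ^ m) := by
      rw [← hk]
      rcases hm with h | h <;> rcases Int.natAbs_eq m with h' | h' <;> rw [h'] <;> rw [h]
      · exact ⟨2 * k, by dsimp only; rw [← zpow_mul, ← zpow_natCast, ← zpow_mul]; ring_nf⟩
      · exact ⟨-(2 * k), by dsimp only; rw [← zpow_mul, ← zpow_natCast, ← zpow_mul]; ring_nf⟩
      · exact ⟨k, by dsimp only; rw [← zpow_mul, ← zpow_natCast, ← zpow_mul]; ring_nf⟩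
      · exact ⟨-k, by dsimp only; rw [← zpow_mul, ← zpow_natCast, ← zpow_mul]; ring_nf⟩
    simpa using hpow _ this
  intro x
  obtain ⟨a, b, hab⟩ : ∃ a b : F, a ^ 2 + b ^ 2 = x / c := by
    classical
    rcases eq_or_ne (ringChar F) 2 with h2 | h2
    · obtain ⟨a, ha⟩ := FiniteField.isSquare_of_char_two h2 (x / c)
      exact ⟨a, 0, by rw [ha]; ring⟩
    · obtain ⟨a, b, hab⟩ := FiniteField.exists_root_sum_quadratic (R := F)
        (f := Polynomial.X ^ 2) (g := Polynomial.X ^ 2 - Polynomial.C (x / c))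
        (Polynomial.degree_X_pow 2) (Polynomial.degree_X_pow_sub_C (by norm_num) _)
        (FiniteField.odd_card_of_char_ne_two h2)
      refine ⟨a, b, ?_⟩
      simp only [Polynomial.eval_pow, Polynomial.eval_X, Polynomial.eval_sub, Polynomial.eval_C] at hab
      linear_combination hab
  have := A.add_mem (hsq a) (hsq b)
  rwa [← add_mul, hab, div_mul_cancel₀ _ hc] at this

/-- One element of a root subgroup fills it, by torus scaling. -/
theorem full_of_torus [Fintype F] {H : Subgroup (GL D.Idx F)} {r β : ℕ} (hr : r < D.nroots) (hβ : β < D.nroots)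
    (g : Fˣ) (hg : ∀ x, x ∈ Subgroup.zpowers g) (hh : hF.hg β (g : F) ∈ H)
    (hm : (D.pairing β r).natAbs = 1 ∨ (D.pairing β r).natAbs = 2) {c : F} (hc : c ≠ 0)
    (h : hF.xg r c ∈ H) : ∀ t : F, hF.xg r t ∈ H := by
  refine addSubgroup_eq_top
    { carrier := {t | hF.xg r t ∈ H}
      add_mem' := fun {a b} ha hb => by simpa only [Set.mem_setOf_eq, hF.xg_add] using mul_mem ha hb
      zero_mem' := by simpa only [Set.mem_setOf_eq, hF.xg_zero] using one_mem H
      neg_mem' := fun {a} ha => by simpa only [Set.mem_setOf_eq, hF.xg_neg] using inv_mem ha }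
    g hg _ hm hc h fun a ha => ?_
  show hF.xg r _ ∈ H
  rw [← hg_conj hF hβ hr]
  exact mul_mem (mul_mem hh ha) (inv_mem hh)

/-- The group is inside a subgroup holding all fundamental root subgroups and their opposites. -/
theorem group_le_of_simple {H : Subgroup (GL D.Idx F)}
    (hp : ∀ i, i < D.rank → ∀ t : F, hF.xg (D.simple i) t ∈ H)
    (hn : ∀ i, i < D.rank → ∀ t : F, hF.xg (D.neg (D.simple i)) t ∈ H) : D.group F ≤ H := by
  have hng : ∀ i, i < D.rank → hF.ng (D.simple i) (1 : F) ∈ H := fun i hi => by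
    rw [hF.ng_eq]; exact mul_mem (mul_mem (hp i hi _) (hn i hi _)) (hp i hi _)
  have hall : ∀ r, r < D.nroots → ∀ t : F, hF.xg r t ∈ H := by
    refine hF.simple_induction _ hp fun i hi r hr ih t => ?_
    have h1 := hF.ng_conj (F := F) i hi r hr (hF.sgn F i r * t)
    rw [← mul_assoc, hF.sgn_mul_self hi hr, one_mul] at h1
    rw [← h1]
    exact mul_mem (mul_mem (hng i hi) (ih _)) (inv_mem (hng i hi))
  rw [hF.group_eq]
  refine (Subgroup.closure_le _).2 ?_
  rintro _ ⟨⟨r, t⟩, rfl⟩
  by_cases hr : r < D.nroots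
  · exact hall r hr t
  · simp [hF.xg_out (not_lt.1 hr)]

/-- Two elements generate the group as soon as they generate all of it inside GL. -/
theorem two_generate (a b : GL D.Idx F) (ha : a ∈ D.group F) (hb : b ∈ D.group F)
    (h : D.group F ≤ Subgroup.closure {a, b}) :
    ∃ a' b' : ↥(D.group F), Subgroup.closure ({a', b'} : Set ↥(D.group F)) = ⊤ := by
  refine ⟨⟨a, ha⟩, ⟨b, hb⟩, Subgroup.map_injective (D.group F).subtype_injective ?_⟩
  rw [MonoidHom.map_closure, ← MonoidHom.range_eq_map, Subgroup.range_subtype, Set.image_pair]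
  exact le_antisymm ((Subgroup.closure_le _).2 (by rintro x (rfl | rfl) <;> assumption)) h

end Cfsg.Agent.Small.TwoGen
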