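import Cfsg.Agent.Lib.Small.TwoGen.Basic

/-!
A checker for derivations of root elements in a subgroup containing a monomial element and a torus element.
-/

set_option autoImplicit false

namespace Cfsg.Agent.Small.TwoGen

open Cfsg.Lie Cfsg.Agent.Lie
open scoped MatrixGroups

/-- Roots with a unit element, full root subgroups, and products of two unit elements. -/
structure St where
  /-- roots r with x_r(1) known -/
  U : List ℕ
  /-- roots r with the whole of X_r known -/
  Fl : List ℕ
  /-- pairs (a, b) with x_a(1) x_b(1) known -/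
  P : List (ℕ × ℕ)

/-- The parameters of a derivation. -/
structure Par where
  /-- the word of the monomial element -/
  w : List ℕ
  /-- the root of the torus element -/
  beta : ℕ
  /-- an allowed coefficient -/
  bad : ℕ
  /-- the characteristic, or 0 -/
  ps : ℕ

variable {D : ChevalleyDatum}

/-- The pair is available. -/
def hasPair (D : ChevalleyDatum) (ps : ℕ) (s : St) (a b : ℕ) : Bool :=
  s.P.contains (a, b) || (s.P.contains (b, a) && commutes D ps b a)

/-- One step. -/
def stepFn (D : ChevalleyDatum) (π : Par) (s : St) : ℕ × ℕ × ℕ × ℕ × ℕ → Option St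
  | (0, a, _, _, _) => if s.U.contains a then some { s with U := wroot D π.w a :: s.U } else none
  | (1, a, b, _, _) =>
    if s.U.contains a && s.U.contains b then
      (singleUnit D π.ps a b).map fun u => { s with U := u :: s.U } else none
  | (2, a, _, _, _) =>
    if s.U.contains a && ((D.pairing π.beta a).natAbs == 1 || (D.pairing π.beta a).natAbs == 2) then
      some { s with Fl := a :: s.Fl } else none
  | (3, a, _, _, _) => if s.Fl.contains a then some { s with Fl := wroot D π.w a :: s.Fl } else none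
  | (4, a, b, _, _) =>
    if π.ps == 2 && s.P.contains (a, b) then
      some { s with P := (wroot D π.w a, wroot D π.w b) :: s.P } else none
  | (5, a, b, _, _) =>
    if s.Fl.contains a && s.U.contains b then
      (singleNonzero D π.bad π.ps a b).map fun u => { s with Fl := u :: s.Fl } else none
  | (6, a, b, p, q) =>
    if hasPair D π.ps s a b && hasPair D π.ps s p q &&
        (a == q || commutes D π.ps a q) && (b == p || commutes D π.ps b p) && (b == q || commutes D π.ps b q) then
      (singleUnit D π.ps a p).map fun u => { s with U := u :: s.U } else none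
  | (7, a, _, _, _) => if s.Fl.contains a then some { s with U := a :: s.U } else none
  | (8, a, b, _, _) =>
    if s.P.contains (a, b) && s.U.contains a then some { s with U := b :: s.U } else none
  | (9, a, b, _, _) =>
    if s.P.contains (a, b) && s.U.contains b then some { s with U := a :: s.U } else none
  | _ => none

/-- Run a derivation. -/
def run (D : ChevalleyDatum) (π : Par) : St → List (ℕ × ℕ × ℕ × ℕ × ℕ) → Option St
  | s, [] => some s
  | s, x :: L => (stepFn D π s x).bind fun s' => run D π s' L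

/-- A derivation reaching all fundamental root subgroups and their opposites. -/
def check (D : ChevalleyDatum) (π : Par) (s : St) (L : List (ℕ × ℕ × ℕ × ℕ × ℕ)) : Bool :=
  match run D π s L with
  | none => false
  | some t => (List.range D.rank).all fun i => t.Fl.contains (D.simple i) && t.Fl.contains (D.neg (D.simple i))

variable {F : Type*} [Field F] [Fintype F] (hF : Facts D) (H : Subgroup (GL D.Idx F))

/-- The meaning of a state. -/
structure Good (s : St) : Prop where
  hU : ∀ a ∈ s.U, a < D.nroots ∧ hF.xg a (1 : F) ∈ H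
  hFl : ∀ a ∈ s.Fl, a < D.nroots ∧ ∀ t : F, hF.xg a t ∈ H
  hP : ∀ p ∈ s.P, p.1 < D.nroots ∧ p.2 < D.nroots ∧ hF.xg p.1 (1 : F) * hF.xg p.2 (1 : F) ∈ H

/-- The standing hypotheses. -/
structure Setup (π : Par) : Prop where
  char : CharOK F π.bad π.ps
  wlt : ∀ i ∈ π.w, i < D.rank
  betalt : π.beta < D.nroots
  wmem : nw hF π.w ∈ H
  gen : ∃ g : Fˣ, (∀ x, x ∈ Subgroup.zpowers g) ∧ hF.hg π.beta (g : F) ∈ H

include hF in
theorem commTerms_root {ps r s : ℕ} {c : ℕ × ℤ × ℕ × ℕ} (hok : okPairRoots D r s = true)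
    (hc : c ∈ liveTerms D ps r s) : c.1 < D.nroots := by
  obtain ⟨hr, hs⟩ := okPairRoots_lt hok
  exact hF.commTerms_lt hr hs c (List.mem_of_mem_filter hc)

include hF in
theorem singleUnit_lt {ps r s u : ℕ} (h : singleUnit D ps r s = some u) : u < D.nroots := by
  unfold singleUnit at h
  split at h
  swap
  · exact absurd h (by simp)
  rename_i hok
  split at h
  swap
  · exact absurd h (by simp)
  rename_i c hl
  split at h
  swap
  · exact absurd h (by simp)
  simp only [Option.some.injEq] at h
  exact h ▸ commTerms_root hF hok (hl ▸ List.mem_singleton_self c)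

include hF in
theorem singleNonzero_lt {bad ps r s u : ℕ} (h : singleNonzero D bad ps r s = some u) : u < D.nroots := by
  unfold singleNonzero at h
  split at h
  swap
  · exact absurd h (by simp)
  rename_i hok
  split at h
  swap
  · exact absurd h (by simp)
  rename_i c hl
  split at h
  swap
  · exact absurd h (by simp)
  simp only [Option.some.injEq] at h
  exact h ▸ commTerms_root hF hok (hl ▸ List.mem_singleton_self c)

variable {π : Par}

omit [Fintype F] in
theorem hasPair_spec (hS : Setup hF H π) {s : St} (hs : Good hF H s) {a b : ℕ}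
    (h : hasPair D π.ps s a b = true) :
    hF.xg a (1 : F) * hF.xg b (1 : F) ∈ H := by
  simp only [hasPair, Bool.or_eq_true, Bool.and_eq_true, List.contains_iff_mem] at h
  rcases h with h | ⟨h, hc⟩
  · exact (hs.hP _ h).2.2
  · rw [← (commute_of_commutes hF hS.char hc (1 : F) 1).eq]; exact (hs.hP _ h).2.2

theorem step_sound (hS : Setup hF H π) {s s' : St} (hs : Good hF H s) (x : ℕ × ℕ × ℕ × ℕ × ℕ)
    (h : stepFn D π s x = some s') : Good hF H s' := by
  have addU : ∀ a, a < D.nroots → hF.xg a (1 : F) ∈ H → Good hF H { s with U := a :: s.U } := fun a ha hm =>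
    ⟨fun c hc => by rcases List.mem_cons.1 hc with rfl | h; exacts [⟨ha, hm⟩, hs.hU _ h], hs.hFl, hs.hP⟩
  have addF : ∀ a, a < D.nroots → (∀ t : F, hF.xg a t ∈ H) → Good hF H { s with Fl := a :: s.Fl } :=
    fun a ha hm => ⟨hs.hU, fun c hc => by rcases List.mem_cons.1 hc with rfl | h; exacts [⟨ha, hm⟩, hs.hFl _ h], hs.hP⟩
  have hconj : ∀ a, a < D.nroots → ∀ t : F, hF.xg a t ∈ H →
      ∃ e : F, (e = 1 ∨ e = -1) ∧ hF.xg (wroot D π.w a) (e * t) ∈ H := fun a ha t ht => by
    obtain ⟨e, he, hc⟩ := nw_conj hF hS.wlt ha t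
    exact ⟨e, he, hc ▸ mul_mem (mul_mem hS.wmem ht) (inv_mem hS.wmem)⟩
  unfold stepFn at h
  split at h
  all_goals try (exact (Option.some_ne_none _ h.symm).elim)
  all_goals (split at h; swap; · exact (Option.some_ne_none _ h.symm).elim)
  all_goals rename_i hcond
  all_goals simp only [Bool.and_eq_true, Bool.or_eq_true, beq_iff_eq, List.contains_iff_mem] at hcond
  all_goals try simp only [Option.some.injEq] at h
  all_goals try subst h
  · obtain ⟨ha, hm⟩ := hs.hU _ hcond
    obtain ⟨e, he, hc⟩ := hconj _ ha 1 hm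
    rw [mul_one] at hc
    exact addU _ (wroot_lt hF hS.wlt ha) (xg_sign_mem hF he hc)
  · obtain ⟨u, hu, rfl⟩ := Option.map_eq_some_iff.1 h
    obtain ⟨C, hC, hk⟩ := comm_singleUnit hF hS.char hu
    obtain ⟨-, hma⟩ := hs.hU _ hcond.1
    obtain ⟨-, hmb⟩ := hs.hU _ hcond.2
    refine addU _ (singleUnit_lt hF hu) (xg_sign_mem hF hC ?_)
    have := hk 1 1
    rw [mul_one, mul_one] at this
    exact this ▸ mul_mem (inv_mem (mul_mem hma hmb)) (mul_mem hmb hma)
  · obtain ⟨ha, hm⟩ := hs.hU _ hcond.1
    obtain ⟨g, hg, hh⟩ := hS.gen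
    exact addF _ ha (full_of_torus hF ha hS.betalt g hg hh hcond.2 one_ne_zero hm)
  · obtain ⟨ha, hm⟩ := hs.hFl _ hcond
    refine addF _ (wroot_lt hF hS.wlt ha) fun t => ?_
    obtain ⟨e, he, hc⟩ := hconj _ ha t (hm t)
    rcases he with rfl | rfl
    · rwa [one_mul] at hc
    · rw [neg_one_mul, hF.xg_neg] at hc
      exact inv_mem_iff.1 hc
  · obtain ⟨h2, hp⟩ := hcond
    obtain ⟨ha, hb, hm⟩ := hs.hP _ hp
    have htwo : (-1 : F) = 1 := by
      have := hS.char.ps_eq (by rw [h2]; norm_num)
      rw [h2] at this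
      push_cast at this
      linear_combination -this
    obtain ⟨e, he, hc⟩ := nw_conj hF hS.wlt ha (1 : F)
    obtain ⟨e', he', hc'⟩ := nw_conj hF hS.wlt hb (1 : F)
    rw [htwo, or_self] at he he'
    subst he; subst he'
    rw [one_mul] at hc hc'
    refine ⟨hs.hU, hs.hFl, fun c hc2 => ?_⟩
    rcases List.mem_cons.1 hc2 with rfl | hc2
    · refine ⟨wroot_lt hF hS.wlt ha, wroot_lt hF hS.wlt hb, ?_⟩
      rw [← hc, ← hc']
      simpa [mul_assoc] using mul_mem (mul_mem hS.wmem hm) (inv_mem hS.wmem)
    · exact hs.hP _ hc2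
  · obtain ⟨u, hu, rfl⟩ := Option.map_eq_some_iff.1 h
    obtain ⟨C, hC, hk⟩ := comm_singleNonzero hF hS.char hu
    obtain ⟨-, hma⟩ := hs.hFl _ hcond.1
    obtain ⟨-, hmb⟩ := hs.hU _ hcond.2
    refine addF _ (singleNonzero_lt hF hu) fun v => ?_
    have := hk (v / C) 1
    rw [mul_one, mul_div_cancel₀ _ hC] at this
    exact this ▸ mul_mem (inv_mem (mul_mem (hma _) hmb)) (mul_mem hmb (hma _))
  · obtain ⟨u, hu, rfl⟩ := Option.map_eq_some_iff.1 h
    obtain ⟨C, hC, hk⟩ := comm_singleUnit hF hS.char hu
    obtain ⟨⟨⟨⟨h1, h2⟩, h3⟩, h4⟩, h5⟩ := hcond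
    rename_i a b p q
    have hcomm : ∀ i j, (i = j ∨ commutes D π.ps i j = true) →
        Commute (hF.xg i (1 : F)) (hF.xg j (1 : F)) := by
      rintro i j (rfl | hij)
      · exact Commute.refl _
      · exact commute_of_commutes hF hS.char hij 1 1
    have c1 := (hcomm _ _ h3).eq
    have c2 := (hcomm _ _ h4).eq
    have c3 := (hcomm _ _ h5).eq
    have m1 := hasPair_spec hF H hS hs h1
    have m2 := hasPair_spec hF H hS hs h2
    refine addU _ (singleUnit_lt hF hu) (xg_sign_mem hF hC ?_)
    have hm : hF.xg a (1 : F) * hF.xg p (1 : F) * (hF.xg a (1 : F))⁻¹ * (hF.xg p (1 : F))⁻¹ ∈ H := by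
      have := mul_mem (mul_mem m1 m2) (inv_mem (mul_mem m2 m1))
      have e : hF.xg a (1 : F) * hF.xg b 1 * (hF.xg p 1 * hF.xg q 1) *
          (hF.xg p 1 * hF.xg q 1 * (hF.xg a 1 * hF.xg b 1))⁻¹ =
          hF.xg a (1 : F) * hF.xg p (1 : F) * (hF.xg a (1 : F))⁻¹ * (hF.xg p (1 : F))⁻¹ := by
        rw [mul_inv_eq_iff_eq_mul]
        generalize hF.xg a (1 : F) = A, hF.xg b (1 : F) = B, hF.xg p (1 : F) = P, hF.xg q (1 : F) = Q at c1 c2 c3 ⊢
        calc A * B * (P * Q) = A * (B * P) * Q := by group
          _ = A * P * (B * Q) := by rw [c2]; group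
          _ = A * P * (Q * B) := by rw [c3]
          _ = A * P * A⁻¹ * P⁻¹ * (P * (A * Q) * B) := by group
          _ = A * P * A⁻¹ * P⁻¹ * (P * Q * (A * B)) := by rw [c1]; group
      rwa [e] at this
    have := hk (-1) (-1)
    rw [mul_neg_one, mul_neg_one, neg_neg, hF.xg_neg, hF.xg_neg] at this
    rw [← this]
    simpa [_root_.mul_inv_rev, mul_assoc] using inv_mem hm
  · obtain ⟨ha, hm⟩ := hs.hFl _ hcond
    exact addU _ ha (hm 1)
  · obtain ⟨ha, hb, hm⟩ := hs.hP _ hcond.1
    exact addU _ hb (by simpa using mul_mem (inv_mem (hs.hU _ hcond.2).2) hm)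
  · obtain ⟨ha, hb, hm⟩ := hs.hP _ hcond.1
    exact addU _ ha (by simpa using mul_mem hm (inv_mem (hs.hU _ hcond.2).2))

theorem run_sound (hS : Setup hF H π) (L : List (ℕ × ℕ × ℕ × ℕ × ℕ)) {s t : St} (hs : Good hF H s)
    (h : run D π s L = some t) : Good hF H t := by
  induction L generalizing s with
  | nil => simp only [run, Option.some.injEq] at h; exact h ▸ hs
  | cons x L ih =>
    simp only [run, Option.bind_eq_some_iff] at h
    obtain ⟨s', h1, h2⟩ := h
    exact ih (step_sound hF H hS hs x h1) h2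

/-- A checked derivation gives the whole group. -/
theorem le_of_check (hS : Setup hF H π) (L : List (ℕ × ℕ × ℕ × ℕ × ℕ)) {s : St} (hs : Good hF H s)
    (h : check D π s L = true) : D.group F ≤ H := by
  unfold check at h
  split at h
  · exact absurd h (by simp)
  rename_i t ht
  have hg := run_sound hF H hS L hs ht
  simp only [List.all_eq_true, List.mem_range, Bool.and_eq_true, List.contains_iff_mem] at h
  exact group_le_of_simple hF (fun i hi => (hg.hFl _ (h i hi).1).2) fun i hi => (hg.hFl _ (h i hi).2).2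

end Cfsg.Agent.Small.TwoGen
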