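import Cfsg.Agent.Lib.Small.TwoGen.Cert

/-!
Every Chevalley group of type G₂, B₂, D₄, F₄, E₆, E₇ or E₈ is generated by two elements.
-/

set_option autoImplicit false

namespace Cfsg.Agent.Small.TwoGen

open Cfsg.Lie Cfsg.Agent.Lie
open scoped MatrixGroups

/-- Derivation for E6. -/
def certE6 : List (ℕ × ℕ × ℕ × ℕ × ℕ) :=
  [(0, 56, 0, 0, 0), (1, 56, 42, 0, 0), (0, 42, 0, 0, 0), (0, 57, 0, 0, 0), (1, 56, 50, 0, 0), (0, 47, 0, 0, 0),
    (2, 47, 0, 0, 0), (0, 50, 0, 0, 0), (2, 50, 0, 0, 0), (2, 61, 0, 0, 0), (5, 47, 59, 0, 0), (5, 50, 59, 0, 0),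
    (0, 59, 0, 0, 0), (0, 64, 0, 0, 0), (3, 64, 0, 0, 0), (3, 67, 0, 0, 0), (0, 52, 0, 0, 0), (2, 52, 0, 0, 0),
    (0, 69, 0, 0, 0), (3, 69, 0, 0, 0), (3, 71, 0, 0, 0), (5, 52, 56, 0, 0), (5, 54, 56, 0, 0), (0, 39, 0, 0, 0),
    (3, 52, 0, 0, 0), (0, 54, 0, 0, 0), (3, 70, 0, 0, 0), (3, 65, 0, 0, 0), (5, 47, 37, 0, 0), (5, 61, 37, 0, 0),
    (5, 63, 40, 0, 0), (0, 37, 0, 0, 0), (3, 39, 0, 0, 0), (0, 40, 0, 0, 0), (3, 55, 0, 0, 0), (3, 44, 0, 0, 0),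
    (3, 48, 0, 0, 0), (3, 66, 0, 0, 0), (0, 36, 0, 0, 0), (3, 37, 0, 0, 0), (0, 38, 0, 0, 0), (3, 41, 0, 0, 0),
    (3, 49, 0, 0, 0), (3, 60, 0, 0, 0), (3, 45, 0, 0, 0), (5, 61, 9, 0, 0), (5, 62, 8, 0, 0), (5, 10, 56, 0, 0),
    (5, 15, 57, 0, 0), (5, 14, 56, 0, 0), (0, 8, 0, 0, 0), (7, 21, 0, 0, 0), (5, 50, 28, 0, 0), (5, 61, 21, 0, 0),
    (5, 42, 28, 0, 0)]

/-- Derivation for E7. -/
def certE7 : List (ℕ × ℕ × ℕ × ℕ × ℕ) :=
  [(0, 78, 0, 0, 0), (1, 78, 95, 0, 0), (0, 95, 0, 0, 0), (2, 95, 0, 0, 0), (0, 99, 0, 0, 0), (2, 99, 0, 0, 0),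
    (5, 95, 84, 0, 0), (0, 84, 0, 0, 0), (0, 109, 0, 0, 0), (3, 109, 0, 0, 0), (0, 104, 0, 0, 0), (0, 119, 0, 0, 0),
    (3, 119, 0, 0, 0), (0, 113, 0, 0, 0), (0, 125, 0, 0, 0), (3, 125, 0, 0, 0), (0, 88, 0, 0, 0), (0, 124, 0, 0, 0),
    (3, 124, 0, 0, 0), (0, 107, 0, 0, 0), (2, 107, 0, 0, 0), (0, 123, 0, 0, 0), (3, 123, 0, 0, 0), (5, 99, 76, 0, 0),
    (5, 118, 78, 0, 0), (0, 76, 0, 0, 0), (3, 107, 0, 0, 0), (0, 118, 0, 0, 0), (3, 122, 0, 0, 0), (5, 95, 82, 0, 0),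
    (5, 99, 92, 0, 0), (5, 76, 78, 0, 0), (0, 82, 0, 0, 0), (3, 76, 0, 0, 0), (0, 92, 0, 0, 0), (3, 117, 0, 0, 0),
    (3, 105, 0, 0, 0), (0, 47, 0, 0, 0), (3, 82, 0, 0, 0), (0, 72, 0, 0, 0), (3, 91, 0, 0, 0), (3, 75, 0, 0, 0),
    (5, 99, 30, 0, 0), (0, 30, 0, 0, 0), (0, 26, 0, 0, 0), (3, 71, 0, 0, 0), (3, 81, 0, 0, 0), (5, 99, 16, 0, 0),
    (5, 110, 16, 0, 0), (0, 41, 0, 0, 0), (3, 68, 0, 0, 0), (3, 98, 0, 0, 0), (3, 50, 0, 0, 0), (3, 64, 0, 0, 0),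
    (5, 110, 21, 0, 0), (5, 121, 21, 0, 0), (5, 25, 99, 0, 0), (0, 21, 0, 0, 0), (3, 32, 0, 0, 0), (3, 44, 0, 0, 0),
    (3, 86, 0, 0, 0), (3, 59, 0, 0, 0), (0, 12, 0, 0, 0), (3, 27, 0, 0, 0), (3, 69, 0, 0, 0), (3, 61, 0, 0, 0),
    (5, 85, 37, 0, 0)]

/-- Derivation for E8. -/
def certE8 : List (ℕ × ℕ × ℕ × ℕ × ℕ) :=
  [(0, 162, 0, 0, 0), (1, 162, 135, 0, 0), (0, 135, 0, 0, 0), (0, 163, 0, 0, 0), (1, 162, 147, 0, 0), (0, 142, 0, 0, 0),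
    (0, 147, 0, 0, 0), (0, 165, 0, 0, 0), (0, 174, 0, 0, 0), (1, 162, 149, 0, 0), (0, 149, 0, 0, 0), (0, 188, 0, 0, 0),
    (0, 176, 0, 0, 0), (0, 207, 0, 0, 0), (0, 190, 0, 0, 0), (2, 190, 0, 0, 0), (0, 228, 0, 0, 0), (5, 190, 153, 0, 0),
    (0, 153, 0, 0, 0), (3, 190, 0, 0, 0), (0, 220, 0, 0, 0), (3, 220, 0, 0, 0), (5, 153, 162, 0, 0), (5, 153, 163, 0, 0),
    (0, 179, 0, 0, 0), (0, 214, 0, 0, 0), (3, 214, 0, 0, 0), (0, 192, 0, 0, 0), (2, 192, 0, 0, 0), (0, 230, 0, 0, 0),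
    (3, 230, 0, 0, 0), (0, 154, 0, 0, 0), (3, 192, 0, 0, 0), (0, 222, 0, 0, 0), (3, 222, 0, 0, 0), (5, 154, 162, 0, 0),
    (0, 180, 0, 0, 0), (2, 180, 0, 0, 0), (0, 216, 0, 0, 0), (3, 216, 0, 0, 0), (5, 176, 138, 0, 0), (0, 138, 0, 0, 0),
    (3, 180, 0, 0, 0), (0, 201, 0, 0, 0), (3, 201, 0, 0, 0), (3, 197, 0, 0, 0), (0, 145, 0, 0, 0), (3, 138, 0, 0, 0),
    (0, 159, 0, 0, 0), (3, 159, 0, 0, 0), (3, 212, 0, 0, 0), (5, 145, 163, 0, 0), (0, 168, 0, 0, 0), (2, 168, 0, 0, 0),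
    (0, 183, 0, 0, 0), (3, 183, 0, 0, 0), (3, 198, 0, 0, 0), (0, 77, 0, 0, 0), (3, 168, 0, 0, 0), (0, 140, 0, 0, 0),
    (3, 140, 0, 0, 0), (3, 157, 0, 0, 0), (5, 77, 163, 0, 0), (5, 76, 162, 0, 0), (5, 76, 171, 0, 0), (0, 104, 0, 0, 0),
    (0, 76, 0, 0, 0), (3, 182, 0, 0, 0), (3, 144, 0, 0, 0), (5, 104, 163, 0, 0), (0, 97, 0, 0, 0), (0, 92, 0, 0, 0),
    (3, 139, 0, 0, 0), (3, 167, 0, 0, 0), (5, 175, 65, 0, 0), (0, 74, 0, 0, 0), (0, 65, 0, 0, 0), (3, 146, 0, 0, 0),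
    (3, 151, 0, 0, 0), (3, 123, 0, 0, 0), (5, 185, 51, 0, 0), (0, 90, 0, 0, 0), (3, 98, 0, 0, 0), (3, 130, 0, 0, 0),
    (3, 121, 0, 0, 0), (3, 113, 0, 0, 0), (5, 175, 63, 0, 0), (5, 172, 63, 0, 0), (5, 75, 169, 0, 0), (3, 118, 0, 0, 0)]

/-- Derivation for B2. -/
def certB2 : List (ℕ × ℕ × ℕ × ℕ × ℕ) :=
  [(0, 5, 0, 0, 0), (0, 6, 0, 0, 0), (2, 6, 0, 0, 0), (5, 6, 2, 0, 0), (0, 2, 0, 0, 0), (3, 6, 0, 0, 0),
    (3, 4, 0, 0, 0), (2, 1, 0, 0, 0), (3, 0, 0, 0, 0), (3, 1, 0, 0, 0)]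

/-- Derivation for G2. -/
def certG2 : List (ℕ × ℕ × ℕ × ℕ × ℕ) :=
  [(0, 7, 0, 0, 0), (0, 9, 0, 0, 0), (2, 9, 0, 0, 0), (5, 9, 7, 0, 0), (5, 9, 8, 0, 0), (0, 8, 0, 0, 0),
    (2, 8, 0, 0, 0), (7, 10, 0, 0, 0), (3, 11, 0, 0, 0), (0, 4, 0, 0, 0), (3, 8, 0, 0, 0), (3, 6, 0, 0, 0),
    (0, 2, 0, 0, 0), (3, 1, 0, 0, 0), (5, 0, 10, 0, 0), (2, 3, 0, 0, 0), (3, 3, 0, 0, 0)]

/-- Derivation for F4. -/
def certF4 : List (ℕ × ℕ × ℕ × ℕ × ℕ) :=
  [(0, 33, 0, 0, 0), (1, 33, 27, 0, 0), (0, 27, 0, 0, 0), (0, 35, 0, 0, 0), (0, 38, 0, 0, 0), (2, 38, 0, 0, 0),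
    (5, 38, 28, 0, 0), (0, 28, 0, 0, 0), (3, 40, 0, 0, 0), (5, 39, 33, 0, 0), (2, 36, 0, 0, 0), (3, 39, 0, 0, 0),
    (3, 43, 0, 0, 0), (3, 36, 0, 0, 0), (3, 29, 0, 0, 0), (3, 31, 0, 0, 0), (5, 14, 34, 0, 0), (5, 13, 33, 0, 0),
    (3, 25, 0, 0, 0), (3, 20, 0, 0, 0), (5, 20, 34, 0, 0), (5, 12, 34, 0, 0), (3, 22, 0, 0, 0)]

/-- Derivation for F4. -/
def certF4Two : List (ℕ × ℕ × ℕ × ℕ × ℕ) :=
  [(4, 4, 3, 0, 0), (6, 4, 3, 16, 7), (4, 16, 7, 0, 0), (0, 0, 0, 0, 0), (2, 0, 0, 0, 0), (4, 22, 8, 0, 0),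
    (0, 15, 0, 0, 0), (4, 23, 18, 0, 0), (0, 21, 0, 0, 0), (4, 42, 34, 0, 0), (0, 41, 0, 0, 0), (6, 3, 4, 37, 30),
    (4, 30, 37, 0, 0), (0, 45, 0, 0, 0), (0, 11, 0, 0, 0), (5, 0, 46, 0, 0), (4, 43, 44, 0, 0), (0, 46, 0, 0, 0),
    (2, 33, 0, 0, 0), (3, 23, 0, 0, 0), (6, 3, 4, 40, 31), (0, 47, 0, 0, 0), (3, 33, 0, 0, 0), (3, 42, 0, 0, 0),
    (2, 14, 0, 0, 0), (0, 32, 0, 0, 0), (3, 30, 0, 0, 0), (3, 14, 0, 0, 0), (5, 23, 26, 0, 0), (5, 43, 0, 0, 0),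
    (3, 25, 0, 0, 0), (3, 16, 0, 0, 0)]

/-- Derivation for D4. -/
def certD4 : List (ℕ × ℕ × ℕ × ℕ × ℕ) :=
  [(0, 1, 0, 0, 0), (0, 2, 0, 0, 0), (2, 2, 0, 0, 0), (5, 2, 13, 0, 0), (0, 9, 0, 0, 0), (2, 9, 0, 0, 0),
    (0, 13, 0, 0, 0), (2, 13, 0, 0, 0), (3, 4, 0, 0, 0), (5, 9, 1, 0, 0), (5, 9, 15, 0, 0), (5, 17, 1, 0, 0),
    (0, 5, 0, 0, 0), (0, 15, 0, 0, 0), (3, 17, 0, 0, 0), (5, 0, 21, 0, 0), (5, 23, 1, 0, 0), (0, 22, 0, 0, 0),
    (3, 23, 0, 0, 0), (3, 14, 0, 0, 0), (5, 8, 14, 0, 0), (5, 19, 2, 0, 0)]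

/-- Derivation for B2. -/
def certB2Two : List (ℕ × ℕ × ℕ × ℕ × ℕ) :=
  [(0, 0, 0, 0, 0), (3, 2, 0, 0, 0), (0, 3, 0, 0, 0), (2, 3, 0, 0, 0), (3, 1, 0, 0, 0), (0, 7, 0, 0, 0),
    (2, 4, 0, 0, 0)]

/-- Derivation for G2. -/
def certG2Three : List (ℕ × ℕ × ℕ × ℕ × ℕ) :=
  [(0, 3, 0, 0, 0), (3, 0, 0, 0, 0), (0, 7, 0, 0, 0), (2, 7, 0, 0, 0), (3, 5, 0, 0, 0), (0, 9, 0, 0, 0),
    (3, 10, 0, 0, 0), (0, 8, 0, 0, 0), (3, 11, 0, 0, 0), (2, 4, 0, 0, 0)]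

theorem check_E6 : check chevE6 ⟨List.range 6, 0, 0, 0⟩ ⟨[56], [], []⟩ certE6 = true := by decide +kernel
theorem check_E7 : check chevE7 ⟨List.range 7, 0, 0, 0⟩ ⟨[78], [], []⟩ certE7 = true := by decide +kernel
theorem check_E8 : check chevE8 ⟨List.range 8, 0, 0, 0⟩ ⟨[162], [], []⟩ certE8 = true := by decide +kernel
theorem check_B2 : check chevB2 ⟨List.range 2, 1, 2, 0⟩ ⟨[5], [], []⟩ certB2 = true := by decide +kernel
theorem check_G2 : check chevG2 ⟨List.range 2, 0, 3, 0⟩ ⟨[7], [], []⟩ certG2 = true := by decide +kernel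
theorem check_F4 : check chevF4 ⟨List.range 4, 0, 2, 0⟩ ⟨[33], [], []⟩ certF4 = true := by decide +kernel
theorem check_F4Two : check chevF4 ⟨List.range 4, 15, 0, 2⟩ ⟨[], [], [(4, 3)]⟩ certF4Two = true := by decide +kernel
theorem check_D4 : check chevD4 ⟨[3, 2, 1, 0], 4, 0, 0⟩ ⟨[1, 2], [], []⟩ certD4 = true := by decide +kernel
theorem check_B2Two : check chevB2 ⟨List.range 2, 3, 0, 2⟩ ⟨[0], [2], []⟩ certB2Two = true := by decide +kernel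
theorem check_G2Three : check chevG2 ⟨List.range 2, 1, 0, 3⟩ ⟨[3], [0], []⟩ certG2Three = true := by decide +kernel

variable {D : ChevalleyDatum} {F : Type*} [Field F] [Fintype F] (hF : Facts D)

theorem exists_gen (F : Type*) [Field F] [Fintype F] : ∃ g : Fˣ, ∀ x, x ∈ Subgroup.zpowers g :=
  IsCyclic.exists_generator

theorem hg_mem_group (r : ℕ) (t : F) : hF.hg r t ∈ D.group F := hF.wg_mem_group _

theorem commute_hg {β α : ℕ} (hβ : β < D.nroots) (hα : α < D.nroots) (h0 : D.pairing β α = 0) (g : Fˣ)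
    (t : F) : Commute (hF.hg β (g : F)) (hF.xg α t) := by
  have := hg_conj hF hβ hα g t
  rw [h0, zpow_zero, Units.val_one, one_mul, mul_inv_eq_iff_eq_mul] at this
  exact this

include hF in
/-- Generation by a torus element times a root element, and a monomial element. -/
theorem gen_monomial {π : Par} (hc : CharOK F π.bad π.ps) (hw : ∀ i ∈ π.w, i < D.rank)
    {α : ℕ} (hα : α < D.nroots) (hβ : π.beta < D.nroots) (h0 : D.pairing π.beta α = 0)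
    (L : List (ℕ × ℕ × ℕ × ℕ × ℕ)) (h : check D π ⟨[α], [], []⟩ L = true) :
    ∃ a b : ↥(D.group F), Subgroup.closure ({a, b} : Set ↥(D.group F)) = ⊤ := by
  obtain ⟨g, hg⟩ := exists_gen F
  refine two_generate (hF.hg π.beta (g : F) * hF.xg α (1 : F)) (nw hF π.w)
    (mul_mem (hg_mem_group hF _ _) (hF.xg_mem_group _ _)) (nw_mem_group hF _) ?_
  set H : Subgroup (GL D.Idx F) := Subgroup.closure {hF.hg π.beta (g : F) * hF.xg α (1 : F), nw hF π.w}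
  obtain ⟨hh, hx⟩ := split_torus hF (H := H) hβ g (xg_pow_card hF α (1 : F)) (commute_hg hF hβ hα h0 g 1)
    (Subgroup.subset_closure (Or.inl rfl))
  refine le_of_check hF H ⟨hc, hw, hβ, Subgroup.subset_closure (Or.inr rfl), g, hg, hh⟩ L
    ⟨fun a ha => ?_, fun a ha => absurd ha List.not_mem_nil, fun a ha => absurd ha List.not_mem_nil⟩ h
  rw [List.mem_singleton] at ha
  exact ha ▸ ⟨hα, hx⟩

include hF in
/-- The first generator carries two commuting root elements. -/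
theorem gen_pair {π : Par} (hc : CharOK F π.bad π.ps) (hw : ∀ i ∈ π.w, i < D.rank)
    {α α' : ℕ} (hβ : π.beta < D.nroots) (hcm : commutes D π.ps α α' = true)
    (h0 : D.pairing π.beta α = 0) (h0' : D.pairing π.beta α' = 0)
    (L : List (ℕ × ℕ × ℕ × ℕ × ℕ)) (h : check D π ⟨[], [], [(α, α')]⟩ L = true) :
    ∃ a b : ↥(D.group F), Subgroup.closure ({a, b} : Set ↥(D.group F)) = ⊤ := by
  obtain ⟨g, hg⟩ := exists_gen F
  obtain ⟨hα, hα'⟩ := commutes_lt hcm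
  have hyc := commute_of_commutes hF hc hcm (1 : F) 1
  refine two_generate (hF.hg π.beta (g : F) * (hF.xg α (1 : F) * hF.xg α' (1 : F))) (nw hF π.w)
    (mul_mem (hg_mem_group hF _ _) (mul_mem (hF.xg_mem_group _ _) (hF.xg_mem_group _ _))) (nw_mem_group hF _) ?_
  set H : Subgroup (GL D.Idx F) :=
    Subgroup.closure {hF.hg π.beta (g : F) * (hF.xg α (1 : F) * hF.xg α' (1 : F)), nw hF π.w}
  obtain ⟨hh, hx⟩ := split_torus hF (H := H) (y := hF.xg α (1 : F) * hF.xg α' (1 : F)) hβ g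
    (by rw [hyc.mul_pow, xg_pow_card, xg_pow_card, ← _root_.mul_inv_rev, hyc.eq])
    ((commute_hg hF hβ hα h0 g 1).mul_right (commute_hg hF hβ hα' h0' g 1))
    (Subgroup.subset_closure (Or.inl rfl))
  refine le_of_check hF H ⟨hc, hw, hβ, Subgroup.subset_closure (Or.inr rfl), g, hg, hh⟩ L
    ⟨fun a ha => absurd ha List.not_mem_nil, fun a ha => absurd ha List.not_mem_nil, fun a ha => ?_⟩ h
  rw [List.mem_singleton] at ha
  exact ha ▸ ⟨hα, hα', hx⟩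

/-- Type D₄: the second generator is a monomial element times a root element. -/
theorem gen_D4 (hF : Facts chevD4) :
    ∃ a b : ↥(chevD4.group F), Subgroup.closure ({a, b} : Set ↥(chevD4.group F)) = ⊤ := by
  obtain ⟨g, hg⟩ := exists_gen F
  obtain ⟨w, hwd⟩ : ∃ w : List ℕ, w = [3, 2, 1, 0] := ⟨_, rfl⟩
  have hw : ∀ i ∈ w, i < chevD4.rank := by rw [hwd]; decide
  have hc : CharOK F 0 0 := ⟨fun h => absurd rfl h, fun h => absurd rfl h⟩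
  obtain ⟨b, hb⟩ : ∃ b : GL chevD4.Idx F, b = nw hF w * hF.xg 2 (1 : F) := ⟨_, rfl⟩
  refine two_generate (hF.hg 4 (g : F) * hF.xg 1 (1 : F)) b
    (mul_mem (hg_mem_group hF _ _) (hF.xg_mem_group _ _))
    (hb ▸ mul_mem (nw_mem_group hF _) (hF.xg_mem_group _ _)) ?_
  set H : Subgroup (GL chevD4.Idx F) := Subgroup.closure {hF.hg 4 (g : F) * hF.xg 1 (1 : F), b}
  obtain ⟨hh, h1⟩ := split_torus hF (H := H) (by decide) g (xg_pow_card hF 1 (1 : F))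
    (commute_hg hF (by decide) (by decide) (by decide +kernel) g 1) (Subgroup.subset_closure (Or.inl rfl))
  have hbH : b ∈ H := Subgroup.subset_closure (Or.inr rfl)
  have hf : ∀ r, commutes chevD4 0 r 2 = true → hF.xg r (1 : F) ∈ H →
      hF.xg (wroot chevD4 w r) (1 : F) ∈ H := by
    intro r hr hm
    obtain ⟨e, he, hcj⟩ := nw_conj hF hw (commutes_lt hr).1 (1 : F)
    rw [mul_one] at hcj
    refine xg_sign_mem hF he (hcj ▸ ?_)
    have := mul_mem (mul_mem hbH hm) (inv_mem hbH)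
    rw [hb, mul_assoc (nw hF w), ← (commute_of_commutes hF hc hr (1 : F) 1).eq] at this
    simpa [_root_.mul_inv_rev, mul_assoc] using this
  have hbk : ∀ r, r < chevD4.nroots → hF.xg (wroot chevD4 w r) (1 : F) ∈ H →
      (hF.xg 2 (1 : F))⁻¹ * hF.xg r (1 : F) * hF.xg 2 (1 : F) ∈ H := by
    intro r hr hm
    obtain ⟨e, he, hcj⟩ := nw_conj hF hw hr (1 : F)
    rw [mul_one] at hcj
    have := mul_mem (mul_mem (inv_mem hbH) (hcj.symm ▸ xg_one_sign_mem hF he hm)) hbH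
    simpa [hb, _root_.mul_inv_rev, mul_assoc] using this
  have hcomm : ∀ r s u, singleUnit chevD4 0 r s = some u → hF.xg r (1 : F) ∈ H → hF.xg s (1 : F) ∈ H →
      hF.xg u (1 : F) ∈ H := by
    intro r s u hu hr hs
    obtain ⟨C, hC, hk⟩ := comm_singleUnit hF hc hu
    refine xg_sign_mem hF hC ?_
    have := hk 1 1
    rw [mul_one, mul_one] at this
    exact this ▸ mul_mem (inv_mem (mul_mem hr hs)) (mul_mem hs hr)
  subst hwd
  have m9 := hf 1 (by decide +kernel) h1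
  rw [show wroot chevD4 [3, 2, 1, 0] 1 = 9 by decide +kernel] at m9
  have m0 := hcomm 1 9 0 (by decide +kernel) h1 m9
  have m5 := hf 9 (by decide +kernel) m9
  rw [show wroot chevD4 [3, 2, 1, 0] 9 = 5 by decide +kernel] at m5
  have m22 := hf 5 (by decide +kernel) m5
  rw [show wroot chevD4 [3, 2, 1, 0] 5 = 22 by decide +kernel] at m22
  have m6 : hF.xg 6 (1 : F) ∈ H := by
    have := hbk 6 (by decide) (by rwa [show wroot chevD4 [3, 2, 1, 0] 6 = 0 by decide +kernel])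
    rwa [mul_assoc, (commute_of_commutes hF hc (show commutes chevD4 0 6 2 = true by decide +kernel) (1 : F) 1).eq,
      inv_mul_cancel_left] at this
  have m18 := hcomm 6 22 18 (by decide +kernel) m6 m22
  have m7 : hF.xg 7 (1 : F) ∈ H := by
    have hz := hbk 18 (by decide) (by rwa [show wroot chevD4 [3, 2, 1, 0] 18 = 1 by decide +kernel])
    obtain ⟨C, hC, hk⟩ := comm_singleUnit hF hc (show singleUnit chevD4 0 2 18 = some 7 by decide +kernel)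
    refine xg_sign_mem hF hC ?_
    have := hk 1 1
    rw [mul_one, mul_one] at this
    rw [← this]
    simpa [_root_.mul_inv_rev, mul_assoc] using mul_mem (inv_mem m18) hz
  have m2 := hcomm 5 7 2 (by decide +kernel) m5 m7
  have hn : nw hF [3, 2, 1, 0] ∈ H := by simpa [hb] using mul_mem hbH (inv_mem m2)
  refine le_of_check hF H (π := ⟨[3, 2, 1, 0], 4, 0, 0⟩) ⟨hc, hw, by decide, hn, g, hg, hh⟩ certD4
    ⟨fun a ha => ?_, fun a ha => absurd ha List.not_mem_nil, fun a ha => absurd ha List.not_mem_nil⟩ check_D4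
  simp only [List.mem_cons, List.not_mem_nil, or_false] at ha
  rcases ha with rfl | rfl
  exacts [⟨by decide, h1⟩, ⟨by decide, m2⟩]

/-- A diagonal matrix. -/
def IsDiag (g : GL D.Idx F) : Prop := ∃ χ : ℕ → F, (g : Matrix D.Idx D.Idx F) = diagM D χ

omit [Fintype F] in
theorem IsDiag.commute {g g' : GL D.Idx F} (h : IsDiag g) (h' : IsDiag g') : Commute g g' := by
  obtain ⟨χ, hχ⟩ := h
  obtain ⟨χ', hχ'⟩ := h'
  ext1
  rw [Units.val_mul, Units.val_mul, hχ, hχ', Facts.diagM_mul, Facts.diagM_mul]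
  exact Facts.diagM_congr fun s _ => mul_comm _ _

theorem isDiag_hg {r : ℕ} (hr : r < D.nroots) (u : Fˣ) : IsDiag (hF.hg r (u : F)) :=
  ⟨_, hF.hMat_eq r hr (u : F) u.ne_zero⟩

omit [Fintype F] in
theorem isDiag_conj {w : List ℕ} (hw : ∀ i ∈ w, i < D.rank) {g : GL D.Idx F} (h : IsDiag g) :
    IsDiag (nw hF w * g * (nw hF w)⁻¹) := by
  induction w with
  | nil => simpa [nw] using h
  | cons i w ih =>
    obtain ⟨χ, hχ⟩ := ih fun j hj => hw j (List.mem_cons_of_mem _ hj)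
    refine ⟨fun s => χ (D.reflectRoot i s), ?_⟩
    have e : nw hF (i :: w) * g * (nw hF (i :: w))⁻¹ =
        hF.ng (D.simple i) (1 : F) * (nw hF w * g * (nw hF w)⁻¹) * (hF.ng (D.simple i) (1 : F))⁻¹ := by
      simp only [nw, List.map_cons, List.prod_cons, _root_.mul_inv_rev]
      group
    rw [e, Units.val_mul, Units.val_mul, hχ, hF.coe_ng, hF.nMat_mul_diagM i (hw i List.mem_cons_self),
      Matrix.mul_assoc, ← hF.coe_ng, Units.mul_inv, Matrix.mul_one]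

include hF in
/-- The exceptional characteristics of B₂ and G₂. -/
theorem gen_mixed {π : Par} (hc : CharOK F π.bad π.ps) (hw : ∀ i ∈ π.w, i < D.rank) (hβ : π.beta < D.nroots)
    (hq : ∃ x : F, x ≠ 0 ∧ x ≠ 1) {S L r : ℕ} (hS : S < D.nroots) (hL : L < D.nroots)
    (hr : wroot D π.w L = r) (h0 : D.pairing π.beta S = 0)
    (h1 : (D.pairing π.beta L).natAbs = 1) (h2 : (D.pairing π.beta r).natAbs = 1)
    (cert : List (ℕ × ℕ × ℕ × ℕ × ℕ)) (h : check D π ⟨[S], [L], []⟩ cert = true) :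
    ∃ a b : ↥(D.group F), Subgroup.closure ({a, b} : Set ↥(D.group F)) = ⊤ := by
  obtain ⟨g, hg⟩ := exists_gen F
  have hg1 : g ≠ 1 := by
    intro e
    obtain ⟨x, hx0, hx1⟩ := hq
    have := hg (Units.mk0 x hx0)
    rw [e, Subgroup.zpowers_one_eq_bot, Subgroup.mem_bot] at this
    exact hx1 (by simpa using congrArg Units.val this)
  have hne : ∀ m : ℤ, m.natAbs = 1 → ((g ^ m : Fˣ) : F) ≠ 1 := by
    intro m hm e
    rcases Int.natAbs_eq m with h' | h' <;> rw [hm] at h' <;> subst h' <;> simp [hg1] at e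
  have hrlt : r < D.nroots := hr ▸ wroot_lt hF hw hL
  obtain ⟨b, hb⟩ : ∃ b : GL D.Idx F, b = nw hF π.w * hF.xg L (1 : F) := ⟨_, rfl⟩
  refine two_generate (hF.hg π.beta (g : F) * hF.xg S (1 : F)) b
    (mul_mem (hg_mem_group hF _ _) (hF.xg_mem_group _ _))
    (hb ▸ mul_mem (nw_mem_group hF _) (hF.xg_mem_group _ _)) ?_
  set H : Subgroup (GL D.Idx F) := Subgroup.closure {hF.hg π.beta (g : F) * hF.xg S (1 : F), b}
  obtain ⟨hh, hxS⟩ := split_torus hF (H := H) hβ g (xg_pow_card hF S (1 : F))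
    (commute_hg hF hβ hS h0 g 1) (Subgroup.subset_closure (Or.inl rfl))
  have hbH : b ∈ H := Subgroup.subset_closure (Or.inr rfl)
  set hh0 := hF.hg π.beta (g : F) with hh0def
  obtain ⟨v, hv⟩ : ∃ v : F, v = ((g ^ D.pairing π.beta L : Fˣ) : F) := ⟨_, rfl⟩
  obtain ⟨e, he, hcj⟩ := nw_conj hF hw hL (v⁻¹ - 1)
  have hz : b * hh0 * b⁻¹ = nw hF π.w * hh0 * (nw hF π.w)⁻¹ * hF.xg r (e * (v⁻¹ - 1)) := by
    rw [hr] at hcj
    rw [← hcj]
    have hA : hh0⁻¹ * hF.xg L (1 : F) * hh0 = hF.xg L v⁻¹ := by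
      have := hg_conj hF hβ hL g (v⁻¹)
      rw [← hh0def, ← hv, mul_inv_cancel₀ (hv ▸ Units.ne_zero _)] at this
      rw [← this]
      group
    rw [hb, sub_eq_add_neg, hF.xg_add, hF.xg_neg, ← hA]
    group
  obtain ⟨c, hcne, hcm⟩ : ∃ c : F, c ≠ 0 ∧ hF.xg r c ∈ H := by
    have hm : b * hh0 * b⁻¹ ∈ H := mul_mem (mul_mem hbH hh) (inv_mem hbH)
    have hd := ((isDiag_hg hF hβ g).commute (isDiag_conj hF hw (isDiag_hg hF hβ g))).eq
    rw [← hh0def] at hd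
    refine ⟨(((g ^ D.pairing π.beta r : Fˣ) : F) - 1) * (e * (v⁻¹ - 1)), ?_, ?_⟩
    · refine mul_ne_zero (sub_ne_zero.2 (hne _ h2)) (mul_ne_zero ?_ (sub_ne_zero.2 ?_))
      · rcases he with rfl | rfl <;> simp
      · rw [hv, ne_eq, inv_eq_one]; exact hne _ h1
    · have := mul_mem (inv_mem hm) (mul_mem (mul_mem hh hm) (inv_mem hh))
      rw [hz] at this
      rw [sub_one_mul, sub_eq_add_neg, add_comm, hF.xg_add, hF.xg_neg, ← hg_conj hF hβ hrlt, ← hh0def]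
      generalize hF.xg r (e * (v⁻¹ - 1)) = X, nw hF π.w * hh0 * (nw hF π.w)⁻¹ = M at hd this ⊢
      have e2 : (M * X)⁻¹ * (hh0 * (M * X) * hh0⁻¹) = X⁻¹ * (hh0 * X * hh0⁻¹) := by
        calc (M * X)⁻¹ * (hh0 * (M * X) * hh0⁻¹) = X⁻¹ * M⁻¹ * ((hh0 * M) * X * hh0⁻¹) := by group
          _ = X⁻¹ * M⁻¹ * ((M * hh0) * X * hh0⁻¹) := by rw [hd]
          _ = _ := by group
      rwa [e2] at this
  have hR := full_of_torus hF hrlt hβ g hg hh (Or.inl h2) hcne hcm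
  have hLfull : ∀ t : F, hF.xg L t ∈ H := by
    intro t
    obtain ⟨e, he, hcj⟩ := nw_conj hF hw hL t
    rw [hr] at hcj
    have := mul_mem (mul_mem (inv_mem hbH) (hR (e * t))) hbH
    rw [← hcj, hb] at this
    have e3 : (nw hF π.w * hF.xg L (1 : F))⁻¹ * (nw hF π.w * hF.xg L t * (nw hF π.w)⁻¹) *
        (nw hF π.w * hF.xg L (1 : F)) = hF.xg L (-1 + t + 1) := by
      rw [hF.xg_add, hF.xg_add, hF.xg_neg]; group
    rw [e3, neg_add_cancel_comm] at this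
    exact this
  have hn : nw hF π.w ∈ H := by simpa [hb] using mul_mem hbH (inv_mem (hLfull 1))
  refine le_of_check hF H ⟨hc, hw, hβ, hn, g, hg, hh⟩ cert
    ⟨fun a ha => ?_, fun a ha => ?_, fun a ha => absurd ha List.not_mem_nil⟩ h
  · rw [List.mem_singleton] at ha; exact ha ▸ ⟨hS, hxS⟩
  · rw [List.mem_singleton] at ha; exact ha ▸ ⟨hL, hLfull⟩

theorem chevalley_two_generated (hD : D ∈ [chevG2, chevB2, chevD4, chevF4, chevE6, chevE7, chevE8])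
    (hsmall : D ∈ [chevB2, chevG2] → ∃ x : F, x ≠ 0 ∧ x ≠ 1) :
    ∃ a b : ↥(D.group F), Subgroup.closure ({a, b} : Set ↥(D.group F)) = ⊤ := by
  obtain ⟨hF⟩ := facts_of_mem hD
  have hc0 : CharOK F 0 0 := ⟨fun h => absurd rfl h, fun h => absurd rfl h⟩
  simp only [List.mem_cons, List.not_mem_nil, or_false] at hD hsmall
  rcases hD with rfl | rfl | rfl | rfl | rfl | rfl | rfl
  · by_cases h3 : (3 : F) = 0
    · exact gen_mixed hF (π := ⟨List.range 2, 1, 0, 3⟩) ⟨fun h => absurd rfl h, fun _ => by exact_mod_cast h3⟩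
        (by decide) (by decide) (hsmall (Or.inr rfl)) (S := 3) (L := 0) (r := 5) (by decide) (by decide)
        (by decide +kernel) (by decide +kernel) (by decide +kernel) (by decide +kernel) certG2Three check_G2Three
    · exact gen_monomial hF (π := ⟨List.range 2, 0, 3, 0⟩) ⟨fun _ => by exact_mod_cast h3, fun h => absurd rfl h⟩
        (by decide) (α := 7) (by decide) (by decide) (by decide +kernel) certG2 check_G2
  · by_cases h2 : (2 : F) = 0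
    · exact gen_mixed hF (π := ⟨List.range 2, 3, 0, 2⟩) ⟨fun h => absurd rfl h, fun _ => by exact_mod_cast h2⟩
        (by decide) (by decide) (hsmall (Or.inl rfl)) (S := 0) (L := 2) (r := 1) (by decide) (by decide)
        (by decide +kernel) (by decide +kernel) (by decide +kernel) (by decide +kernel) certB2Two check_B2Two
    · exact gen_monomial hF (π := ⟨List.range 2, 1, 2, 0⟩) ⟨fun _ => by exact_mod_cast h2, fun h => absurd rfl h⟩
        (by decide) (α := 5) (by decide) (by decide) (by decide +kernel) certB2 check_B2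
  · exact gen_D4 hF
  · by_cases h2 : (2 : F) = 0
    · exact gen_pair hF (π := ⟨List.range 4, 15, 0, 2⟩) ⟨fun h => absurd rfl h, fun _ => by exact_mod_cast h2⟩
        (by decide) (α := 4) (α' := 3) (by decide) (by decide +kernel) (by decide +kernel) (by decide +kernel)
        certF4Two check_F4Two
    · exact gen_monomial hF (π := ⟨List.range 4, 0, 2, 0⟩) ⟨fun _ => by exact_mod_cast h2, fun h => absurd rfl h⟩
        (by decide) (α := 33) (by decide) (by decide) (by decide +kernel) certF4 check_F4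
  · exact gen_monomial hF (π := ⟨List.range 6, 0, 0, 0⟩) hc0
      (by decide) (α := 56) (by decide) (by decide) (by decide +kernel) certE6 check_E6
  · exact gen_monomial hF (π := ⟨List.range 7, 0, 0, 0⟩) hc0
      (by decide) (α := 78) (by decide) (by decide) (by decide +kernel) certE7 check_E7
  · exact gen_monomial hF (π := ⟨List.range 8, 0, 0, 0⟩) hc0
      (by decide) (α := 162) (by decide) (by decide) (by decide +kernel) certE8 check_E8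

end Cfsg.Agent.Small.TwoGen
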