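import Cfsg.Agent.Lib.Small.TwoGen.HermGen

/-!
An element of `SU_n(q)` moving an isotropic vector around a cycle of hyperbolic pairs, with one torus
element and one Eichler element, generates the group.
-/

set_option autoImplicit false
set_option linter.unusedSectionVars false

namespace Cfsg.Agent.Small.TwoGenU

open Matrix Cfsg.Agent.Small.Unitary

variable {F : Type*} [Field F] [Fintype F] [StarRing F] {n q : ℕ}

/-- A cycle through `M` hyperbolic pairs fixing a vector of the residual space. -/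
structure Cyc (hstar : ∀ x : F, star x = x ^ q) (n : ℕ) where
  g : Cfsg.SU n F q
  M : ℕ
  hM : 1 ≤ M
  e : Fin n → F
  w : Fin n → F
  sing : herm e e = 0
  orth0 : ∀ d, d < 2 * M → d ≠ M → herm e (act (g ^ d) e) = 0
  dual0 : herm e (act (g ^ M) e) ≠ 0
  per : ∃ l : F, l ≠ 0 ∧ act (g ^ (2 * M)) e = l • e
  fix : act g w = w
  ew : herm e w = 0
  span : ∀ v, v ∈ Submodule.span F (Set.range (fun k : ℕ => act (g ^ k) e) ∪ {w})

variable {hstar : ∀ x : F, star x = x ^ q}

namespace Cyc

variable (C : Cyc hstar n) {H : Subgroup (Cfsg.SU n F q)}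

/-- The vectors of the cycle. -/
def z (k : ℕ) : Fin n → F := act (C.g ^ k) C.e

theorem z_zero : C.z 0 = C.e := by rw [z, pow_zero, act_one]

theorem z_add (a b : ℕ) : act (C.g ^ a) (C.z b) = C.z (a + b) := by rw [z, z, ← act_mul, ← pow_add]

theorem z_succ (k : ℕ) : act C.g (C.z k) = C.z (k + 1) := by rw [z, z, ← act_mul, ← pow_succ']

theorem z_iso (k : ℕ) : herm (C.z k) (C.z k) = 0 := by rw [z, herm_act hstar, C.sing]

theorem fix_pow (k : ℕ) : act (C.g ^ k) C.w = C.w := by
  induction k with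
  | zero => rw [pow_zero, act_one]
  | succ k ih => rw [pow_succ, act_mul, C.fix, ih]

theorem z_w (k : ℕ) : herm (C.z k) C.w = 0 := by
  rw [z, ← C.fix_pow k, herm_act hstar, C.ew]

theorem w_z (k : ℕ) : herm C.w (C.z k) = 0 := by rw [← star_herm, z_w, star_zero]

theorem wrap (k : ℕ) : ∃ l : F, l ≠ 0 ∧ C.z (k + 2 * C.M) = l • C.z k := by
  obtain ⟨l, hl, he⟩ := C.per
  refine ⟨l, hl, ?_⟩
  rw [← C.z_add k (2 * C.M), z, he, act_smul]
  rfl

theorem herm_shift (k a b : ℕ) : herm (C.z (k + a)) (C.z (k + b)) = herm (C.z a) (C.z b) := by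
  rw [← C.z_add, ← C.z_add, herm_act hstar]

theorem orth_e {d : ℕ} (hd : d < 6 * C.M) (h1 : d ≠ C.M) (h3 : d ≠ 3 * C.M) (h5 : d ≠ 5 * C.M) :
    herm (C.z 0) (C.z d) = 0 := by
  have key : ∀ d, d < 2 * C.M → d ≠ C.M → herm (C.z 0) (C.z d) = 0 := fun d h1 h2 => by
    rw [C.z_zero]; exact C.orth0 d h1 h2
  by_cases hA : d < 2 * C.M
  · exact key d hA h1
  obtain ⟨d', rfl⟩ : ∃ d', d = d' + 2 * C.M := ⟨d - 2 * C.M, by omega⟩
  obtain ⟨l, -, hl⟩ := C.wrap d'
  rw [hl, herm_smul_right]
  by_cases hB : d' < 2 * C.M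
  · rw [key d' hB (by omega), mul_zero]
  obtain ⟨d'', rfl⟩ : ∃ d'', d' = d'' + 2 * C.M := ⟨d' - 2 * C.M, by omega⟩
  obtain ⟨l', -, hl'⟩ := C.wrap d''
  rw [hl', herm_smul_right, key d'' (by omega) (by omega), mul_zero, mul_zero]

theorem orth {a b : ℕ} (ha : a < 6 * C.M) (hb : b < 6 * C.M) (h1 : a + C.M ≠ b) (h2 : b + C.M ≠ a)
    (h3 : a + 3 * C.M ≠ b) (h4 : b + 3 * C.M ≠ a) (h5 : a + 5 * C.M ≠ b) (h6 : b + 5 * C.M ≠ a) :
    herm (C.z a) (C.z b) = 0 := by
  rcases le_total a b with h | h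
  · obtain ⟨d, rfl⟩ : ∃ d, b = a + d := ⟨b - a, by omega⟩
    rw [show C.z a = C.z (a + 0) from rfl, C.herm_shift]
    exact C.orth_e (by omega) (by omega) (by omega) (by omega)
  · obtain ⟨d, rfl⟩ : ∃ d, a = b + d := ⟨a - b, by omega⟩
    rw [show C.z b = C.z (b + 0) from rfl, C.herm_shift, ← star_herm,
      C.orth_e (by omega) (by omega) (by omega) (by omega), star_zero]

theorem dual {a b : ℕ} (h : b = a + C.M ∨ a = b + C.M) : herm (C.z a) (C.z b) ≠ 0 := by
  have h0 : herm (C.z 0) (C.z C.M) ≠ 0 := by rw [C.z_zero]; exact C.dual0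
  rcases h with rfl | rfl
  · rw [show C.z a = C.z (a + 0) from rfl, C.herm_shift]; exact h0
  · rw [← star_herm, show C.z b = C.z (b + 0) from rfl, C.herm_shift]; exact star_ne_zero.mpr h0

/-- An element diagonal on the cycle commutes with its conjugate by the cycle element. -/
theorem comm_conj {h : Cfsg.SU n F q} (hz : ∀ k, ∃ l : F, act h (C.z k) = l • C.z k) {ν : F}
    (hw : act h C.w = ν • C.w) :
    h * (C.g * h * C.g⁻¹) = C.g * h * C.g⁻¹ * h := by
  have hinv : ∀ k, act C.g⁻¹ (C.z (k + 1)) = C.z k := fun k => by rw [← C.z_succ, act_inv_act]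
  have hz' : ∀ k, ∃ l : F, act (C.g * h * C.g⁻¹) (C.z k) = l • C.z k := by
    intro k
    rcases k with _ | k
    · obtain ⟨l₀, hl₀, he⟩ := C.wrap 0
      obtain ⟨l, hl⟩ := hz (2 * C.M - 1)
      refine ⟨l, ?_⟩
      have : C.z 0 = l₀⁻¹ • C.z (2 * C.M - 1 + 1) := by
        rw [show 2 * C.M - 1 + 1 = 0 + 2 * C.M by have := C.hM; omega, he, smul_smul, inv_mul_cancel₀ hl₀, one_smul]
      rw [this, act_mul, act_mul, act_smul, hinv, act_smul, hl, act_smul, act_smul, C.z_succ, smul_comm]
    · obtain ⟨l, hl⟩ := hz k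
      exact ⟨l, by rw [act_mul, act_mul, hinv, hl, act_smul, C.z_succ]⟩
  have hw' : act (C.g * h * C.g⁻¹) C.w = ν • C.w := by
    rw [act_mul, act_mul, show act C.g⁻¹ C.w = C.w by conv_lhs => rw [← C.fix, act_inv_act], hw, act_smul, C.fix]
  refine eq_of_act fun v => ?_
  induction C.span v using Submodule.span_induction with
  | mem x hx =>
    rcases hx with ⟨k, rfl⟩ | rfl
    · obtain ⟨l, hl⟩ := hz k
      obtain ⟨l', hl'⟩ := hz' k
      change act _ (C.z k) = act _ (C.z k)
      rw [act_mul, act_mul (C.g * h * C.g⁻¹) h, hl, hl', act_smul, act_smul, hl, hl', smul_comm]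
    · rw [act_mul, act_mul (C.g * h * C.g⁻¹) h, hw, hw', act_smul, act_smul, hw, hw', smul_comm]
  | zero => simp [act]
  | add x y _ _ hx hy => rw [act_add, act_add, hx, hy]
  | smul c x _ hx => rw [act_smul, act_smul, hx]

theorem conj_first {h : Cfsg.SU n F q} {l : F} (hl : act h (C.z (2 * C.M - 1)) = l • C.z (2 * C.M - 1)) :
    act (C.g * h * C.g⁻¹) (C.z 0) = l • C.z 0 := by
  obtain ⟨l₀, hl₀, he⟩ := C.wrap 0
  have hinv : ∀ k, act C.g⁻¹ (C.z (k + 1)) = C.z k := fun k => by rw [← C.z_succ, act_inv_act]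
  have : C.z 0 = l₀⁻¹ • C.z (2 * C.M - 1 + 1) := by
    rw [show 2 * C.M - 1 + 1 = 0 + 2 * C.M by have := C.hM; omega, he, smul_smul, inv_mul_cancel₀ hl₀, one_smul]
  rw [this, act_mul, act_mul, act_smul, hinv, act_smul, hl, act_smul, act_smul, C.z_succ, smul_comm]

theorem conj_succ {h : Cfsg.SU n F q} {k : ℕ} {l : F} (hl : act h (C.z k) = l • C.z k) :
    act (C.g * h * C.g⁻¹) (C.z (k + 1)) = l • C.z (k + 1) := by
  rw [act_mul, act_mul, ← C.z_succ, act_inv_act, hl, act_smul, C.z_succ]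

theorem conj_w {h : Cfsg.SU n F q} {ν : F} (hw : act h C.w = ν • C.w) :
    act (C.g * h * C.g⁻¹) C.w = ν • C.w := by
  rw [act_mul, act_mul, show act C.g⁻¹ C.w = C.w by conv_lhs => rw [← C.fix, act_inv_act], hw, act_smul, C.fix]

/-- Everything, from the root groups at the base vector. -/
theorem close (hF : Fintype.card F = q ^ 2) (hn : 3 ≤ n) (hex : ¬(n = 3 ∧ q = 2)) (hg : C.g ∈ H)
    (hL : ∀ j, j < 2 * C.M → j ≠ 0 → j ≠ C.M → Sh hstar H (C.z 0) (C.z j))
    (hw : Sh hstar H (C.z 0) C.w) (hT : Tr hstar H (C.z 0)) : H = ⊤ := by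
  have hM := C.hM
  have hd0 : herm (C.z 0) (C.z C.M) ≠ 0 := C.dual (Or.inl (Nat.zero_add _).symm)
  obtain ⟨c, hc⟩ : ∃ c, c = (herm (C.z 0) (C.z C.M))⁻¹ := ⟨_, rfl⟩
  have hc0 : c ≠ 0 := hc ▸ inv_ne_zero hd0
  obtain ⟨f, hf⟩ : ∃ f, f = c • C.z C.M := ⟨_, rfl⟩
  have hee := C.z_iso 0
  have hff : herm f f = 0 := by rw [hf, herm_smul_left, herm_smul_right, C.z_iso]; ring
  have hef : herm (C.z 0) f = 1 := by rw [hf, herm_smul_right, hc, inv_mul_cancel₀ hd0]
  have hfe : herm f (C.z 0) = 1 := by rw [← star_herm, hef, star_one]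
  have hproj : ∀ v, Sh hstar H (C.z 0) (v - herm f v • C.z 0 - herm (C.z 0) v • f) := by
    intro v
    induction C.span v using Submodule.span_induction with
    | mem x hx =>
      rcases hx with ⟨k, rfl⟩ | rfl
      · change Sh hstar H (C.z 0) (C.z k - _ - _)
        obtain ⟨d, r, rfl, hr⟩ : ∃ d r, k = r + d * (2 * C.M) ∧ r < 2 * C.M :=
          ⟨k / (2 * C.M), k % (2 * C.M), (Nat.mod_add_div' k _).symm, Nat.mod_lt _ (by omega)⟩
        obtain ⟨l, hl⟩ : ∃ l : F, C.z (r + d * (2 * C.M)) = l • C.z r := by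
          clear hr
          induction d with
          | zero => exact ⟨1, by rw [Nat.zero_mul, Nat.add_zero, one_smul]⟩
          | succ d ih =>
            obtain ⟨l, hl⟩ := ih
            obtain ⟨l', -, hl'⟩ := C.wrap (r + d * (2 * C.M))
            exact ⟨l' * l, by rw [Nat.succ_mul, ← Nat.add_assoc, hl', hl, smul_smul]⟩
        change Sh hstar H (C.z 0) (C.z (r + d * (2 * C.M)) - herm f (C.z (r + d * (2 * C.M))) • C.z 0 -
          herm (C.z 0) (C.z (r + d * (2 * C.M))) • f)
        rw [hl, herm_smul_right, herm_smul_right, ← smul_smul, ← smul_smul, ← smul_sub, ← smul_sub]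
        refine Sh.smul ?_ l
        rcases eq_or_ne r 0 with rfl | hr0
        · rw [hfe, hee, one_smul, zero_smul, sub_self, sub_zero]; exact Sh.zero hee
        rcases eq_or_ne r C.M with rfl | hrM
        · rw [show herm f (C.z C.M) = 0 by rw [hf, herm_smul_left, C.z_iso, mul_zero], zero_smul, sub_zero, hf,
            smul_smul, hc, mul_inv_cancel₀ hd0, one_smul, sub_self]
          exact Sh.zero hee
        · rw [show herm f (C.z r) = 0 by
              rw [hf, herm_smul_left,
                C.orth (a := C.M) (b := r) (by omega) (by omega) (by omega) (by omega) (by omega) (by omega) (by omega)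
                  (by omega), mul_zero],
            C.orth (a := 0) (b := r) (by omega) (by omega) (by omega) (by omega) (by omega) (by omega) (by omega)
              (by omega), zero_smul, zero_smul, sub_zero, sub_zero]
          exact hL r hr hr0 hrM
      · rw [C.z_w, hf, herm_smul_left, C.z_w, mul_zero, zero_smul, zero_smul, sub_zero, sub_zero]
        exact hw
    | zero => rw [herm_zero_right, herm_zero_right, zero_smul, zero_smul, sub_zero, sub_zero]; exact Sh.zero hee
    | add x y _ _ hx hy =>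
      convert hx.add hy using 1
      rw [herm_add_right, herm_add_right]; module
    | smul a x _ hx =>
      convert hx.smul a using 1
      rw [herm_smul_right, herm_smul_right]; module
  have hE : ∀ r, herm (C.z 0) r = 0 → herm f r = 0 → Sh hstar H (C.z 0) r := fun r h1 h2 => by
    have := hproj r
    rwa [h1, h2, zero_smul, zero_smul, sub_zero, sub_zero] at this
  have hTf : Tr hstar H f := by
    have := (hT.conj hee (pow_mem hg C.M)).scale (by rw [herm_act hstar]; exact hee) hc0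
    rwa [C.z_add, Nat.add_zero, ← hf] at this
  refine eq_top_of_radicals hF hn hex hee hff hef hE (fun r h1 h2 => ?_) hT hTf
  obtain ⟨r', rfl⟩ : ∃ r', r = act (C.g ^ C.M) r' := ⟨_, (act_act_inv (C.g ^ C.M) r).symm⟩
  have hM0 : C.z C.M = act (C.g ^ C.M) (C.z 0) := by rw [C.z_add, Nat.add_zero]
  have e1 : herm (C.z 0) r' = 0 := by
    rw [hf, herm_smul_left] at h2
    have := (mul_eq_zero.1 h2).resolve_left (star_ne_zero.mpr hc0)
    rwa [hM0, herm_act hstar] at this
  have e2 : herm f r' = 0 := by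
    obtain ⟨l, -, hl⟩ := C.wrap 0
    have : herm (C.z (C.M + C.M)) (act (C.g ^ C.M) r') = 0 := by
      rw [show C.M + C.M = 0 + 2 * C.M by omega, hl, herm_smul_left, h1, mul_zero]
    rw [← C.z_add, herm_act hstar] at this
    rw [hf, herm_smul_left, this, mul_zero]
  have h3 := ((hE r' e1 e2).conj (pow_mem hg C.M)).scale hc0
  rwa [← hM0, ← hf] at h3

/-- The long root groups from a family at an anisotropic fixed vector. -/
theorem close_aniso (hF : Fintype.card F = q ^ 2) (hn : 3 ≤ n) (hex : ¬(n = 3 ∧ q = 2)) (hg : C.g ∈ H)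
    (hw : Sh hstar H (C.z 0) C.w) (hww : herm C.w C.w = 1) : H = ⊤ := by
  have hT := Tr_of_Sh hF hw hww
  refine C.close hF hn hex hg (fun j hj hj0 hjM => ?_) hw hT
  obtain ⟨a, ha, hm⟩ := ((hw.conj (pow_mem hg j))).mem_one
  rw [C.fix_pow, C.z_add, Nat.add_zero] at ha hm
  have h := Sh.bracket hm hw ha
    (C.orth (by omega) (by omega) (by omega) (by omega) (by omega) (by omega) (by omega) (by omega)) (C.w_z 0)
  rw [C.z_w, hww, zero_smul, mul_zero, zero_add, zero_sub] at h
  exact h.of_smul (neg_ne_zero.2 one_ne_zero)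

/-- The pieces from the adjacent short root group and the cycle. -/
theorem close_short (hF : Fintype.card F = q ^ 2) (hn : 3 ≤ n) (hex : ¬(n = 3 ∧ q = 2)) (hg : C.g ∈ H)
    (hM : 2 ≤ C.M) (hw : C.w = 0) (hX : Pl hstar H (C.z 0) (C.z 1))
    (hY : Pl hstar H (C.z (C.M - 1)) (C.z 0)) (hT : Tr hstar H (C.z 0)) : H = ⊤ := by
  have hTk : ∀ k, Tr hstar H (C.z k) := fun k => by
    have := hT.conj (C.z_iso 0) (pow_mem hg k)
    rwa [C.z_add, Nat.add_zero] at this
  have h1 : Sh hstar H (C.z 0) (C.z 1) := hX.sh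
  have hc : Sh hstar H (C.z 0) (C.z (C.M + 1)) := by
    have h := (hY.conj (pow_mem hg (C.M + 1))).sh
    rw [C.z_add, C.z_add, show C.M + 1 + (C.M - 1) = 0 + 2 * C.M by omega, Nat.add_zero] at h
    obtain ⟨l, hl, he⟩ := C.wrap 0
    rw [he] at h
    exact h.of_scale hl
  have step : ∀ j, j ≠ 0 → j + 1 < 2 * C.M → j ≠ C.M → j + 1 ≠ C.M → Sh hstar H (C.z 0) (C.z j) →
      Sh hstar H (C.z 0) (C.z (j + 1)) := by
    intro j hj0 hj hjM hjM1 hLj
    have hsh := hLj.conj (pow_mem hg (C.M + 1 + C.M))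
    rw [C.z_add, C.z_add, Nat.add_zero] at hsh
    have hok : EOk (C.z (C.M + 1 + C.M)) ((1 : F) • C.z (C.M + 1 + C.M + j)) 0 := by
      refine ⟨C.z_iso _, ?_, by rw [one_smul, C.z_iso]; simp⟩
      rw [one_smul]
      exact C.orth (by omega) (by omega) (by omega) (by omega) (by omega) (by omega) (by omega) (by omega)
    have hm := mem_of_Sh hsh (hTk _) hok
    rw [one_smul] at hm hok
    have h := Sh.bracket hm hc hok
      (C.orth (by omega) (by omega) (by omega) (by omega) (by omega) (by omega) (by omega) (by omega))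
      (C.orth (by omega) (by omega) (by omega) (by omega) (by omega) (by omega) (by omega) (by omega))
    rw [zero_mul, C.orth (a := C.M + 1 + C.M + j) (b := C.M + 1) (by omega) (by omega) (by omega) (by omega) (by omega)
      (by omega) (by omega) (by omega), sub_zero, zero_smul, add_zero] at h
    have h' := h.of_smul (C.dual (Or.inr rfl))
    obtain ⟨l, hl, he⟩ := C.wrap (j + 1)
    rw [show C.M + 1 + C.M + j = j + 1 + 2 * C.M by omega, he] at h'
    exact h'.of_smul hl
  refine C.close hF hn hex hg ?_ (by rw [hw]; exact Sh.zero (C.z_iso 0)) hT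
  intro j
  induction j with
  | zero => intro _ h _; exact absurd rfl h
  | succ j ih =>
    intro hj _ hjM
    rcases eq_or_ne j 0 with rfl | hj0
    · exact h1
    rcases eq_or_ne j C.M with rfl | hjM'
    · exact hc
    exact step j hj0 hj hjM' hjM (ih (by omega) hj0 hjM')

/-- All transvections at the base vector from two opposite short root groups. -/
theorem Tr_of_short (hF : Fintype.card F = q ^ 2) {j : ℕ} (hj : j + C.M < 6 * C.M) (hj0 : j ≠ 0)
    (hjM : j ≠ C.M) (hj2 : j < 2 * C.M)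
    (hA : Pl hstar H (C.z (j + C.M)) (C.z 0)) (hB : Pl hstar H (C.z 0) (C.z j)) : Tr hstar H (C.z 0) := by
  intro t ht
  obtain ⟨r, hr⟩ := exists_skew_diff hF hstar ht
  obtain ⟨d, hd⟩ : ∃ d, d = r / herm (C.z (j + C.M)) (C.z j) := ⟨_, rfl⟩
  obtain ⟨h1, h2⟩ := hA d
  obtain ⟨h3, h4⟩ := hB 1
  rw [one_smul] at h3 h4
  have hz0 : herm (d • C.z 0) (C.z j) = 0 := by
    rw [herm_smul_left,
      C.orth (by omega) (by omega) (by omega) (by omega) (by omega) (by omega) (by omega) (by omega), mul_zero]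
  obtain ⟨b', hb1, hb2, hb3⟩ := TwoGenU.bracket h2 h4 h1 h3
    (C.orth (by omega) (by omega) (by omega) (by omega) (by omega) (by omega) (by omega) (by omega))
    (by rw [herm_smul_left, C.z_iso, mul_zero])
  have hβ : herm (C.z (j + C.M)) (C.z j) ≠ 0 := C.dual (Or.inr rfl)
  have hvec : herm (C.z (j + C.M)) (C.z j) • (d • C.z 0) +
      (0 * herm (C.z (j + C.M)) (C.z j) - herm (d • C.z 0) (C.z j)) • C.z (j + C.M) = 0 + r • C.z 0 := by
    rw [hz0, zero_mul, sub_zero, zero_smul, add_zero, zero_add, smul_smul, hd, mul_div_cancel₀ _ hβ]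
  have hb : b' = 0 := by
    rw [hb3, star_zero, add_zero, zero_add, act_eich hstar h1, hz0, sub_zero, zero_mul, zero_smul, add_zero,
      herm_add_left, herm_smul_left, hz0, mul_zero, C.z_iso, add_zero]
  rw [hvec, hb] at hb2
  have h00 : EOk (C.z 0) 0 0 := (EOk_zero_iff (C.z_iso 0)).2 (by simp)
  rwa [eich_shift hstar r h00, zero_add, hr] at hb2

/-- The case of a pure adjacent root group. -/
theorem close_two (hF : Fintype.card F = q ^ 2) (hn : 3 ≤ n) (hex : ¬(n = 3 ∧ q = 2)) (hM : C.M = 2)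
    (hw : C.w = 0) (hg : C.g ∈ H) (hX : Pl hstar H (C.z 0) (C.z 1)) : H = ⊤ := by
  have hY : Pl hstar H (C.z (C.M - 1)) (C.z 0) := by
    rw [show C.M - 1 = 1 by omega]; exact hX.swap (C.z_iso 1)
  refine C.close_short hF hn hex hg (by omega) hw hX hY
    (C.Tr_of_short hF (j := 1) (by omega) one_ne_zero (by omega) (by omega) ?_ hX)
  have h := hX.conj (pow_mem hg (1 + C.M))
  rw [C.z_add, C.z_add, show 1 + C.M + 1 = 0 + 2 * C.M by omega, Nat.add_zero] at h
  obtain ⟨l, hl, he⟩ := C.wrap 0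
  rw [he] at h
  exact h.of_smul hl

/-- The case of a cycle element carrying a transvection. -/
theorem close_twisted (hF : Fintype.card F = q ^ 2) (hn : 3 ≤ n) (hex : ¬(n = 3 ∧ q = 2)) (hM : 3 ≤ C.M)
    (hw : C.w = 0) {θ : F} (hθ0 : θ ≠ 0) (hθ : star θ = -θ)
    (hg : eich hstar (C.z 0) 0 θ * C.g ∈ H) (hX : Pl hstar H (C.z 0) (C.z 1)) : H = ⊤ := by
  obtain ⟨m, hm⟩ : ∃ m, m = eich hstar (C.z 0) 0 θ * C.g := ⟨_, rfl⟩
  rw [← hm] at hg
  have hmz : ∀ k, act m (C.z k) = C.z (k + 1) + (θ * herm (C.z 0) (C.z (k + 1))) • C.z 0 := fun k => by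
    rw [hm, act_mul, C.z_succ, act_eich_zero hstar (C.z_iso 0) hθ]
  have hmz0 : ∀ k, k + 1 < 6 * C.M → k + 1 ≠ C.M → k + 1 ≠ 3 * C.M → k + 1 ≠ 5 * C.M →
      act m (C.z k) = C.z (k + 1) := fun k h1 h2 h3 h4 => by
    rw [hmz, C.orth_e h1 h2 h3 h4, mul_zero, zero_smul, add_zero]
  have fwd : ∀ k, k + 1 ≤ C.M - 1 → Pl hstar H (C.z k) (C.z (k + 1)) := by
    intro k
    induction k with
    | zero => intro _; exact hX
    | succ k ih =>
      intro hk
      have h := (ih (by omega)).conj hg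
      rwa [hmz0 k (by omega) (by omega) (by omega) (by omega),
        hmz0 (k + 1) (by omega) (by omega) (by omega) (by omega)] at h
  have bwd : ∀ i, i ≤ C.M → Pl hstar H (C.z (2 * C.M - i)) (C.z (2 * C.M - i + 1)) := by
    intro i
    induction i with
    | zero =>
      intro _
      obtain ⟨l, hl, he⟩ := C.wrap 0
      obtain ⟨l', -, he'⟩ := C.wrap 1
      rw [show 2 * C.M - 0 + 1 = 1 + 2 * C.M by omega, show 2 * C.M - 0 = 0 + 2 * C.M by omega, he, he']
      exact (hX.smul l').scale hl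
    | succ i ih =>
      intro hi
      have h := (ih (by omega)).conj (inv_mem hg)
      obtain ⟨k, hk⟩ : ∃ k, k = 2 * C.M - (i + 1) := ⟨_, rfl⟩
      rw [show 2 * C.M - i = k + 1 by omega, ← hmz0 k (by omega) (by omega) (by omega) (by omega),
        ← hmz0 (k + 1) (by omega) (by omega) (by omega) (by omega), act_inv_act, act_inv_act] at h
      rwa [← hk]
  -- the impure root group next to the twist
  obtain ⟨τ, hτ⟩ : ∃ τ, τ = θ * herm (C.z 0) (C.z C.M) := ⟨_, rfl⟩
  have hI : Pl hstar H (C.z (C.M - 1)) (C.z C.M + τ • C.z 0) := by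
    have h := (fwd (C.M - 2) (by omega)).conj hg
    rw [hmz0 (C.M - 2) (by omega) (by omega) (by omega) (by omega), hmz (C.M - 2 + 1)] at h
    rwa [show C.M - 2 + 1 + 1 = C.M by omega, show C.M - 2 + 1 = C.M - 1 by omega, ← hτ] at h
  have hw0 : herm (C.z C.M + τ • C.z 0) (C.z C.M + τ • C.z 0) = 0 := by
    have h := (hI 1).1.2.2
    simpa using h
  have hd0 : herm (C.z C.M) (C.z 0) ≠ 0 := C.dual (Or.inr (Nat.zero_add _).symm)
  have hA : Pl hstar H (C.z (C.M - 1)) (C.z (C.M + 1)) := by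
    have hg' := bwd C.M le_rfl 1
    rw [show 2 * C.M - C.M = C.M by omega, one_smul] at hg'
    have e2 : herm (C.z (C.M + 1)) (C.z C.M + τ • C.z 0) = 0 := by
      rw [herm_add_right, herm_smul_right,
        C.orth (by omega) (by omega) (by omega) (by omega) (by omega) (by omega) (by omega) (by omega),
        C.orth (b := 0) (by omega) (by omega) (by omega) (by omega) (by omega) (by omega) (by omega) (by omega)]
      ring
    have h := Pl.bracket hg'.2 hI hg'.1
      (C.orth (by omega) (by omega) (by omega) (by omega) (by omega) (by omega) (by omega) (by omega))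
      (C.orth (by omega) (by omega) (by omega) (by omega) (by omega) (by omega) (by omega) (by omega))
      (by rw [act_eich hstar hg'.1, zero_mul, zero_sub, herm_add_left, herm_add_left, herm_smul_left, herm_smul_left,
            hw0, e2]
          simp [e2])
    rw [e2, zero_smul, sub_zero, herm_add_right, herm_smul_right, C.z_iso, zero_add] at h
    refine h.of_smul (mul_ne_zero (hτ ▸ mul_ne_zero hθ0 ?_) hd0)
    exact C.dual (Or.inl (Nat.zero_add _).symm)
  have hY : Pl hstar H (C.z (C.M - 1)) (C.z 0) := by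
    have hg' := (hX.swap (C.z_iso 1)) 1
    rw [one_smul] at hg'
    have e2 : herm (C.z 0) (C.z (C.M + 1)) = 0 :=
      C.orth_e (by omega) (by omega) (by omega) (by omega)
    have h := Pl.bracket hg'.2 hA hg'.1
      (C.orth (by omega) (by omega) (by omega) (by omega) (by omega) (by omega) (by omega) (by omega))
      (C.orth (a := 0) (by omega) (by omega) (by omega) (by omega) (by omega) (by omega) (by omega) (by omega))
      (by rw [act_eich hstar hg'.1, zero_mul, zero_sub, e2, neg_zero, zero_smul, add_zero, herm_add_left,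
            herm_smul_left, C.z_iso, e2]
          ring)
    rw [e2, zero_smul, sub_zero] at h
    exact h.of_smul (C.dual (Or.inl (by omega)))
  have hP : Pl hstar H (C.z (C.M - 1 + C.M)) (C.z 0) := by
    have h := bwd 1 (by omega)
    rw [show 2 * C.M - 1 + 1 = 0 + 2 * C.M by omega, show 2 * C.M - 1 = C.M - 1 + C.M by omega] at h
    obtain ⟨l, hl, he⟩ := C.wrap 0
    rw [he] at h
    exact h.of_smul hl
  have hT : Tr hstar H (C.z 0) :=
    C.Tr_of_short hF (j := C.M - 1) (by omega) (by omega) (by omega) (by omega) hP (hY.swap (C.z_iso 0))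
  have hgH : C.g ∈ H := by
    have := mul_mem (inv_mem (hT θ hθ)) hg
    rwa [hm, inv_mul_cancel_left] at this
  exact C.close_short hF hn hex hgH (by omega) hw hX hY hT

end Cyc

end Cfsg.Agent.Small.TwoGenU
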