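import Cfsg.Agent.Lib.Small.Unitary.Eichler
import Cfsg.Agent.Lib.Small.Unitary.Simple

/-!
Families of Eichler elements inside a subgroup of `SU_n(q)`: the bracket rule, root groups from one
commutator with a torus, and a criterion for a subgroup to be everything.
-/

set_option autoImplicit false
set_option linter.unusedSectionVars false

namespace Cfsg.Agent.Small.TwoGenU

open Matrix Cfsg.Agent.Small.Unitary

variable {F : Type*} [Field F] [Fintype F] [StarRing F] {n q : ℕ} (hstar : ∀ x : F, star x = x ^ q)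

local notation "Vn" => Fin n → F
local notation "Gn" => Cfsg.SU n F q

theorem herm_neg_right (u v : Vn) : herm u (-v) = -herm u v := by simp [herm]

theorem herm_neg_left (u v : Vn) : herm (-u) v = -herm u v := by simp [herm]

/-- All multiples of `z` give Eichler elements at `e` inside `H`. -/
def Sh (H : Subgroup Gn) (e z : Vn) : Prop :=
  ∀ c : F, ∃ a : F, EOk e (c • z) a ∧ eich hstar e (c • z) a ∈ H

/-- All transvections along `e` lie in `H`. -/
def Tr (H : Subgroup Gn) (e : Vn) : Prop := ∀ t : F, star t = -t → eich hstar e 0 t ∈ H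

variable {hstar}
variable {H : Subgroup (Cfsg.SU n F q)}

theorem eich_inv {e z : Vn} {a : F} (h : EOk e z a) :
    (eich hstar e z a)⁻¹ = eich hstar e (-z) (star a) ∧ EOk e (-z) (star a) := by
  have h' : EOk e (-z) (star a) := ⟨h.1, by rw [herm_neg_right, h.2.1, neg_zero], by
    rw [herm_neg_left, herm_neg_right, neg_neg, star_star]; linear_combination h.2.2⟩
  refine ⟨?_, h'⟩
  rw [inv_eq_iff_mul_eq_one, eich_mul hstar h h', add_neg_cancel, herm_neg_right, sub_neg_eq_add, h.2.2,
    eich_zero_zero hstar h.1]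

theorem Sh.ok {e z : Vn} (h : Sh hstar H e z) : herm e e = 0 ∧ herm e z = 0 := by
  obtain ⟨a, ha, -⟩ := h 1
  exact ⟨ha.1, by simpa using ha.2.1⟩

theorem Sh.smul {e z : Vn} (h : Sh hstar H e z) (d : F) : Sh hstar H e (d • z) := fun c => by
  rw [smul_smul]; exact h _

theorem Sh.of_smul {e z : Vn} {d : F} (hd : d ≠ 0) (h : Sh hstar H e (d • z)) : Sh hstar H e z := by
  have := h.smul d⁻¹
  rwa [smul_smul, inv_mul_cancel₀ hd, one_smul] at this

theorem Sh.zero {e : Vn} (he : herm e e = 0) : Sh hstar H e 0 := fun c =>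
  ⟨0, by rw [smul_zero]; exact (EOk_zero_iff he).2 (by simp), by
    rw [smul_zero, eich_zero_zero hstar he]; exact one_mem H⟩

theorem Sh.add {e z z' : Vn} (h : Sh hstar H e z) (h' : Sh hstar H e z') : Sh hstar H e (z + z') := fun c => by
  obtain ⟨a, ha, hm⟩ := h c
  obtain ⟨b, hb, hm'⟩ := h' c
  rw [smul_add]
  exact ⟨_, ha.add hb, eich_mul hstar ha hb ▸ mul_mem hm hm'⟩

theorem Sh.conj {e z : Vn} (h : Sh hstar H e z) {g : Gn} (hg : g ∈ H) :
    Sh hstar H (act g e) (act g z) := fun c => by
  obtain ⟨a, ha, hm⟩ := h c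
  refine ⟨a, ?_, ?_⟩
  · rw [← act_smul]; exact ha.act hstar g
  · rw [← act_smul, ← eich_conj hstar g ha]
    exact mul_mem (mul_mem hg hm) (inv_mem hg)

theorem Sh.of_scale {e z : Vn} {d : F} (hd : d ≠ 0) (h : Sh hstar H (d • e) z) : Sh hstar H e z := fun c => by
  obtain ⟨a, ha, hm⟩ := h ((star d)⁻¹ * c)
  rw [eich_smul hstar ha hd] at hm
  have h2 := ha.smul d hd
  rw [smul_smul, ← mul_assoc, mul_inv_cancel₀ (star_ne_zero.mpr hd), one_mul] at hm h2
  exact ⟨_, h2, hm⟩

theorem Sh.scale {e z : Vn} {d : F} (hd : d ≠ 0) (h : Sh hstar H e z) : Sh hstar H (d • e) z :=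
  Sh.of_scale (inv_ne_zero hd) (by rw [smul_smul, inv_mul_cancel₀ hd, one_smul]; exact h)

theorem Tr.conj {e : Vn} (h : Tr hstar H e) (he : herm e e = 0) {g : Gn} (hg : g ∈ H) :
    Tr hstar H (act g e) := fun t ht => by
  have hz : act g (0 : Vn) = 0 := Matrix.mulVec_zero _
  have h1 := eich_conj hstar g ((EOk_zero_iff he).2 ht)
  rw [hz] at h1
  rw [← h1]
  exact mul_mem (mul_mem hg (h t ht)) (inv_mem hg)

theorem Tr.scale {e : Vn} (h : Tr hstar H e) (he : herm e e = 0) {d : F} (hd : d ≠ 0) :
    Tr hstar H (d • e) := fun t ht => by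
  rw [eich_smul hstar ((EOk_zero_iff (by rw [herm_smul_left, herm_smul_right, he]; simp)).2 ht) hd, smul_zero]
  exact h _ (by rw [star_mul', star_mul', star_star, ht]; ring)

/-- With the transvections, all parameters. -/
theorem mem_of_Sh {e z : Vn} (h : Sh hstar H e z) (hT : Tr hstar H e) {c a : F} (ha : EOk e (c • z) a) :
    eich hstar e (c • z) a ∈ H := by
  obtain ⟨b, hb, hm⟩ := h c
  have ht : star (a - b) = -(a - b) := by
    rw [star_sub]; linear_combination ha.2.2 - hb.2.2
  have := mul_mem (hT _ ht) hm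
  rwa [eich_mul hstar ((EOk_zero_iff ha.1).2 ht) hb, zero_add, herm_zero_left, sub_zero, sub_add_cancel] at this

theorem Sh.mem_one {e z : Vn} (h : Sh hstar H e z) : ∃ a, EOk e z a ∧ eich hstar e z a ∈ H := by
  simpa using h 1

theorem eich_swap {e z : Vn} (he : herm e e = 0) (hz : herm z z = 0) (hez : herm e z = 0) :
    eich hstar z (-e) 0 = eich hstar e z 0 ∧ EOk z (-e) 0 ∧ EOk e z 0 := by
  have hze : herm z e = 0 := by rw [← star_herm, hez, star_zero]
  have h1 : EOk z (-e) 0 := ⟨hz, by rw [herm_neg_right, hze, neg_zero], by rw [herm_neg_left, herm_neg_right, he]; simp⟩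
  have h2 : EOk e z 0 := ⟨he, hez, by simp [hz]⟩
  refine ⟨eq_of_act fun x => ?_, h1, h2⟩
  rw [act_eich hstar h1, act_eich hstar h2, herm_neg_left]
  module

/-- Symmetry of the short root groups. -/
theorem Sh.swap {e z : Vn} (h : Sh hstar H e z) (hT : Tr hstar H e) (hz : herm z z = 0) :
    Sh hstar H z e := fun c => by
  obtain ⟨he, hez⟩ := h.ok
  have hze : herm z e = 0 := by rw [← star_herm, hez, star_zero]
  rcases eq_or_ne c 0 with rfl | hc
  · exact ⟨0, by rw [zero_smul]; exact (EOk_zero_iff hz).2 (by simp), by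
      rw [zero_smul, eich_zero_zero hstar hz]; exact one_mem H⟩
  obtain ⟨h1, h2, h3⟩ := eich_swap (hstar := hstar) (e := c • e) (z := -z)
    (by rw [herm_smul_left, herm_smul_right, he]; simp) (by rw [herm_neg_left, herm_neg_right, hz]; simp)
    (by rw [herm_smul_left, herm_neg_right, hez]; simp)
  have hm : eich hstar (c • e) (-z) 0 ∈ H := by
    have hok := h3.smul c hc
    rw [eich_smul hstar h3 hc, smul_neg, ← neg_smul, mul_zero]
    rw [smul_neg, ← neg_smul, mul_zero] at hok
    exact mem_of_Sh h hT hok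
  have hn : (-z : Vn) = (-1 : F) • z := (neg_one_smul F z).symm
  rw [← h1, hn] at hm
  rw [hn] at h2
  rw [eich_smul hstar h2 (neg_ne_zero.2 one_ne_zero)] at hm
  have h2' := h2.smul (-1) (neg_ne_zero.2 one_ne_zero)
  simp only [star_neg, star_one, neg_one_smul, neg_neg, mul_zero] at hm h2'
  exact ⟨0, h2', hm⟩

/-- A short root group with isotropic direction consists of plain elements, without using transvections. -/
def Pl (hstar : ∀ x : F, star x = x ^ q) (H : Subgroup Gn) (e z : Vn) : Prop :=
  ∀ c : F, EOk e (c • z) 0 ∧ eich hstar e (c • z) 0 ∈ H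

theorem Pl.sh {e z : Vn} (h : Pl hstar H e z) : Sh hstar H e z := fun c => ⟨0, h c⟩

theorem Pl.swap {e z : Vn} (h : Pl hstar H e z) (hz : herm z z = 0) : Pl hstar H z e := fun c => by
  have h0 := (h 1).1
  rw [one_smul] at h0
  have he := h0.1
  have hez := h0.2.1
  have hze : herm z e = 0 := by rw [← star_herm, hez, star_zero]
  have hok : EOk z (c • e) 0 :=
    ⟨hz, by rw [herm_smul_right, hze, mul_zero], by rw [herm_smul_left, herm_smul_right, he]; simp⟩
  rcases eq_or_ne c 0 with rfl | hc
  · exact ⟨hok, by rw [zero_smul, eich_zero_zero hstar hz]; exact one_mem H⟩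
  refine ⟨hok, ?_⟩
  obtain ⟨h1, h2, h3⟩ := eich_swap (hstar := hstar) (e := c • e) (z := -z)
    (by rw [herm_smul_left, herm_smul_right, he]; simp) (by rw [herm_neg_left, herm_neg_right, hz]; simp)
    (by rw [herm_smul_left, herm_neg_right, hez]; simp)
  have hm : eich hstar (c • e) (-z) 0 ∈ H := by
    rw [eich_smul hstar h3 hc, smul_neg, ← neg_smul, mul_zero]
    exact (h _).2
  have hn : (-z : Vn) = (-1 : F) • z := (neg_one_smul F z).symm
  rw [← h1, hn] at hm
  rw [hn] at h2
  rw [eich_smul hstar h2 (neg_ne_zero.2 one_ne_zero)] at hm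
  simpa only [star_neg, star_one, neg_one_smul, neg_neg, mul_zero] using hm

theorem Pl.conj {e z : Vn} (h : Pl hstar H e z) {g : Gn} (hg : g ∈ H) :
    Pl hstar H (act g e) (act g z) := fun c => by
  rw [← act_smul, ← eich_conj hstar g (h c).1]
  exact ⟨(h c).1.act hstar g, mul_mem (mul_mem hg (h c).2) (inv_mem hg)⟩

theorem Pl.smul {e z : Vn} (h : Pl hstar H e z) (d : F) : Pl hstar H e (d • z) := fun c => by
  rw [smul_smul]; exact h _

theorem Pl.of_smul {e z : Vn} {d : F} (hd : d ≠ 0) (h : Pl hstar H e (d • z)) : Pl hstar H e z := by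
  have := h.smul d⁻¹
  rwa [smul_smul, inv_mul_cancel₀ hd, one_smul] at this

theorem Pl.of_scale {e z : Vn} {d : F} (hd : d ≠ 0) (h : Pl hstar H (d • e) z) : Pl hstar H e z := fun c => by
  obtain ⟨ha, hm⟩ := h ((star d)⁻¹ * c)
  rw [eich_smul hstar ha hd] at hm
  have h2 := ha.smul d hd
  rw [smul_smul, ← mul_assoc, mul_inv_cancel₀ (star_ne_zero.mpr hd), one_mul, mul_zero] at hm h2
  exact ⟨h2, hm⟩

theorem Pl.scale {e z : Vn} {d : F} (hd : d ≠ 0) (h : Pl hstar H e z) : Pl hstar H (d • e) z :=
  Pl.of_scale (inv_ne_zero hd) (by rw [smul_smul, inv_mul_cancel₀ hd, one_smul]; exact h)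

theorem Pl.sub {e z z' : Vn} (h : Pl hstar H e z) (h' : Pl hstar H e z') (h0 : herm z z' = 0) :
    Pl hstar H e (z - z') := fun c => by
  obtain ⟨ha, hm⟩ := h c
  obtain ⟨hb, hm'⟩ := h' (-c)
  have e0 : herm (c • z) ((-c) • z') = 0 := by rw [herm_smul_left, herm_smul_right, h0]; simp
  have hok := ha.add hb
  have hmm := mul_mem hm hm'
  rw [eich_mul hstar ha hb] at hmm
  rw [e0, add_zero, sub_zero, neg_smul, ← sub_eq_add_neg, ← smul_sub] at hmm hok
  exact ⟨hok, hmm⟩

/-- The bracket of one Eichler element with another. -/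
theorem bracket {e z f w : Vn} {a b : F} (hg : eich hstar e z a ∈ H) (h : eich hstar f w b ∈ H)
    (h1 : EOk e z a) (h2 : EOk f w b) (hef : herm e f = 0) (hzf : herm z f = 0) :
    ∃ b', EOk f (herm e w • z + (a * herm e w - herm z w) • e) b' ∧
      eich hstar f (herm e w • z + (a * herm e w - herm z w) • e) b' ∈ H ∧
      b' = b + star b + herm (act (eich hstar e z a) w) w := by
  have hfix : act (eich hstar e z a) f = f := by
    rw [act_eich hstar h1, hef, hzf]; simp
  have hm := mul_mem (mul_mem hg h) (inv_mem hg)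
  rw [eich_conj hstar _ h2, hfix] at hm
  have h3 := h2.act hstar (eich hstar e z a)
  rw [hfix] at h3
  obtain ⟨hi, h4⟩ := eich_inv (hstar := hstar) h2
  have hm2 := mul_mem hm (inv_mem h)
  rw [hi, eich_mul hstar h3 h4] at hm2
  have hok := h3.add h4
  have hd : act (eich hstar e z a) w + -w = herm e w • z + (a * herm e w - herm z w) • e := by
    rw [act_eich hstar h1]; abel
  rw [hd, herm_neg_right, sub_neg_eq_add] at hm2 hok
  exact ⟨_, hok, hm2, rfl⟩

/-- The bracket, for families. -/
theorem Sh.bracket {e z f w : Vn} {a : F} (hg : eich hstar e z a ∈ H) (h : Sh hstar H f w)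
    (h1 : EOk e z a) (hef : herm e f = 0) (hzf : herm z f = 0) :
    Sh hstar H f (herm e w • z + (a * herm e w - herm z w) • e) := fun c => by
  obtain ⟨b, hb, hm⟩ := h c
  obtain ⟨b', h2, h3, -⟩ := TwoGenU.bracket hg hm h1 hb hef hzf
  refine ⟨b', ?_⟩
  have he : herm e (c • w) • z + (a * herm e (c • w) - herm z (c • w)) • e =
      c • (herm e w • z + (a * herm e w - herm z w) • e) := by
    rw [herm_smul_right, herm_smul_right]; module
  rw [he] at h2 h3
  exact ⟨h2, h3⟩

/-- The bracket, for plain families with isotropic directions. -/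
theorem Pl.bracket {e z f w : Vn} (hg : eich hstar e z 0 ∈ H) (h : Pl hstar H f w)
    (h1 : EOk e z 0) (hef : herm e f = 0) (hzf : herm z f = 0)
    (hnull : herm (act (eich hstar e z 0) w) w = 0) :
    Pl hstar H f (herm e w • z - herm z w • e) := fun c => by
  obtain ⟨b', h2, h3, hb'⟩ := TwoGenU.bracket hg (h c).2 h1 (h c).1 hef hzf
  rw [act_smul, herm_smul_left, herm_smul_right, hnull, mul_zero, mul_zero, star_zero, add_zero, add_zero] at hb'
  have he : herm e (c • w) • z + (0 * herm e (c • w) - herm z (c • w)) • e =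
      c • (herm e w • z - herm z w • e) := by
    rw [herm_smul_right, herm_smul_right]; module
  rw [he, hb'] at h2 h3
  exact ⟨h2, h3⟩

/-- The skew elements are the differences `c - star c`. -/
theorem exists_skew_diff (hF : Fintype.card F = q ^ 2) {t : F} (hstar' : ∀ x : F, star x = x ^ q) (ht : star t = -t) :
    ∃ c : F, c - star c = t := by
  obtain ⟨θ, hθ0, hθ⟩ := exists_skew hstar' hF
  obtain ⟨u, hu⟩ := exists_trace hstar' hF (r := t / θ) (by rw [star_div₀, ht, hθ, neg_div_neg_eq])
  refine ⟨θ * u, ?_⟩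
  rw [star_mul', hθ, neg_mul, sub_neg_eq_add, ← mul_add, hu, mul_div_cancel₀ _ hθ0]

/-- Transvections from a family with anisotropic direction. -/
theorem Tr_of_Sh (hF : Fintype.card F = q ^ 2) {e z : Vn} (h : Sh hstar H e z) (hz : herm z z = 1) :
    Tr hstar H e := fun t ht => by
  obtain ⟨c, hc⟩ := exists_skew_diff hF hstar ht
  obtain ⟨a, ha, hm⟩ := h c
  obtain ⟨b, hb, hm'⟩ := h 1
  have e1 : eich hstar e (c • z) a * eich hstar e ((1 : F) • z) b =
      eich hstar e 0 t * (eich hstar e ((1 : F) • z) b * eich hstar e (c • z) a) := by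
    have h0 : EOk e 0 t := (EOk_zero_iff ha.1).2 ht
    rw [eich_mul hstar ha hb, eich_mul hstar hb ha, eich_mul hstar h0 (hb.add ha)]
    congr 1
    · rw [zero_add, add_comm]
    · rw [herm_zero_left, herm_smul_left, herm_smul_right, herm_smul_left, herm_smul_right, hz, star_one, ← hc]
      ring
  have := mul_mem (mul_mem hm hm') (inv_mem (mul_mem hm' hm))
  rwa [e1, mul_inv_cancel_right] at this

/-- Additive groups closed under an element outside every proper subfield. -/
theorem span_all (hF : Fintype.card F = q ^ 2) {κ : F} (hκ0 : κ ≠ 0)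
    (hκ : ∀ k : ℕ, 0 < k → k ≤ q - 1 → κ ^ k ≠ 1) (A : AddSubgroup F) (hA : ∀ c ∈ A, κ * c ∈ A)
    {c : F} (hc0 : c ≠ 0) (hc : c ∈ A) : ∀ x, x ∈ A := by
  classical
  let R : Subring F :=
    { carrier := {r | ∀ a ∈ A, r * a ∈ A}
      one_mem' := fun a ha => by rwa [one_mul]
      mul_mem' := fun {r s} hr hs a ha => by rw [mul_assoc]; exact hr _ (hs a ha)
      zero_mem' := fun a _ => by rw [zero_mul]; exact zero_mem A
      add_mem' := fun {r s} hr hs a ha => by rw [add_mul]; exact add_mem (hr a ha) (hs a ha)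
      neg_mem' := fun {r} hr a ha => by rw [neg_mul]; exact neg_mem (hr a ha) }
  suffices hR : ∀ r, r ∈ R by
    intro x
    have := hR (x / c) c hc
    rwa [div_mul_cancel₀ _ hc0] at this
  letI : Field R := Finite.isDomain_to_isField R |>.toField
  haveI : Fintype R := Fintype.ofFinite R
  by_cases hle : Fintype.card R ≤ q
  · exfalso
    have hκR : κ ∈ R := hA
    have h1 := FiniteField.pow_card_sub_one_eq_one (⟨κ, hκR⟩ : R) (fun h => hκ0 (congrArg Subtype.val h))
    have h2 : 1 < Fintype.card R := Fintype.one_lt_card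
    exact hκ (Fintype.card R - 1) (by omega) (by omega) (by simpa using congrArg Subtype.val h1)
  · -- a subfield with more than `q` elements
    push Not at hle
    letI : Algebra R F := R.subtype.toAlgebra
    have hcard := Module.card_eq_pow_finrank (K := R) (V := F)
    have hd : Module.finrank R F = 1 := by
      have hpos : 0 < Module.finrank R F := Module.finrank_pos
      by_contra hne
      have : Fintype.card R ^ 2 ≤ Fintype.card R ^ Module.finrank R F :=
        Nat.pow_le_pow_right (by omega) (by omega)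
      rw [← hcard, hF] at this
      have := Nat.pow_lt_pow_left hle (two_ne_zero)
      omega
    rw [hd, pow_one] at hcard
    intro r
    have hb : Function.Bijective (R.subtype : R → F) :=
      (Fintype.bijective_iff_injective_and_card _).2 ⟨Subtype.val_injective, hcard.symm⟩
    obtain ⟨⟨r', hr'⟩, rfl⟩ := hb.2 r
    exact hr'

/-- The root group of a seed, from a torus element and the seed times another element. -/
theorem seed_family (hF : Fintype.card F = q ^ 2) {h m : Gn} {e z : Vn} {a l ν l' ν' : F}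
    (hx : EOk e z a) (hh : h ∈ H) (hb : eich hstar e z a * m ∈ H)
    (hcomm : h * (m * h * m⁻¹) = m * h * m⁻¹ * h) (he : act h e = l • e) (hz : act h z = ν • z)
    (he' : act (m * h * m⁻¹) e = l' • e) (hz' : act (m * h * m⁻¹) z = ν' • z) (hl : l ≠ 0) (hl' : l' ≠ 0) (hν : ν ≠ 0)
    (hκ' : star l' * ν' ≠ 1) (hκ : ∀ k : ℕ, 0 < k → k ≤ q - 1 → (star l * ν) ^ k ≠ 1)
    (hplain : herm z z = 0 → (star a = -a ∧ (star l' * l' = 1 ∨ a = 0))) :
    Sh hstar H e z ∧ (herm z z = 0 → Pl hstar H e z) := by
  obtain ⟨h', hh'⟩ : ∃ h', h' = m * h * m⁻¹ := ⟨_, rfl⟩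
  rw [← hh'] at hcomm he' hz'
  have hcE : ∀ (g : Gn) (L N c b : F), L ≠ 0 → act g e = L • e → act g z = N • z → EOk e (c • z) b →
      g * eich hstar e (c • z) b * g⁻¹ = eich hstar e ((star L * (c * N)) • z) (star L * L * b) ∧
        EOk e ((star L * (c * N)) • z) (star L * L * b) := by
    intro g L N c b hL hge hgz hok
    have hk := hok.act hstar g
    rw [eich_conj hstar g hok, hge, act_smul, hgz, smul_smul] at *
    rw [eich_smul hstar hk hL]
    have := hk.smul L hL
    rw [smul_smul] at this ⊢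
    exact ⟨rfl, this⟩
  have hx1 : EOk e ((1 : F) • z) a := by rwa [one_smul]
  obtain ⟨hxi, hxi'⟩ := eich_inv (hstar := hstar) hx
  have hxi1 : EOk e ((-1 : F) • z) (star a) := by rwa [neg_one_smul]
  obtain ⟨ey, hy'⟩ := hcE h' l' ν' (-1) (star a) hl' he' hz' hxi1
  have hy := hx1.add hy'
  obtain ⟨c1, hc1⟩ : ∃ c1, c1 = 1 + star l' * (-1 * ν') := ⟨_, rfl⟩
  obtain ⟨a1, ha1⟩ : ∃ a1, a1 = a + star l' * l' * star a -
      herm ((1 : F) • z) ((star l' * (-1 * ν')) • z) := ⟨_, rfl⟩
  rw [← add_smul, ← hc1, ← ha1] at hy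
  have eyy : eich hstar e z a * h' * (eich hstar e z a)⁻¹ * h'⁻¹ = eich hstar e (c1 • z) a1 := by
    rw [hxi, ← neg_one_smul F z, show eich hstar e z a * h' * eich hstar e ((-1 : F) • z) (star a) * h'⁻¹ =
      eich hstar e z a * (h' * eich hstar e ((-1 : F) • z) (star a) * h'⁻¹) by group, ey,
      ← one_smul F z, eich_mul hstar hx1 (by simpa using hy'), ha1, hc1, add_smul]
    simp
  -- the commutator with the torus element
  have hgm : eich hstar e (c1 • z) a1 * h' ∈ H := by
    rw [← eyy, inv_mul_cancel_right]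
    have := mul_mem (mul_mem hb hh) (inv_mem hb)
    rwa [show eich hstar e z a * m * h * (eich hstar e z a * m)⁻¹ =
      eich hstar e z a * h' * (eich hstar e z a)⁻¹ by rw [hh']; group] at this
  obtain ⟨ez, hzok⟩ := hcE h l ν c1 a1 hl he hz hy
  obtain ⟨hyi, hyi'⟩ := eich_inv (hstar := hstar) hy
  have hzm : h * eich hstar e (c1 • z) a1 * h⁻¹ * (eich hstar e (c1 • z) a1)⁻¹ ∈ H := by
    have := mul_mem (mul_mem (mul_mem hh hgm) (inv_mem hh)) (inv_mem hgm)
    rwa [show h * (eich hstar e (c1 • z) a1 * h') * h⁻¹ * (eich hstar e (c1 • z) a1 * h')⁻¹ =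
        h * eich hstar e (c1 • z) a1 * (h' * h⁻¹ * h'⁻¹) * (eich hstar e (c1 • z) a1)⁻¹ by group,
      show h' * h⁻¹ * h'⁻¹ = h⁻¹ by
        rw [mul_inv_eq_iff_eq_mul, eq_inv_mul_iff_mul_eq, ← mul_assoc, hcomm, mul_inv_cancel_right]] at this
  rw [ez, hyi, ← neg_smul] at hzm
  have hyi1 : EOk e ((-c1) • z) (star a1) := by rwa [neg_smul]
  rw [eich_mul hstar hzok hyi1, ← add_smul] at hzm
  have hfin := hzok.add hyi1
  rw [← add_smul] at hfin
  have hc1' : c1 = 1 - star l' * ν' := by rw [hc1]; ring
  have hne : star l * (c1 * ν) + -c1 ≠ 0 := by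
    rw [show star l * (c1 * ν) + -c1 = (star l * ν - 1) * c1 by ring]
    refine mul_ne_zero (sub_ne_zero.2 fun h1 => ?_) (hc1' ▸ sub_ne_zero.2 (Ne.symm hκ'))
    have h2 : 2 ≤ q := Hermitian.q_two_le hF
    exact hκ 1 one_pos (by omega) (by rw [pow_one]; exact h1)
  refine ⟨?_, fun hzz => ?_⟩
  · let A : AddSubgroup F :=
      { carrier := {c | ∃ b, EOk e (c • z) b ∧ eich hstar e (c • z) b ∈ H}
        zero_mem' := ⟨0, by rw [zero_smul]; exact (EOk_zero_iff hx.1).2 (by simp),
          by rw [zero_smul, eich_zero_zero hstar hx.1]; exact one_mem H⟩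
        add_mem' := fun {c d} ⟨b, hb1, hb2⟩ ⟨b', hb1', hb2'⟩ => by
          change ∃ b, _
          rw [add_smul]
          exact ⟨_, hb1.add hb1', eich_mul hstar hb1 hb1' ▸ mul_mem hb2 hb2'⟩
        neg_mem' := fun {c} ⟨b, hb1, hb2⟩ => by
          change ∃ b, _
          obtain ⟨h1, h2⟩ := eich_inv (hstar := hstar) hb1
          rw [neg_smul]
          exact ⟨_, h2, h1 ▸ inv_mem hb2⟩ }
    refine fun c => span_all hF (mul_ne_zero (star_ne_zero.mpr hl) hν) hκ A (fun c ⟨b, hb1, hb2⟩ => ?_) hne ⟨_, hfin, hzm⟩ c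
    obtain ⟨e1, e2⟩ := hcE h l ν c b hl he hz hb1
    refine ⟨_, ?_, (by rw [show star l * ν * c = star l * (c * ν) by ring, ← e1]; exact mul_mem (mul_mem hh hb2) (inv_mem hh))⟩
    rw [show star l * ν * c = star l * (c * ν) by ring]; exact e2
  · obtain ⟨hsk, hcase⟩ := hplain hzz
    have ha10 : a1 = 0 := by
      rw [ha1, herm_smul_left, herm_smul_right, hzz, mul_zero, mul_zero, sub_zero, hsk]
      rcases hcase with h1 | h1 <;> rw [h1] <;> simp
    have hfin0 : star l * l * a1 + star a1 - herm ((star l * (c1 * ν)) • z) ((-c1) • z) = 0 := by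
      rw [ha10, herm_smul_left, herm_smul_right, hzz]; simp
    rw [hfin0] at hzm hfin
    let A : AddSubgroup F :=
      { carrier := {c | EOk e (c • z) 0 ∧ eich hstar e (c • z) 0 ∈ H}
        zero_mem' := ⟨by rw [zero_smul]; exact (EOk_zero_iff hx.1).2 (by simp),
          by rw [zero_smul, eich_zero_zero hstar hx.1]; exact one_mem H⟩
        add_mem' := fun {c d} ⟨hb1, hb2⟩ ⟨hb1', hb2'⟩ => by
          have h1 := hb1.add hb1'
          have h2 := eich_mul hstar hb1 hb1' ▸ mul_mem hb2 hb2'
          have e0 : (0 : F) + 0 - herm (c • z) (d • z) = 0 := by rw [herm_smul_left, herm_smul_right, hzz]; simp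
          rw [e0, ← add_smul] at h1 h2
          exact ⟨h1, h2⟩
        neg_mem' := fun {c} ⟨hb1, hb2⟩ => by
          obtain ⟨h1, h2⟩ := eich_inv (hstar := hstar) hb1
          have h3 := h1 ▸ inv_mem hb2
          rw [← neg_smul, star_zero] at h2 h3
          exact ⟨h2, h3⟩ }
    refine fun c => span_all hF (mul_ne_zero (star_ne_zero.mpr hl) hν) hκ A (fun c ⟨hb1, hb2⟩ => ?_) hne ⟨hfin, hzm⟩ c
    obtain ⟨e1, e2⟩ := hcE h l ν c 0 hl he hz hb1
    rw [mul_zero] at e1 e2
    change EOk e ((star l * ν * c) • z) 0 ∧ _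
    rw [show star l * ν * c = star l * (c * ν) by ring]
    exact ⟨e2, e1 ▸ mul_mem (mul_mem hh hb2) (inv_mem hh)⟩

/-- Two opposite full unipotent radicals give everything. -/
theorem eq_top_of_radicals (hF : Fintype.card F = q ^ 2) (hn : 3 ≤ n) (hex : ¬(n = 3 ∧ q = 2)) {e f : Vn}
    (hee : herm e e = 0) (hff : herm f f = 0) (hef : herm e f = 1)
    (hE : ∀ r, herm e r = 0 → herm f r = 0 → Sh hstar H e r)
    (hFs : ∀ r, herm e r = 0 → herm f r = 0 → Sh hstar H f r)
    (hTe : Tr hstar H e) (hTf : Tr hstar H f) : H = ⊤ := by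
  have hfe : herm f e = 1 := by rw [← star_herm, hef, star_one]
  have key : ∀ v : Vn, herm v v = 0 → herm e v ≠ 0 → ∃ g ∈ H, act g v = herm e v • f := by
    intro v hv hc
    obtain ⟨r, hr⟩ : ∃ r, r = v - herm f v • e - herm e v • f := ⟨_, rfl⟩
    have her : herm e r = 0 := by
      rw [hr, herm_sub_right, herm_sub_right, herm_smul_right, herm_smul_right, hee, hef]; ring
    have hfr : herm f r = 0 := by
      rw [hr, herm_sub_right, herm_sub_right, herm_smul_right, herm_smul_right, hfe, hff]; ring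
    have hre : herm r e = 0 := by rw [← star_herm, her, star_zero]
    have hrf : herm r f = 0 := by rw [← star_herm, hfr, star_zero]
    have hv' : v = herm f v • e + herm e v • f + r := by rw [hr]; abel
    obtain ⟨k, hk⟩ : ∃ k, k = -(herm e v)⁻¹ := ⟨_, rfl⟩
    obtain ⟨a, ha⟩ : ∃ a, a = (herm (k • r) v - herm f v) / herm e v := ⟨_, rfl⟩
    have hrv : herm r v = herm r r := by
      conv_lhs => rw [hv']
      rw [herm_add_right, herm_add_right, herm_smul_right, herm_smul_right, hre, hrf]; ring
    have hsc : star (herm e v) ≠ 0 := star_ne_zero.mpr hc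
    have hiso : star (herm f v) * herm e v + star (herm e v) * herm f v + herm r r = 0 := by
      have h := hv
      rw [hv'] at h
      simp only [herm_add_left, herm_add_right, herm_smul_left, herm_smul_right, hee, hff, hef, hfe, her, hfr,
        hre, hrf] at h
      linear_combination h
    have hok : EOk e (k • r) a := by
      refine ⟨hee, by rw [herm_smul_right, her, mul_zero], ?_⟩
      rw [ha, herm_smul_left, hrv, hk, star_div₀, star_sub, star_mul', star_star, star_herm]
      simp only [herm_smul_left, herm_smul_right, star_neg, star_inv₀]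
      field_simp
      linear_combination -hiso
    refine ⟨eich hstar e (k • r) a, mem_of_Sh (hE r her hfr) hTe hok, ?_⟩
    rw [act_eich hstar hok, ha, hk]
    conv_lhs => rw [hr]
    match_scalars <;> field_simp <;> ring
  have move : ∀ v : Vn, herm v v = 0 → v ≠ 0 → ∃ g ∈ H, ∃ c : F, c ≠ 0 ∧ (act g v = c • e ∨ act g v = c • f) := by
    intro v hv hv0
    by_cases hc : herm e v = 0
    swap
    · obtain ⟨g, hg, h⟩ := key v hv hc
      exact ⟨g, hg, _, hc, Or.inr h⟩
    obtain ⟨r, hr⟩ : ∃ r, r = v - herm f v • e := ⟨_, rfl⟩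
    have her : herm e r = 0 := by rw [hr, herm_sub_right, herm_smul_right, hee, hc]; ring
    have hfr : herm f r = 0 := by rw [hr, herm_sub_right, herm_smul_right, hfe]; ring
    by_cases hr0 : r = 0
    · refine ⟨1, one_mem _, herm f v, fun h => hv0 ?_, Or.inl ?_⟩
      · rw [hr, h, zero_smul, sub_zero] at hr0; exact hr0
      · rw [act_one]; rw [hr, sub_eq_zero] at hr0; exact hr0
    obtain ⟨k, hk⟩ : ∃ k : Fin n, r k ≠ 0 := by
      by_contra hall
      push Not at hall
      exact hr0 (funext hall)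
    obtain ⟨z, hz⟩ : ∃ z : Vn, z = Pi.single k 1 - herm f (Pi.single k 1) • e - herm e (Pi.single k 1) • f := ⟨_, rfl⟩
    have hez : herm e z = 0 := by
      rw [hz, herm_sub_right, herm_sub_right, herm_smul_right, herm_smul_right, hee, hef]; ring
    have hfz : herm f z = 0 := by
      rw [hz, herm_sub_right, herm_sub_right, herm_smul_right, herm_smul_right, hfe, hff]; ring
    have hzv : herm z v = r k := by
      have h1 : v = r + herm f v • e := by rw [hr, sub_add_cancel]
      rw [h1, herm_add_right, herm_smul_right, show herm z e = 0 by rw [← star_herm, hez, star_zero], mul_zero,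
        add_zero, hz, herm_sub_left, herm_sub_left, herm_smul_left, herm_smul_left, her, hfr, mul_zero, mul_zero,
        sub_zero, sub_zero, herm_single_left, star_one, one_mul]
    obtain ⟨a, hok⟩ := exists_param hstar hF hff hfz
    obtain ⟨θ, hθ0, hθ⟩ := exists_skew hstar hF
    obtain ⟨a', hok', hne⟩ : ∃ a', EOk f z a' ∧ a' * herm f v - herm z v ≠ 0 := by
      by_cases h0 : a * herm f v - herm z v = 0
      · refine ⟨a + θ, ⟨hok.1, hok.2.1, ?_⟩, ?_⟩
        · rw [star_add, hθ]; linear_combination hok.2.2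
        · intro h1
          have hfv : herm f v ≠ 0 := fun h2 => hk (by
            rw [h2, mul_zero, zero_sub, neg_eq_zero] at h0
            rw [← hzv, h0])
          exact mul_ne_zero hθ0 hfv (by linear_combination h1 - h0)
      · exact ⟨a, hok, h0⟩
    have hev : herm e (act (eich hstar f z a') v) = a' * herm f v - herm z v := by
      rw [act_eich hstar hok', herm_add_right, herm_add_right, herm_smul_right, herm_smul_right, hc, hez, hef]
      ring
    obtain ⟨g, hg, h⟩ := key (act (eich hstar f z a') v) (by rw [herm_act hstar, hv]) (by rw [hev]; exact hne)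
    have hmem : eich hstar f z a' ∈ H := by
      have := mem_of_Sh (c := 1) (hFs z hez hfz) hTf (a := a') (by rwa [one_smul])
      rwa [one_smul] at this
    exact ⟨g * eich hstar f z a', mul_mem hg hmem, herm e (act (eich hstar f z a') v), by rw [hev]; exact hne,
      Or.inr (by rw [act_mul]; exact h)⟩
  -- the group generated by all transvections
  let S : Set Gn := {g | ∃ (v : Vn) (hv : herm v v = 0) (t : F) (ht : star t = -t), g = trans hstar v hv t ht}
  haveI : (Subgroup.closure S).Normal := ⟨fun x hx g => by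
    induction hx using Subgroup.closure_induction with
    | mem y hy =>
      obtain ⟨v, hv, t, ht, rfl⟩ := hy
      rw [conj_trans hstar g v hv t ht]
      exact Subgroup.subset_closure ⟨_, _, t, ht, rfl⟩
    | one => rw [mul_one, mul_inv_cancel]; exact one_mem _
    | mul a b _ _ iha ihb => convert mul_mem iha ihb using 1; group
    | inv a _ iha => convert inv_mem iha using 1; group⟩
  have he0 : e ≠ 0 := fun h => by rw [h, herm_zero_left] at hef; exact zero_ne_one hef
  have htop : Subgroup.closure S = ⊤ :=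
    normal_eq_top hF hn hex he0 hee fun t ht => Subgroup.subset_closure ⟨e, hee, t, ht, rfl⟩
  rw [eq_top_iff, ← htop, Subgroup.closure_le]
  rintro _ ⟨v, hv, t, ht, rfl⟩
  rw [SetLike.mem_coe, trans_eq_eich hstar hv ht]
  rcases eq_or_ne v 0 with rfl | hv0
  · rw [show eich hstar (0 : Vn) 0 t = 1 from eq_of_act fun x => by simp [act_eich_zero hstar hv ht, act_one]]
    exact one_mem H
  obtain ⟨g, hg, c, hc, h⟩ := move v hv hv0
  have hT : Tr hstar H (act g v) := by
    rcases h with h | h <;> rw [h]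
    · exact hTe.scale hee hc
    · exact hTf.scale hff hc
  have h2 := hT.conj (by rw [herm_act hstar, hv]) (inv_mem hg) t ht
  rwa [act_inv_act] at h2

end Cfsg.Agent.Small.TwoGenU
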