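import Cfsg.Agent.Lib.Small.TwoGen.SiegelGen
import Cfsg.Agent.Lib.Small.TwoGen.Basic
import Cfsg.Agent.Lib.Small.Orth.Words

/-!
An isometry which moves a singular vector around a cycle of hyperbolic pairs, together with a torus
element times a Siegel transformation, generates the derived group of an orthogonal group.
-/

set_option autoImplicit false
set_option linter.unusedSectionVars false

namespace Cfsg.Agent.Small.TwoGenO

open Module QuadraticMap Cfsg.Agent.Classical Cfsg.Agent.Classical.OCount Cfsg.Agent.Classical.ORefl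
  Cfsg.Agent.Classical.OOmega Cfsg.Agent.Small.Orth

variable {F : Type*} [Field F] {V : Type*} [AddCommGroup V] [Module F V] [FiniteDimensional F V]
  {Q : QuadraticForm F V}

variable (Q) in
/-- A cycle through `M` hyperbolic pairs, and a vector of the residual space. -/
structure Cyc where
  n : ↥(Iso Q)
  M : ℕ
  hM : 2 ≤ M
  e : V
  u : V
  sing : Q e = 0
  orth0 : ∀ d, d < 2 * M → d ≠ M → polar Q e ((n ^ d).1 e) = 0
  dual0 : polar Q e ((n ^ M).1 e) ≠ 0
  per : ∃ l : F, l ≠ 0 ∧ (n ^ (2 * M)).1 e = l • e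
  u2 : n.1 (n.1 u) = u
  eu : ∀ k : ℕ, polar Q ((n ^ k).1 e) u = 0
  span : ∀ v, v ∈ Submodule.span F (Set.range (fun k : ℕ => (n ^ k).1 e) ∪ {u, n.1 u})

namespace Cyc

variable (C : Cyc Q)

/-- The vectors of the cycle. -/
def z (k : ℕ) : V := (C.n ^ k).1 C.e

/-- The residual vectors. -/
def w (k : ℕ) : V := (C.n ^ k).1 C.u

theorem z_zero : C.z 0 = C.e := rfl

theorem z_add (a b : ℕ) : (C.n ^ a).1 (C.z b) = C.z (a + b) := by
  rw [z, z, pow_add]; rfl

theorem w_add (a b : ℕ) : (C.n ^ a).1 (C.w b) = C.w (a + b) := by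
  rw [w, w, pow_add]; rfl

theorem w_two (k : ℕ) : C.w (k + 2) = C.w k := by
  rw [← C.w_add k 2]
  exact congrArg (C.n ^ k).1 (by rw [w, pow_two]; exact C.u2)

theorem w_even : ∀ {k : ℕ}, Even k → C.w k = C.u
  | 0, _ => rfl
  | 1, h => by simp at h
  | k + 2, h => by rw [C.w_two, w_even (by simpa [Nat.even_add] using h)]

theorem w_odd : ∀ {k : ℕ}, Odd k → C.w k = C.n.1 C.u
  | 0, h => by simp at h
  | 1, _ => by rw [w, pow_one]
  | k + 2, h => by rw [C.w_two, w_odd (by simpa [Nat.odd_add, Nat.odd_iff] using h)]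

theorem Q_z (k : ℕ) : Q (C.z k) = 0 := ((C.n ^ k).2 C.e).trans C.sing

theorem Q_w (k : ℕ) : Q (C.w k) = Q C.u := (C.n ^ k).2 C.u

theorem wrap (k : ℕ) : ∃ l : F, l ≠ 0 ∧ C.z (k + 2 * C.M) = l • C.z k := by
  obtain ⟨l, hl, he⟩ := C.per
  refine ⟨l, hl, ?_⟩
  rw [← C.z_add k (2 * C.M)]
  change (C.n ^ k).1 ((C.n ^ (2 * C.M)).1 C.e) = _
  rw [he, map_smul]
  rfl

theorem polar_shift (k a b : ℕ) : polar Q (C.z (k + a)) (C.z (k + b)) = polar Q (C.z a) (C.z b) := by
  rw [← C.z_add, ← C.z_add, polar_iso (C.n ^ k).2]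

theorem orth_e {d : ℕ} (hd : d < 6 * C.M) (h1 : d ≠ C.M) (h3 : d ≠ 3 * C.M) (h5 : d ≠ 5 * C.M) :
    polar Q (C.z 0) (C.z d) = 0 := by
  by_cases hA : d < 2 * C.M
  · exact C.orth0 d hA h1
  obtain ⟨d', rfl⟩ : ∃ d', d = d' + 2 * C.M := ⟨d - 2 * C.M, by omega⟩
  obtain ⟨l, -, hl⟩ := C.wrap d'
  rw [hl, polar_smul_right]
  by_cases hB : d' < 2 * C.M
  · rw [show polar Q (C.z 0) (C.z d') = 0 from C.orth0 d' hB (by omega), smul_zero]
  obtain ⟨d'', rfl⟩ : ∃ d'', d' = d'' + 2 * C.M := ⟨d' - 2 * C.M, by omega⟩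
  obtain ⟨l', -, hl'⟩ := C.wrap d''
  rw [hl', polar_smul_right, show polar Q (C.z 0) (C.z d'') = 0 from C.orth0 d'' (by omega) (by omega),
    smul_zero, smul_zero]

theorem orth {a b : ℕ} (ha : a < 6 * C.M) (hb : b < 6 * C.M) (h1 : a + C.M ≠ b) (h2 : b + C.M ≠ a)
    (h3 : a + 3 * C.M ≠ b) (h4 : b + 3 * C.M ≠ a) (h5 : a + 5 * C.M ≠ b) (h6 : b + 5 * C.M ≠ a) :
    polar Q (C.z a) (C.z b) = 0 := by
  rcases le_total a b with h | h
  · obtain ⟨d, rfl⟩ : ∃ d, b = a + d := ⟨b - a, by omega⟩
    rw [show C.z a = C.z (a + 0) from rfl, C.polar_shift]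
    exact C.orth_e (by omega) (by omega) (by omega) (by omega)
  · obtain ⟨d, rfl⟩ : ∃ d, a = b + d := ⟨a - b, by omega⟩
    rw [polar_comm, show C.z b = C.z (b + 0) from rfl, C.polar_shift]
    exact C.orth_e (by omega) (by omega) (by omega) (by omega)

theorem dual {a b : ℕ} (h : b = a + C.M ∨ a = b + C.M) : polar Q (C.z a) (C.z b) ≠ 0 := by
  rcases h with rfl | rfl
  · rw [show C.z a = C.z (a + 0) from rfl, C.polar_shift]; exact C.dual0
  · rw [polar_comm, show C.z b = C.z (b + 0) from rfl, C.polar_shift]; exact C.dual0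

theorem z_u (k : ℕ) : polar Q (C.z k) C.u = 0 := C.eu k

theorem z_nu (k : ℕ) : polar Q (C.z k) (C.n.1 C.u) = 0 := by
  obtain ⟨l, hl, he⟩ := C.wrap k
  have h := C.eu (k + 2 * C.M - 1)
  rw [← polar_iso C.n.2] at h
  rw [show C.n.1 ((C.n ^ (k + 2 * C.M - 1)).1 C.e) = C.z (k + 2 * C.M) by
    rw [z]; conv_rhs => rw [show k + 2 * C.M = (k + 2 * C.M - 1) + 1 by have := C.hM; omega, pow_succ']
    rfl, he, polar_smul_left] at h
  exact (smul_eq_zero.1 h).resolve_left hl

theorem z_w (k j : ℕ) : polar Q (C.z k) (C.w j) = 0 := by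
  rcases Nat.even_or_odd j with h | h
  · rw [C.w_even h]; exact C.z_u k
  · rw [C.w_odd h]; exact C.z_nu k

theorem w_u {j : ℕ} : polar Q (C.w j) C.u = if Even j then polar Q C.u C.u else polar Q C.u (C.n.1 C.u) := by
  split_ifs with h
  · rw [C.w_even h]
  · rw [C.w_odd (Nat.not_even_iff_odd.1 h), polar_comm]

variable {H : Subgroup ↥(Iso Q)}

/-- The long root groups at the base vector. -/
def Lg (H : Subgroup ↥(Iso Q)) (j : ℕ) : Prop := Full Q H (C.z 0) (C.z j)

variable (hn : C.n ∈ H)

include hn in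
theorem shift {j : ℕ} (h : C.Lg H j) (k : ℕ) : Full Q H (C.z k) (C.z (k + j)) := by
  have h1 := Full.conj h (pow_mem hn k)
  rwa [C.z_add, C.z_add] at h1

include hn in
theorem shift_w (h : Full Q H C.e C.u) (k : ℕ) : Full Q H (C.z k) (C.w k) :=
  Full.conj h (pow_mem hn k)

theorem Lg_wrap {j : ℕ} (h : C.Lg H (j + 2 * C.M)) : C.Lg H j := by
  obtain ⟨l, hl, he⟩ := C.wrap j
  rw [Lg, he] at h
  exact h.of_smul hl

include hn in
theorem Lg_rev {r : ℕ} (h : C.Lg H r) (hr : r < 2 * C.M) (hrM : r ≠ C.M) : C.Lg H (2 * C.M - r) := by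
  have h1 := C.shift hn h (2 * C.M - r)
  rw [show 2 * C.M - r + r = 0 + 2 * C.M by omega] at h1
  obtain ⟨l, hl, he⟩ := C.wrap 0
  rw [he] at h1
  exact (h1.of_smul hl).swap (C.Q_z _) (C.Q_z _)
    (C.orth (by omega) (by omega) (by omega) (by omega) (by omega) (by omega) (by omega) (by omega))

include hn in
/-- Composition of long root groups. -/
theorem longlong {c r : ℕ} (hc : C.Lg H c) (hr : C.Lg H r) (hc0 : c ≠ 0) (hc2 : c < 2 * C.M)
    (hcM : c ≠ C.M) (hr0 : r ≠ 0) (hr2 : r < 2 * C.M) (hrM : r ≠ C.M)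
    (h2 : c + r ≠ 2 * C.M) (h4 : c + r ≠ 4 * C.M) :
    C.Lg H (c + C.M + r) := by
  have h := Full.bracket (a := C.z (c + C.M + r)) (e := C.z (c + C.M)) (C.shift hn hr (c + C.M)).one hc
    (C.Q_z _) (C.Q_z _)
    (C.orth (by omega) (by omega) (by omega) (by omega) (by omega) (by omega) (by omega) (by omega))
    (C.orth (by omega) (by omega) (by omega) (by omega) (by omega) (by omega) (by omega) (by omega))
    (C.orth (by omega) (by omega) (by omega) (by omega) (by omega) (by omega) (by omega) (by omega))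
    (C.orth (by omega) (by omega) (by omega) (by omega) (by omega) (by omega) (by omega) (by omega))
  rw [C.Q_z, zero_mul, add_zero,
    C.orth (a := c + C.M + r) (b := c) (by omega) (by omega) (by omega) (by omega) (by omega) (by omega) (by omega)
      (by omega), zero_smul, sub_zero] at h
  exact h.of_smul (C.dual (Or.inr rfl))

include hn in
/-- A residual vector from a long root group. -/
theorem transfer (hA : Full Q H C.e C.u) {c : ℕ} (hc : C.Lg H c) (hc0 : c ≠ 0) (hc2 : c < 2 * C.M)
    (hcM : c ≠ C.M) :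
    Full Q H C.e (polar Q (C.z (c + C.M)) (C.z c) • C.w (c + C.M) -
      (Q C.u * polar Q (C.z (c + C.M)) (C.z c)) • C.z (c + C.M)) := by
  have h := Full.bracket (C.shift_w hn hA (c + C.M)).one hc (C.Q_z _) (C.Q_z _) (C.z_w _ _)
    (C.orth (by omega) (by omega) (by omega) (by omega) (by omega) (by omega) (by omega) (by omega))
    (C.orth (by omega) (by omega) (by omega) (by omega) (by omega) (by omega) (by omega) (by omega))
    (by rw [polar_comm]; exact C.z_w _ _)
  rwa [polar_comm Q (C.w (c + C.M)) (C.z c), C.z_w, zero_add, C.Q_w] at h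

include hn in
/-- A long root group from two residual vectors. -/
theorem short (hA : Full Q H C.e C.u) {b : V} (hb : Full Q H C.e b) (hzb : ∀ k, polar Q (C.z k) b = 0)
    {j : ℕ} (hj : j < 2 * C.M) (hjM : j ≠ C.M) (hne : polar Q (C.w j) b ≠ 0) : C.Lg H j := by
  have h := Full.bracket (f := C.z 0) (C.shift_w hn hA j).one hb (C.Q_z _) (C.Q_z _) (C.z_w _ _) (hzb 0)
    (C.orth (by omega) (by omega) (by omega) (by omega) (by omega) (by omega) (by omega) (by omega))
    (by rw [polar_comm]; exact C.z_w _ _)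
  rw [hzb, zero_smul, mul_zero, add_zero, zero_sub, ← neg_smul] at h
  exact h.of_smul (neg_ne_zero.2 hne)

include hn in
/-- Everything from the residual vector and the odd long root groups. -/
theorem close (hQ : PND Q) (hq : Nat.card F ≠ 2 ∨ finrank F V ≠ 4) [Finite F] (hA : Full Q H C.e C.u)
    (hodd : ∀ j, Odd j → j < 2 * C.M → j ≠ C.M → C.Lg H j) (hL2 : Odd C.M → C.Lg H 2)
    (hB : polar Q C.u C.u ≠ 0 ∨ polar Q C.u (C.n.1 C.u) ≠ 0) : commutator ↥(Iso Q) ≤ H := by
  have hM := C.hM
  have hnu : Full Q H C.e (C.n.1 C.u) := by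
    have key : ∀ c : ℕ, C.Lg H c → c ≠ 0 → c < C.M → Odd (c + C.M) →
        Full Q H C.e (C.n.1 C.u) := by
      intro c hc hc0 hcM hodd'
      have h := C.transfer hn hA hc hc0 (by omega) (by omega)
      rw [C.w_odd hodd'] at h
      have hd : Full Q H C.e ((Q C.u * polar Q (C.z (c + C.M)) (C.z c)) • C.z (c + C.M)) :=
        (hodd _ hodd' (by omega) (by omega)).smul _
      have h' := h.add C.sing ?_ ?_ hd
      · rw [sub_add_cancel] at h'
        exact h'.of_smul (C.dual (Or.inr rfl))
      all_goals try rw [show C.e = C.z 0 from rfl]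
      · rw [polar_sub_right, polar_smul_right, polar_smul_right, C.z_nu,
          C.orth (a := 0) (b := c + C.M) (by omega) (by omega) (by omega) (by omega) (by omega) (by omega) (by omega) (by omega)]
        simp
      · rw [polar_smul_right,
          C.orth (a := 0) (b := c + C.M) (by omega) (by omega) (by omega) (by omega) (by omega) (by omega) (by omega) (by omega),
          smul_zero]
    rcases Nat.even_or_odd C.M with he | ho
    · exact key 1 (hodd 1 odd_one (by omega) (by omega)) one_ne_zero (by omega) (Nat.odd_iff.2 (by have := Nat.even_iff.1 he; omega))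
    · exact key 2 (hL2 ho) (by norm_num) (by have := Nat.odd_iff.1 ho; omega) (Nat.odd_iff.2 (by have := Nat.odd_iff.1 ho; omega))
  have hall : ∀ j, j < 2 * C.M → j ≠ 0 → j ≠ C.M → C.Lg H j := by
    intro j hj hj0 hjM
    rcases Nat.even_or_odd j with he | ho
    · rcases hB with hB | hB
      · exact C.short hn hA hA C.z_u hj hjM (by rwa [C.w_even he])
      · exact C.short hn hA hnu C.z_nu hj hjM (by rwa [C.w_even he])
    · exact hodd j ho hj hjM
  have hd0 : polar Q (C.z 0) (C.z C.M) ≠ 0 := C.dual (Or.inl (Nat.zero_add _).symm)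
  obtain ⟨f, hf⟩ : ∃ f, f = (polar Q (C.z 0) (C.z C.M))⁻¹ • C.z C.M := ⟨_, rfl⟩
  have hQf : Q f = 0 := by rw [hf, QuadraticMap.map_smul, C.Q_z, smul_zero]
  have hef : polar Q (C.z 0) f = 1 := by
    rw [hf, polar_smul_right, smul_eq_mul, inv_mul_cancel₀ hd0]
  have hfe : polar Q f (C.z 0) = 1 := by rw [polar_comm]; exact hef
  have hee : polar Q (C.z 0) (C.z 0) = 0 := polar_self_zero (C.Q_z 0)
  have hp : IsHPair Q (C.z 0, f) := ⟨C.Q_z 0, hQf, hef⟩
  -- the projection of every vector
  have hproj : ∀ v, Full Q H (C.z 0) (v - polar Q f v • C.z 0 - polar Q (C.z 0) v • f) := by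
    intro v
    induction C.span v using Submodule.span_induction with
    | mem x hx =>
      rcases hx with ⟨k, rfl⟩ | rfl | rfl
      · change Full Q H (C.z 0) (C.z k - _ - _)
        obtain ⟨d, r, rfl, hr⟩ : ∃ d r, k = r + d * (2 * C.M) ∧ r < 2 * C.M :=
          ⟨k / (2 * C.M), k % (2 * C.M), (Nat.mod_add_div' k _).symm, Nat.mod_lt _ (by omega)⟩
        obtain ⟨l, hl⟩ : ∃ l : F, C.z (r + d * (2 * C.M)) = l • C.z r := by
          clear hr
          induction d with
          | zero => exact ⟨1, by rw [Nat.zero_mul, Nat.add_zero, one_smul]⟩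
          | succ d ih =>
            obtain ⟨l, hl⟩ := ih
            obtain ⟨l', -, hl'⟩ := C.wrap (r + d * (2 * C.M))
            exact ⟨l' * l, by rw [Nat.succ_mul, ← Nat.add_assoc, hl', hl, smul_smul]⟩
        change Full Q H (C.z 0) (C.z (r + d * (2 * C.M)) - polar Q f (C.z (r + d * (2 * C.M))) • C.z 0 -
          polar Q (C.z 0) (C.z (r + d * (2 * C.M))) • f)
        rw [hl, polar_smul_right, polar_smul_right, smul_assoc, smul_assoc, ← smul_sub, ← smul_sub]
        refine Full.smul ?_ l
        rcases eq_or_ne r 0 with rfl | hr0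
        · rw [hfe, hee, one_smul, zero_smul, sub_self, sub_zero]; exact Full.zero _
        rcases eq_or_ne r C.M with rfl | hrM
        · rw [show polar Q f (C.z C.M) = 0 by
              rw [hf, polar_smul_left, polar_self_zero (C.Q_z _), smul_zero], zero_smul, sub_zero, hf,
            smul_smul, mul_inv_cancel₀ hd0, one_smul, sub_self]
          exact Full.zero _
        · rw [show polar Q f (C.z r) = 0 by
              rw [hf, polar_smul_left,
                C.orth (a := C.M) (b := r) (by omega) (by omega) (by omega) (by omega) (by omega) (by omega) (by omega) (by omega),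
                smul_zero],
            C.orth (a := 0) (b := r) (by omega) (by omega) (by omega) (by omega) (by omega) (by omega) (by omega)
              (by omega), zero_smul, zero_smul, sub_zero, sub_zero]
          exact hall r hr hr0 hrM
      · rw [C.z_u, hf, polar_smul_left, C.z_u, smul_zero, zero_smul, zero_smul, sub_zero, sub_zero]
        exact hA
      · rw [C.z_nu, hf, polar_smul_left, C.z_nu, smul_zero, zero_smul, zero_smul, sub_zero, sub_zero]
        exact hnu
    | zero => rw [polar_zero_right, polar_zero_right, zero_smul, zero_smul, sub_zero, sub_zero]; exact Full.zero _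
    | add x y _ _ hx hy =>
      have hval : ∀ x, polar Q (C.z 0) (x - polar Q f x • C.z 0 - polar Q (C.z 0) x • f) = 0 := fun x => by
        rw [polar_sub_right, polar_sub_right, polar_smul_right, polar_smul_right, hee, hef]; simp
      convert hx.add (C.Q_z 0) (hval x) (hval y) hy using 1
      rw [polar_add_right, polar_add_right]; module
    | smul c x _ hx =>
      convert hx.smul c using 1
      rw [polar_smul_right, polar_smul_right, smul_sub, smul_sub, smul_smul, smul_smul]
      rfl
  have hcomp : ∀ v ∈ comp Q (C.z 0, f), Full Q H (C.z 0) v := fun v hv => by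
    have := hproj v
    rwa [show polar Q (C.z 0) v = 0 from (mem_comp.mp hv).1, show polar Q f v = 0 from (mem_comp.mp hv).2,
      zero_smul, zero_smul, sub_zero, sub_zero] at this
  have hd1 : polar Q (C.z 1) (C.z (1 + C.M)) ≠ 0 := C.dual (Or.inl rfl)
  have m1 : C.z 1 ∈ comp Q (C.z 0, f) := by
    refine mem_comp.mpr ⟨?_, ?_⟩
    · exact C.orth (by omega) (by omega) (by omega) (by omega) (by omega) (by omega) (by omega) (by omega)
    · change polar Q f (C.z 1) = 0
      rw [hf, polar_smul_left,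
        C.orth (a := C.M) (b := 1) (by omega) (by omega) (by omega) (by omega) (by omega) (by omega) (by omega) (by omega), smul_zero]
  have m2 : C.z (1 + C.M) ∈ comp Q (C.z 0, f) := by
    refine mem_comp.mpr ⟨?_, ?_⟩
    · exact C.orth (by omega) (by omega) (by omega) (by omega) (by omega) (by omega) (by omega) (by omega)
    · change polar Q f (C.z (1 + C.M)) = 0
      rw [hf, polar_smul_left,
        C.orth (a := C.M) (b := 1 + C.M) (by omega) (by omega) (by omega) (by omega) (by omega) (by omega) (by omega) (by omega), smul_zero]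
  have hpR : ∃ q : comp Q (C.z 0, f) × comp Q (C.z 0, f), IsHPair (res Q (C.z 0, f)) q := by
    refine ⟨(⟨_, m1⟩, ⟨(polar Q (C.z 1) (C.z (1 + C.M)))⁻¹ • C.z (1 + C.M), Submodule.smul_mem _ _ m2⟩),
      C.Q_z 1, ?_, ?_⟩
    · change Q ((polar Q (C.z 1) (C.z (1 + C.M)))⁻¹ • C.z (1 + C.M)) = 0
      rw [QuadraticMap.map_smul, C.Q_z, smul_zero]
    · rw [res_polar]
      change polar Q (C.z 1) _ = 1
      rw [polar_smul_right, smul_eq_mul, inv_mul_cancel₀ hd1]
  rw [commutator_eq_root_of_pair hQ hq hp hpR]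
  refine rootGroup_le hQ hp hpR (fun v hv => (hcomp v hv).one) fun v hv => ?_
  obtain ⟨v', rfl⟩ : ∃ v', v = (C.n ^ C.M).1 v' := ⟨_, ((C.n ^ C.M).1.apply_symm_apply v).symm⟩
  have h1 : polar Q (C.z C.M) ((C.n ^ C.M).1 v') = 0 := by
    have := (mem_comp.mp hv).2
    change polar Q f _ = 0 at this
    rw [hf, polar_smul_left, smul_eq_zero] at this
    exact this.resolve_left (inv_ne_zero hd0)
  have h2 : polar Q (C.z (C.M + C.M)) ((C.n ^ C.M).1 v') = 0 := by
    obtain ⟨l, -, hl⟩ := C.wrap 0
    rw [show C.M + C.M = 0 + 2 * C.M by omega, hl, polar_smul_left,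
      show polar Q (C.z 0) _ = 0 from (mem_comp.mp hv).1, smul_zero]
  rw [← C.z_add, polar_iso (C.n ^ C.M).2] at h2
  rw [show C.z C.M = (C.n ^ C.M).1 (C.z 0) by rw [C.z_add, Nat.add_zero], polar_iso (C.n ^ C.M).2] at h1
  have hm : v' ∈ comp Q (C.z 0, f) := mem_comp.mpr ⟨h1, by
    change polar Q f v' = 0
    rw [hf, polar_smul_left, h2, smul_zero]⟩
  have h3 := ((hcomp v' hm).conj (pow_mem hn C.M)).scale (inv_ne_zero hd0)
  rw [C.z_add, Nat.add_zero, ← hf] at h3
  exact h3.one

include hn in
/-- Even long root groups from a residual vector that is not self-orthogonal. -/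
theorem evens (hA : Full Q H C.e C.u) (hBu : polar Q C.u C.u ≠ 0) {j : ℕ} (hj : Even j) (hj2 : j < 2 * C.M)
    (hjM : j ≠ C.M) : C.Lg H j :=
  C.short hn hA hA C.z_u hj2 hjM (by rwa [C.w_even hj])

include hn in
theorem close_twist (hQ : PND Q) (hq : Nat.card F ≠ 2 ∨ finrank F V ≠ 4) [Finite F] (hA : Full Q H C.e C.u)
    (hQu : Q C.u ≠ 0) (hB : polar Q C.u (C.n.1 C.u) ≠ 0) : commutator ↥(Iso Q) ≤ H := by
  have hodd : ∀ j, Odd j → j < 2 * C.M → j ≠ C.M → C.Lg H j := fun j hj hj2 hjM =>
    C.short hn hA hA C.z_u hj2 hjM (by rwa [C.w_odd hj, polar_comm])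
  refine C.close hn hQ hq hA hodd (fun ho => ?_) (Or.inr hB)
  have hM := C.hM
  have hM3 : 3 ≤ C.M := by have := Nat.odd_iff.1 ho; omega
  have hc : Odd (2 + C.M) := Nat.odd_iff.2 (by have := Nat.odd_iff.1 ho; omega)
  have h := C.transfer hn hA (hodd _ hc (by omega) (by omega)) (by omega) (by omega) (by omega)
  obtain ⟨l, hl, he⟩ := C.wrap 2
  have hd := C.dual (a := 2 + C.M + C.M) (b := 2 + C.M) (Or.inr rfl)
  rw [show 2 + C.M + C.M = 2 + 2 * C.M by omega] at h hd
  rw [C.w_even (by simp [Nat.even_add] : Even (2 + 2 * C.M))] at h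
  have h' := Full.sub C.sing ?_ ?_ (hA.smul (polar Q (C.z (2 + 2 * C.M)) (C.z (2 + C.M)))) h
  · rw [sub_sub_cancel, he, smul_smul] at h'
    refine h'.of_smul (mul_ne_zero (mul_ne_zero hQu ?_) hl)
    rw [← he]; exact hd
  all_goals try rw [show C.e = C.z 0 from rfl]
  · rw [polar_smul_right, C.z_u, smul_zero]
  · rw [polar_sub_right, polar_smul_right, polar_smul_right, C.z_u,
      C.orth (a := 0) (b := 2 + 2 * C.M) (by omega) (by omega) (by omega) (by omega) (by omega) (by omega) (by omega) (by omega)]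
    simp

include hn in
theorem close_odd (hQ : PND Q) (hq : Nat.card F ≠ 2 ∨ finrank F V ≠ 4) [Finite F] (hA : Full Q H C.e C.u)
    (hM : Odd C.M) (hBu : polar Q C.u C.u ≠ 0) : commutator ↥(Iso Q) ≤ H := by
  have hM2 := C.hM
  have hMo := Nat.odd_iff.1 hM
  refine C.close hn hQ hq hA (fun j hj hj2 hjM => ?_)
    (fun _ => C.evens hn hA hBu even_two (by omega) (by omega)) (Or.inl hBu)
  have hj1 := Nat.odd_iff.1 hj
  have key : ∀ c r, c % 2 = 0 → r % 2 = 0 → 0 < c → c < C.M + 2 → r < 2 * C.M → 0 < r →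
      (c + C.M + r = j + 2 * C.M ∨ c + C.M + r = j) → C.Lg H j := by
    intro c r hc hr hc0 hcb hrb hr0 he
    have hc2 : C.Lg H c := C.evens hn hA hBu (Nat.even_iff.2 hc) (by omega) (by omega)
    have hr2 : C.Lg H r := C.evens hn hA hBu (Nat.even_iff.2 hr) (by omega) (by omega)
    have h := C.longlong hn hc2 hr2 (by omega) (by omega) (by omega) (by omega) (by omega) (by omega)
      (by omega) (by omega)
    rcases he with he | he
    · exact C.Lg_wrap (he ▸ h)
    · exact he ▸ h
  rcases lt_trichotomy j (2 + C.M) with h | h | h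
  · exact key 2 (j + C.M - 2) rfl (by omega) (by omega) (by omega) (by omega) (by omega) (Or.inl (by omega))
  · exact key 4 (2 * C.M - 2) rfl (by omega) (by omega) (by omega) (by omega) (by omega) (Or.inl (by omega))
  · exact key 2 (j - 2 - C.M) rfl (by omega) (by omega) (by omega) (by omega) (by omega) (Or.inr (by omega))

include hn in
theorem conj_seed {m : ℕ} (h : Full Q H C.e (C.u + C.z m)) (k : ℕ) :
    Full Q H (C.z k) (C.w k + C.z (k + m)) := by
  have h1 := h.conj (pow_mem hn k)
  rwa [map_add, C.z_add] at h1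

include hn in
theorem close_plus (hQ : PND Q) (hq : Nat.card F ≠ 2 ∨ finrank F V ≠ 4) [Finite F]
    (hs : Full Q H C.e (C.u + C.z 2)) (hM : Odd C.M) (hM5 : 5 ≤ C.M) (hQu : Q C.u = 0)
    (hB : polar Q C.u (C.n.1 C.u) ≠ 0) : commutator ↥(Iso Q) ≤ H := by
  have hMo := Nat.odd_iff.1 hM
  have hBu : polar Q C.u C.u = 0 := polar_self_zero hQu
  have hw1 : C.w 1 = C.n.1 C.u := C.w_odd odd_one
  -- the first long root group
  have hL1 : C.Lg H 1 := by
    have h := Full.bracket (f := C.z 1) hs.one (C.conj_seed hn hs 1) C.sing (C.Q_z _) ?_ ?_ ?_ ?_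
    · have e1 : polar Q C.e (C.w 1 + C.z (1 + 2)) = 0 := by
        rw [show C.e = C.z 0 from rfl, polar_add_right, C.z_w,
          C.orth (by omega) (by omega) (by omega) (by omega) (by omega) (by omega) (by omega) (by omega)]
        simp
      have e2 : polar Q (C.u + C.z 2) (C.w 1 + C.z (1 + 2)) = polar Q C.u (C.n.1 C.u) := by
        rw [polar_add_left, polar_add_right, polar_add_right, hw1, polar_comm Q C.u (C.z (1 + 2)), C.z_u, C.z_nu,
          C.orth (by omega) (by omega) (by omega) (by omega) (by omega) (by omega) (by omega) (by omega)]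
        simp
      rw [e1, e2, zero_smul, mul_zero, add_zero, zero_sub, ← neg_smul] at h
      exact (h.of_smul (neg_ne_zero.2 hB)).swap (C.Q_z _) C.sing (C.orth (b := 0) (by omega) (by omega) (by omega)
        (by omega) (by omega) (by omega) (by omega) (by omega))
    all_goals try rw [show C.e = C.z 0 from rfl]
    · rw [polar_add_right, C.z_u,
        C.orth (by omega) (by omega) (by omega) (by omega) (by omega) (by omega) (by omega) (by omega)]
      simp
    · rw [polar_add_right, C.z_w,
        C.orth (by omega) (by omega) (by omega) (by omega) (by omega) (by omega) (by omega) (by omega)]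
      simp
    · exact C.orth (by omega) (by omega) (by omega) (by omega) (by omega) (by omega) (by omega) (by omega)
    · rw [polar_add_left, polar_comm Q C.u, C.z_u,
        C.orth (by omega) (by omega) (by omega) (by omega) (by omega) (by omega) (by omega) (by omega)]
      simp
  -- the seed at another vector
  have hD : Full Q H (C.z 0) (C.u + C.z (C.M + 3)) := by
    have hb : Full Q H (C.z (C.M - 1)) (C.z C.M) := by
      have := C.shift hn hL1 (C.M - 1)
      rwa [show C.M - 1 + 1 = C.M by omega] at this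
    have h := Full.bracket hs.one hb C.sing (C.Q_z _) ?_ ?_ ?_ ?_
    · have e2 : polar Q (C.u + C.z 2) (C.z C.M) = 0 := by
        rw [polar_add_left, polar_comm Q C.u, C.z_u,
          C.orth (by omega) (by omega) (by omega) (by omega) (by omega) (by omega) (by omega) (by omega)]
        simp
      have e3 : Q (C.u + C.z 2) = 0 := by
        rw [map_two, hQu, C.Q_z, polar_comm, C.z_u]; simp
      rw [e2, e3, zero_mul, add_zero, zero_smul, sub_zero] at h
      have h1 := (h.of_smul C.dual0).conj (pow_mem hn (C.M + 1))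
      rw [C.z_add, map_add, C.z_add, show C.M + 1 + (C.M - 1) = 0 + 2 * C.M by omega,
        show (C.n ^ (C.M + 1)).1 C.u = C.u from C.w_even (Nat.even_iff.2 (by omega)),
        show C.M + 1 + 2 = C.M + 3 by omega] at h1
      obtain ⟨l, hl, he⟩ := C.wrap 0
      rw [he] at h1
      exact h1.of_scale hl
    all_goals try rw [show C.e = C.z 0 from rfl]
    · rw [polar_add_right, C.z_u,
        C.orth (by omega) (by omega) (by omega) (by omega) (by omega) (by omega) (by omega) (by omega)]
      simp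
    · exact C.orth (by omega) (by omega) (by omega) (by omega) (by omega) (by omega) (by omega) (by omega)
    · exact C.orth (by omega) (by omega) (by omega) (by omega) (by omega) (by omega) (by omega) (by omega)
    · rw [polar_add_left, polar_comm Q C.u, C.z_u,
        C.orth (by omega) (by omega) (by omega) (by omega) (by omega) (by omega) (by omega) (by omega)]
      simp
  have o2 : polar Q (C.z 0) (C.z 2) = 0 :=
    C.orth (by omega) (by omega) (by omega) (by omega) (by omega) (by omega) (by omega) (by omega)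
  have o3 : polar Q (C.z 0) (C.z (C.M + 3)) = 0 :=
    C.orth (by omega) (by omega) (by omega) (by omega) (by omega) (by omega) (by omega) (by omega)
  have hdiff : Full Q H (C.z 0) (C.z 2 - C.z (C.M + 3)) := by
    have h := Full.sub (C.Q_z 0) (v := C.u + C.z 2) (w := C.u + C.z (C.M + 3))
      (by rw [polar_add_right, C.z_u, o2, add_zero]) (by rw [polar_add_right, C.z_u, o3, add_zero]) hs hD
    rwa [add_sub_add_left_eq_sub] at h
  have hLM : C.Lg H (C.M + 1) := by
    have hg : Full Q H (C.z (C.M + 2)) (C.z (C.M + 1)) :=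
      (C.shift hn hL1 (C.M + 1)).swap (C.Q_z _) (C.Q_z _)
        (C.orth (by omega) (by omega) (by omega) (by omega) (by omega) (by omega) (by omega) (by omega))
    have h := Full.bracket hg.one hdiff (C.Q_z _) (C.Q_z _)
      (C.orth (by omega) (by omega) (by omega) (by omega) (by omega) (by omega) (by omega) (by omega))
      (by rw [polar_sub_right, o2, o3, sub_zero])
      (C.orth (by omega) (by omega) (by omega) (by omega) (by omega) (by omega) (by omega) (by omega))
      (C.orth (by omega) (by omega) (by omega) (by omega) (by omega) (by omega) (by omega) (by omega))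
    rw [C.Q_z, zero_mul, add_zero, polar_sub_right, polar_sub_right,
      C.orth (a := C.M + 2) (b := C.M + 3) (by omega) (by omega) (by omega) (by omega) (by omega) (by omega)
        (by omega) (by omega),
      C.orth (a := C.M + 1) (b := 2) (by omega) (by omega) (by omega) (by omega) (by omega) (by omega)
        (by omega) (by omega),
      C.orth (a := C.M + 1) (b := C.M + 3) (by omega) (by omega) (by omega) (by omega) (by omega) (by omega)
        (by omega) (by omega), sub_zero, sub_zero, zero_smul, sub_zero] at h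
    exact h.of_smul (C.dual (Or.inr (by omega)))
  have hL2 : C.Lg H 2 := by
    have h := C.longlong hn hLM hL1 (by omega) (by omega) (by omega) (by omega) (by omega) (by omega)
      (by omega) (by omega)
    rw [show C.M + 1 + C.M + 1 = 2 + 2 * C.M by omega] at h
    exact C.Lg_wrap h
  have hA : Full Q H C.e C.u := by
    have h := Full.sub (C.Q_z 0) (v := C.u + C.z 2) (w := C.z 2) (by rw [polar_add_right, C.z_u, o2, add_zero]) o2 hs hL2
    rwa [add_sub_cancel_right] at h
  exact C.close hn hQ hq hA (fun j hj hj2 hjM =>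
    C.short hn hA hA C.z_u hj2 hjM (by rwa [C.w_odd hj, polar_comm])) (fun _ => hL2) (Or.inr hB)

include hn in
theorem close_even (hQ : PND Q) (hq : Nat.card F ≠ 2 ∨ finrank F V ≠ 4) [Finite F]
    (hs : Full Q H C.e (C.u + C.z 1)) (hM : Even C.M) (hM4 : 4 ≤ C.M)
    (hBu : polar Q C.u C.u ≠ 0) : commutator ↥(Iso Q) ≤ H := by
  have hMe := Nat.even_iff.1 hM
  have o1 : polar Q (C.z 0) (C.z 1) = 0 :=
    C.orth (by omega) (by omega) (by omega) (by omega) (by omega) (by omega) (by omega) (by omega)
  have hs0 : polar Q C.e (C.u + C.z 1) = 0 := by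
    rw [show C.e = C.z 0 from rfl, polar_add_right, C.z_u, o1, add_zero]
  have hperp : ∀ k, k < 2 * C.M → k ≠ 1 + C.M → polar Q (C.u + C.z 1) (C.z k) = 0 := fun k hk hk' => by
    rw [polar_add_left, polar_comm Q C.u, C.z_u,
      C.orth (by omega) (by omega) (by omega) (by omega) (by omega) (by omega) (by omega) (by omega), add_zero]
  have hL2 : C.Lg H 2 := by
    have h := Full.bracket (f := C.z 2) hs.one (C.conj_seed hn hs 2) C.sing (C.Q_z _) hs0 ?_
      (C.orth (a := 0) (by omega) (by omega) (by omega) (by omega) (by omega) (by omega) (by omega) (by omega))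
      (hperp 2 (by omega) (by omega))
    · have e1 : polar Q C.e (C.w 2 + C.z (2 + 1)) = 0 := by
        rw [show C.e = C.z 0 from rfl, polar_add_right, C.z_w,
          C.orth (by omega) (by omega) (by omega) (by omega) (by omega) (by omega) (by omega) (by omega), add_zero]
      have e2 : polar Q (C.u + C.z 1) (C.w 2 + C.z (2 + 1)) = polar Q C.u C.u := by
        rw [polar_add_left, polar_add_right, polar_add_right, C.w_even even_two,
          polar_comm Q C.u (C.z (2 + 1)), C.z_u, C.z_u,
          C.orth (by omega) (by omega) (by omega) (by omega) (by omega) (by omega) (by omega) (by omega)]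
        simp
      rw [e1, e2, zero_smul, mul_zero, add_zero, zero_sub, ← neg_smul] at h
      exact (h.of_smul (neg_ne_zero.2 hBu)).swap (C.Q_z _) C.sing (C.orth (b := 0) (by omega) (by omega) (by omega)
        (by omega) (by omega) (by omega) (by omega) (by omega))
    · rw [polar_add_right, C.z_w,
        C.orth (by omega) (by omega) (by omega) (by omega) (by omega) (by omega) (by omega) (by omega), add_zero]
  have hL3 : C.Lg H (C.M + 3) := by
    have hb : Full Q H (C.z (C.M + 3)) (C.z (C.M + 1)) :=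
      (C.shift hn hL2 (C.M + 1)).swap (C.Q_z _) (C.Q_z _)
        (C.orth (by omega) (by omega) (by omega) (by omega) (by omega) (by omega) (by omega) (by omega))
    have h := Full.bracket hs.one hb C.sing (C.Q_z _) hs0
      (C.orth (by omega) (by omega) (by omega) (by omega) (by omega) (by omega) (by omega) (by omega))
      (C.orth (a := 0) (by omega) (by omega) (by omega) (by omega) (by omega) (by omega) (by omega) (by omega))
      (hperp _ (by omega) (by omega))
    rw [show polar Q C.e (C.z (C.M + 1)) = 0 from C.orth_e (by omega) (by omega) (by omega) (by omega),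
      zero_smul, mul_zero, add_zero, zero_sub, ← neg_smul] at h
    refine (h.of_smul (neg_ne_zero.2 ?_)).swap (C.Q_z _) C.sing
      (C.orth (b := 0) (by omega) (by omega) (by omega) (by omega) (by omega) (by omega) (by omega) (by omega))
    rw [polar_add_left, polar_comm Q C.u, C.z_u, zero_add]
    exact C.dual (Or.inl (by omega))
  have hL1 : C.Lg H 1 := by
    have h := C.longlong hn hL3 (C.Lg_rev hn hL2 (by omega) (by omega)) (by omega) (by omega) (by omega)
      (by omega) (by omega) (by omega) (by omega) (by omega)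
    rw [show C.M + 3 + C.M + (2 * C.M - 2) = 1 + 2 * C.M + 2 * C.M by omega] at h
    exact C.Lg_wrap (C.Lg_wrap h)
  have hA : Full Q H C.e C.u := by
    have h := Full.sub C.sing (v := C.u + C.z 1) (w := C.z 1) hs0 o1 hs hL1
    rwa [add_sub_cancel_right] at h
  refine C.close hn hQ hq hA (fun j hj hj2 hjM => ?_)
    (fun ho => absurd hM (Nat.not_even_iff_odd.2 ho)) (Or.inl hBu)
  have hj1 := Nat.odd_iff.1 hj
  have key : ∀ c r, C.Lg H c → c % 2 = 1 → r % 2 = 0 → c < 2 * C.M → r < 2 * C.M → 0 < r → r ≠ C.M →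
      (c + C.M + r = j + 2 * C.M ∨ c + C.M + r = j ∨ c + C.M + r = j + 2 * C.M + 2 * C.M) → C.Lg H j := by
    intro c r hc hc1 hr hcb hrb hr0 hrM he
    have hr2 : C.Lg H r := C.evens hn hA hBu (Nat.even_iff.2 hr) hrb hrM
    have h := C.longlong hn hc hr2 (by omega) (by omega) (by omega) (by omega) (by omega) (by omega)
      (by omega) (by omega)
    rcases he with he | he | he
    · exact C.Lg_wrap (he ▸ h)
    · exact he ▸ h
    · exact C.Lg_wrap (C.Lg_wrap (he ▸ h))
  rcases eq_or_ne j 1 with rfl | hj1'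
  · exact hL1
  rcases lt_trichotomy j (1 + C.M) with h | h | h
  · exact key 1 (j + C.M - 1) hL1 rfl (by omega) (by omega) (by omega) (by omega) (by omega) (Or.inl (by omega))
  · exact key (C.M + 3) (C.M - 2) hL3 (by omega) (by omega) (by omega) (by omega) (by omega) (by omega)
      (Or.inl (by omega))
  · exact key 1 (j - 1 - C.M) hL1 rfl (by omega) (by omega) (by omega) (by omega) (by omega) (Or.inr (Or.inl (by omega)))

omit hn in
/-- The first generator, and what it gives together with the cycle. -/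
theorem seed [Fintype F] (hQ : PND Q) (hq : Nat.card F ≠ 2 ∨ finrank F V ≠ 4) {p : ℕ} (hp : 0 < p)
    (hpM : p < C.M) {s : V} (hs0 : polar Q C.e s = 0) (hs1 : polar Q (C.z p) s = 0)
    (hs2 : polar Q (C.z (p + C.M)) s = 0) (hs3 : polar Q (C.z p) ((C.n ^ p).1 s) = 0)
    (hs4 : polar Q (C.z (p + C.M)) ((C.n ^ p).1 s) = 0) :
    ∃ a ∈ commutator ↥(Iso Q), ∀ H : Subgroup ↥(Iso Q), a ∈ H → C.n ∈ H → Full Q H C.e s := by
  classical
  obtain ⟨g, hg⟩ : ∃ g : Fˣ, ∀ x, x ∈ Subgroup.zpowers g := IsCyclic.exists_generator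
  have hd := C.dual (a := p) (b := p + C.M) (Or.inl rfl)
  obtain ⟨f, hf⟩ : ∃ f, f = (polar Q (C.z p) (C.z (p + C.M)))⁻¹ • C.z (p + C.M) := ⟨_, rfl⟩
  have hQf : Q f = 0 := by rw [hf, QuadraticMap.map_smul, C.Q_z, smul_zero]
  have hef : polar Q (C.z p) f = 1 := by rw [hf, polar_smul_right, smul_eq_mul, inv_mul_cancel₀ hd]
  have hc0 : ((g : F) * g) ≠ 0 := mul_ne_zero g.ne_zero g.ne_zero
  obtain ⟨hQ1, hQ2, he, hf', hfix⟩ := pair_scale (C.Q_z p) hQf hef hc0
  obtain ⟨vs, hvs⟩ : ∃ vs, vs = [C.z p - f, C.z p - ((g : F) * g) • f] := ⟨_, rfl⟩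
  rw [← hvs] at he hf' hfix
  obtain ⟨h, hh⟩ : ∃ h, h = prodRf Q vs := ⟨_, rfl⟩
  rw [← hh] at he hf' hfix
  have hhC : h ∈ commutator ↥(Iso Q) := by
    rw [hh, mem_commutator_iff hQ vs (by simp [hvs, hQ1, hQ2, hc0]), hvs]
    exact ⟨⟨1, rfl⟩, ⟨(g : F), by simp [hQ1, hQ2]⟩⟩
  have hfixv : ∀ x, polar Q (C.z p) x = 0 → polar Q (C.z (p + C.M)) x = 0 → h.1 x = x := fun x h1 h2 =>
    hfix x h1 (by rw [hf, polar_smul_left, h2, smul_zero])
  have hhe : h.1 C.e = C.e := hfixv _
    (C.orth (b := 0) (by omega) (by omega) (by omega) (by omega) (by omega) (by omega) (by omega) (by omega))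
    (C.orth (b := 0) (by omega) (by omega) (by omega) (by omega) (by omega) (by omega) (by omega) (by omega))
  have hhs : h.1 s = s := hfixv s hs1 hs2
  have hcomm : Commute h (E Q C.e s) := by
    have := E_conj h C.e s
    rw [hhe, hhs] at this
    exact mul_inv_eq_iff_eq_mul.1 this
  have hord : h ^ (Fintype.card F - 1) = 1 := by
    have hpow : ∀ k : ℕ, ((h ^ k).1 (C.z p) = ((g : F) * g) ^ k • C.z p ∧
        (h ^ k).1 f = ((g : F) * g)⁻¹ ^ k • f) ∧
        ∀ x, polar Q (C.z p) x = 0 → polar Q f x = 0 → (h ^ k).1 x = x := by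
      intro k
      induction k with
      | zero => simp
      | succ k ih =>
        refine ⟨⟨?_, ?_⟩, fun x h1 h2 => ?_⟩
        · rw [pow_succ]; change (h ^ k).1 (h.1 _) = _
          rw [he, map_smul, ih.1.1, smul_smul, ← pow_succ']
        · rw [pow_succ]; change (h ^ k).1 (h.1 _) = _
          rw [hf', map_smul, ih.1.2, smul_smul, ← pow_succ']
        · rw [pow_succ]; change (h ^ k).1 (h.1 _) = _
          rw [hfix x h1 h2, ih.2 x h1 h2]
    obtain ⟨⟨p1, p2⟩, p3⟩ := hpow (Fintype.card F - 1)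
    rw [FiniteField.pow_card_sub_one_eq_one _ hc0, one_smul] at p1
    rw [FiniteField.pow_card_sub_one_eq_one _ (inv_ne_zero hc0), one_smul] at p2
    refine iso_ext fun x => ?_
    have hr : x - polar Q f x • C.z p - polar Q (C.z p) x • f ∈ comp Q (C.z p, f) :=
      exists_split (p := (C.z p, f)) ⟨C.Q_z p, hQf, hef⟩ x
    have hx : (h ^ (Fintype.card F - 1)).1 (x - polar Q f x • C.z p - polar Q (C.z p) x • f) = _ :=
      p3 _ (mem_comp.mp hr).1 (mem_comp.mp hr).2
    rw [map_sub, map_sub, map_smul, map_smul, p1, p2, sub_left_inj, sub_left_inj] at hx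
    exact hx
  refine ⟨h * E Q C.e s, mul_mem hhC ?_, fun H haH hnH => ?_⟩
  · rw [E_eq C.sing hs0]
    exact siegel_mem_commutator hQ hq C.sing hs0
  have hxH : E Q C.e s ∈ H := by
    have := pow_mem haH (Fintype.card F - 1)
    rw [hcomm.mul_pow, hord, one_mul, E_pow_card C.sing hs0] at this
    exact inv_mem_iff.1 this
  have hhH : h ∈ H := by simpa using mul_mem haH (inv_mem hxH)
  obtain ⟨h₀, hh₀⟩ : ∃ h₀, h₀ = (C.n ^ p)⁻¹ * h * C.n ^ p := ⟨_, rfl⟩
  have hh₀H : h₀ ∈ H := hh₀ ▸ mul_mem (mul_mem (inv_mem (pow_mem hnH p)) hhH) (pow_mem hnH p)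
  have e0 : h₀.1 C.e = ((g : F) * g) • C.e := by
    rw [hh₀]; change (C.n ^ p).1.symm (h.1 (C.z p)) = _
    rw [he, map_smul]
    exact congrArg _ ((C.n ^ p).1.symm_apply_apply _)
  have es : h₀.1 s = s := by
    rw [hh₀]; change (C.n ^ p).1.symm (h.1 ((C.n ^ p).1 s)) = _
    rw [hfixv _ hs3 hs4]
    exact (C.n ^ p).1.symm_apply_apply _
  let A : AddSubgroup F :=
    { carrier := {t | E Q C.e (t • s) ∈ H}
      zero_mem' := by change E Q C.e ((0 : F) • s) ∈ H; rw [zero_smul, E_zero]; exact one_mem H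
      add_mem' := fun {x y} hx hy => by
        change E Q C.e ((x + y) • s) ∈ H
        rw [add_smul, ← E_mul C.sing (by rw [polar_smul_right, hs0, smul_zero])
          (by rw [polar_smul_right, hs0, smul_zero])]
        exact mul_mem hx hy
      neg_mem' := fun {x} hx => by
        change E Q C.e ((-x) • s) ∈ H
        rw [neg_smul, ← E_inv]
        exact inv_mem hx }
  intro t
  refine TwoGen.addSubgroup_eq_top A g hg 2 (Or.inr rfl) one_ne_zero
    (show E Q C.e ((1 : F) • s) ∈ H by rwa [one_smul]) (fun x hx => ?_) t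
  change E Q C.e ((((g ^ (2 : ℤ) : Fˣ) : F) * x) • s) ∈ H
  have h1 := mul_mem (mul_mem hh₀H (show E Q C.e (x • s) ∈ H from hx)) (inv_mem hh₀H)
  rwa [E_conj, e0, map_smul, es, E_scale hc0, smul_smul, ← Units.val_mul, ← zpow_two] at h1

end Cyc

end Cfsg.Agent.Small.TwoGenO
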