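import Cfsg.Agent.Lib.Small.TwoGen.OrthCycle
import Cfsg.Agent.Lib.Small.TwoGen.Chevalley
import Cfsg.Agent.Lib.Small.Orth.Standard
import Cfsg.Agent.Lib.Classical.OrthPSimple
import Cfsg.Agent.Lib.Lie.RepD4

/-!
The cycle element of a family of hyperbolic pairs, and two generators of the derived groups of the
three standard orthogonal groups and of their central quotients.
-/

set_option autoImplicit false
set_option linter.unusedSectionVars false

namespace Cfsg.Agent.Small.TwoGenO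

open Module QuadraticMap Cfsg.Agent.Classical Cfsg.Agent.Classical.OCount Cfsg.Agent.Classical.ORefl
  Cfsg.Agent.Classical.OOmega Cfsg.Agent.Small.Orth

section Abstract

variable {F : Type*} [Field F] {V : Type*} [AddCommGroup V] [Module F V] [FiniteDimensional F V]
  {Q : QuadraticForm F V}

/-- Equal up to a non-zero scalar. -/
def Sim (F : Type*) [Field F] {V : Type*} [AddCommGroup V] [Module F V] (x y : V) : Prop :=
  ∃ c : F, c ≠ 0 ∧ x = c • y

theorem Sim.refl (x : V) : Sim F x x := ⟨1, one_ne_zero, (one_smul F x).symm⟩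

theorem Sim.trans {x y z : V} (h : Sim F x y) (h' : Sim F y z) : Sim F x z := by
  obtain ⟨c, hc, rfl⟩ := h
  obtain ⟨d, hd, rfl⟩ := h'
  exact ⟨c * d, mul_ne_zero hc hd, smul_smul c d z⟩

theorem Sim.map {x y : V} (h : Sim F x y) (g : V ≃ₗ[F] V) : Sim F (g x) (g y) := by
  obtain ⟨c, hc, rfl⟩ := h
  exact ⟨c, hc, map_smul g c y⟩

theorem Sim.smul (c : F) (hc : c ≠ 0) (y : V) : Sim F (c • y) y := ⟨c, hc, rfl⟩

/-- A signed transposition of two pairs. -/
theorem exists_swap [Finite F] (hQ : PND Q) (hq : Nat.card F ≠ 2 ∨ finrank F V ≠ 4) {M : ℕ} {e f : Fin M → V}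
    (hf : HFam Q e f) {i j : Fin M} (hij : i ≠ j) :
    ∃ g ∈ commutator ↥(Iso Q), g.1 (e j) = e i ∧ g.1 (e i) = -e j ∧ g.1 (f j) = f i ∧ g.1 (f i) = -f j ∧
      ∀ x, polar Q (e i) x = 0 → polar Q (f i) x = 0 → polar Q (e j) x = 0 → polar Q (f j) x = 0 → g.1 x = x := by
  have h1 : polar Q (e i) (-f j) = 0 := by rw [polar_neg_right, hf.ef, if_neg hij, neg_zero]
  have h2 : polar Q (e j) (f i) = 0 := by rw [hf.ef, if_neg hij.symm]
  have a1 : ∀ x, (E Q (e i) (-f j)).1 x = x - polar Q (e i) x • f j + polar Q (f j) x • e i := fun x => by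
    rw [E_apply (hf.qe i) h1, polar_neg_left, QuadraticMap.map_neg, hf.qf, zero_mul, add_zero]; module
  have a2 : ∀ x, (E Q (e j) (f i)).1 x = x + polar Q (e j) x • f i - polar Q (f i) x • e j := fun x => by
    rw [E_apply (hf.qe j) h2, hf.qf, zero_mul, add_zero]
  refine ⟨E Q (e i) (-f j) * E Q (e j) (f i) * E Q (e i) (-f j), ?_, ?_, ?_, ?_, ?_, fun x x1 x2 x3 x4 => ?_⟩
  · have m1 : E Q (e i) (-f j) ∈ commutator ↥(Iso Q) := by
      rw [E_eq (hf.qe i) h1]; exact siegel_mem_commutator hQ hq (hf.qe i) h1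
    have m2 : E Q (e j) (f i) ∈ commutator ↥(Iso Q) := by
      rw [E_eq (hf.qe j) h2]; exact siegel_mem_commutator hQ hq (hf.qe j) h2
    exact mul_mem (mul_mem m1 m2) m1
  all_goals change (E Q (e i) (-f j)).1 ((E Q (e j) (f i)).1 ((E Q (e i) (-f j)).1 _)) = _
  all_goals simp only [a1, a2, polar_add_right, polar_sub_right, polar_smul_right, hf.ee, hf.ff, hf.ef, hf.fe,
    if_neg hij, if_neg hij.symm, if_true, smul_eq_mul]
  · module
  · module
  · module
  · module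
  · rw [x1, x2, x3, x4]; simp

/-- The cyclic permutation of the pairs. -/
theorem exists_perm [Finite F] (hQ : PND Q) (hq : Nat.card F ≠ 2 ∨ finrank F V ≠ 4) {M : ℕ} {e f : Fin M → V}
    (hf : HFam Q e f) : ∀ (k : ℕ) (o l : Fin M), o.val = 0 → l.val = k →
    ∃ P ∈ commutator ↥(Iso Q),
      (∀ i j : Fin M, j.val = i.val + 1 → j.val ≤ k → Sim F (P.1 (e i)) (e j) ∧ Sim F (P.1 (f i)) (f j)) ∧
      Sim F (P.1 (e l)) (e o) ∧ Sim F (P.1 (f l)) (f o) ∧
      ∀ x, (∀ i : Fin M, i.val ≤ k → polar Q (e i) x = 0 ∧ polar Q (f i) x = 0) → P.1 x = x := by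
  intro k
  induction k with
  | zero =>
    intro o l ho hl
    obtain rfl : l = o := Fin.ext (hl.trans ho.symm)
    exact ⟨1, one_mem _, fun i j h1 h2 => by omega, Sim.refl _, Sim.refl _, fun x _ => rfl⟩
  | succ k ih =>
    intro o l ho hl
    obtain ⟨p, hp⟩ : ∃ p : Fin M, p.val = k := ⟨⟨k, by omega⟩, rfl⟩
    obtain ⟨P, hP, hstep, hle, hlf, hfix⟩ := ih o p ho hp
    have hne : l ≠ p := fun h => by subst h; omega
    obtain ⟨g, hg, g1, g2, g3, g4, g5⟩ := exists_swap hQ hq hf hne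
    have hfe : P.1 (e l) = e l := hfix _ fun i hi => by
      have : i ≠ l := fun h => by subst h; omega
      rw [hf.ee, hf.fe, if_neg this]; exact ⟨rfl, rfl⟩
    have hff : P.1 (f l) = f l := hfix _ fun i hi => by
      have : i ≠ l := fun h => by subst h; omega
      rw [hf.ff, hf.ef, if_neg this]; exact ⟨rfl, rfl⟩
    refine ⟨P * g, mul_mem hP hg, fun i j hij hj => ?_, ?_, ?_, fun x hx => ?_⟩
    · change Sim F (P.1 (g.1 (e i))) (e j) ∧ Sim F (P.1 (g.1 (f i))) (f j)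
      rcases eq_or_ne i p with rfl | hip
      · obtain rfl : j = l := Fin.ext (by omega)
        rw [g1, g3, hfe, hff]; exact ⟨Sim.refl _, Sim.refl _⟩
      · have hil : i ≠ l := fun h => by subst h; omega
        rw [g5 (e i) (hf.ee _ _) (by rw [hf.fe, if_neg hil.symm]) (hf.ee _ _) (by rw [hf.fe, if_neg hip.symm]),
          g5 (f i) (by rw [hf.ef, if_neg hil.symm]) (hf.ff _ _) (by rw [hf.ef, if_neg hip.symm]) (hf.ff _ _)]
        exact hstep i j hij (by have := Fin.val_ne_of_ne hip; omega)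
    · change Sim F (P.1 (g.1 (e l))) (e o)
      rw [g2, map_neg, ← neg_one_smul F]
      exact (Sim.smul _ (neg_ne_zero.2 one_ne_zero) _).trans hle
    · change Sim F (P.1 (g.1 (f l))) (f o)
      rw [g4, map_neg, ← neg_one_smul F]
      exact (Sim.smul _ (neg_ne_zero.2 one_ne_zero) _).trans hlf
    · change P.1 (g.1 x) = x
      rw [g5 x (hx l (by omega)).1 (hx l (by omega)).2 (hx p (by omega)).1 (hx p (by omega)).2]
      exact hfix x fun i hi => hx i (by omega)

/-- The cycle of the pairs, reflecting the residual space. -/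
theorem exists_cyc [Finite F] (hQ : PND Q) (hq : Nat.card F ≠ 2 ∨ finrank F V ≠ 4) {M : ℕ} (hM : 2 ≤ M)
    {e f : Fin M → V} (hf : HFam Q e f) {u w : V} (hw : Q w ≠ 0)
    (hu : ∀ i, polar Q (e i) u = 0 ∧ polar Q (f i) u = 0) (hw' : ∀ i, polar Q (e i) w = 0 ∧ polar Q (f i) w = 0)
    (hspan : ∀ v, v ∈ Submodule.span F (Set.range e ∪ Set.range f ∪ {u, refl Q w u})) :
    ∃ C : Cyc Q, C.n ∈ commutator ↥(Iso Q) ∧ C.M = M ∧ C.u = u ∧ C.n.1 u = refl Q w u := by
  obtain ⟨o, ho⟩ : ∃ o : Fin M, o.val = 0 := ⟨⟨0, by omega⟩, rfl⟩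
  obtain ⟨l, hl⟩ : ∃ l : Fin M, l.val = M - 1 := ⟨⟨M - 1, by omega⟩, rfl⟩
  obtain ⟨P, hP, hstep, hle, hlf, hfix⟩ := exists_perm hQ hq hf (M - 1) o l ho hl
  obtain ⟨c, hc⟩ : ∃ c : F, c = -Q w := ⟨_, rfl⟩
  have hc0 : c ≠ 0 := hc ▸ neg_ne_zero.2 hw
  obtain ⟨v, hv⟩ : ∃ v, v = e o - c • f o := ⟨_, rfl⟩
  have hQv : Q v = -c := by
    rw [hv, map_sub_two, QuadraticMap.map_smul, hf.qe, hf.qf, polar_smul_right, hf.ef, if_pos rfl]; simp
  have hvne : Q v ≠ 0 := by rw [hQv]; exact neg_ne_zero.2 hc0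
  obtain ⟨σ, hσ⟩ : ∃ σ, σ = prodRf Q [v, w] := ⟨_, rfl⟩
  have hσC : σ ∈ commutator ↥(Iso Q) := by
    rw [hσ, mem_commutator_iff hQ _ (by simp [hvne, hw])]
    exact ⟨⟨1, rfl⟩, ⟨Q w, by simp [hQv, hc]⟩⟩
  have hσa : ∀ x, σ.1 x = refl Q v (refl Q w x) := fun x => by rw [hσ, prodRf_pair]; rfl
  have hvx : ∀ x, polar Q (e o) x = 0 → polar Q (f o) x = 0 → polar Q v x = 0 := fun x h1 h2 => by
    rw [hv, polar_sub_left, polar_smul_left, h1, h2]; simp
  have hσe : ∀ i, i ≠ o → σ.1 (e i) = e i ∧ σ.1 (f i) = f i := fun i hi => by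
    rw [hσa, hσa, refl_fix (x := e i) (by rw [polar_comm]; exact (hw' i).1),
      refl_fix (x := f i) (by rw [polar_comm]; exact (hw' i).2)]
    exact ⟨refl_fix (hvx _ (hf.ee _ _) (by rw [hf.fe, if_neg hi.symm])),
      refl_fix (hvx _ (by rw [hf.ef, if_neg hi.symm]) (hf.ff _ _))⟩
  have hσo : Sim F (σ.1 (e o)) (f o) ∧ Sim F (σ.1 (f o)) (e o) := by
    rw [hσa, hσa, refl_fix (x := e o) (by rw [polar_comm]; exact (hw' o).1),
      refl_fix (x := f o) (by rw [polar_comm]; exact (hw' o).2), refl_apply, refl_apply, hQv, hv,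
      polar_sub_left, polar_sub_left, polar_smul_left, polar_smul_left, hf.ee, hf.ff, hf.ef, hf.fe, if_pos rfl]
    constructor
    · refine ⟨c, hc0, ?_⟩
      simp only [smul_eq_mul]
      match_scalars <;> first | (field_simp; ring1) | (field_simp; done) | ring1
    · refine ⟨c⁻¹, inv_ne_zero hc0, ?_⟩
      simp only [smul_eq_mul]
      match_scalars <;> first | (field_simp; ring1) | (field_simp; done) | ring1
  obtain ⟨n, hn⟩ : ∃ n, n = σ * P := ⟨_, rfl⟩
  have hna : ∀ x, n.1 x = σ.1 (P.1 x) := fun x => by rw [hn]; rfl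
  have hnstep : ∀ i j : Fin M, j.val = i.val + 1 → Sim F (n.1 (e i)) (e j) ∧ Sim F (n.1 (f i)) (f j) := by
    intro i j hij
    have hjo : j ≠ o := fun h => by subst h; omega
    obtain ⟨h1, h2⟩ := hstep i j hij (by omega)
    rw [hna, hna]
    exact ⟨(hσe j hjo).1 ▸ h1.map σ.1, (hσe j hjo).2 ▸ h2.map σ.1⟩
  have hnle : Sim F (n.1 (e l)) (f o) := by rw [hna]; exact (hle.map σ.1).trans hσo.1
  have hnlf : Sim F (n.1 (f l)) (e o) := by rw [hna]; exact (hlf.map σ.1).trans hσo.2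
  have hnR : ∀ x, (∀ i, polar Q (e i) x = 0 ∧ polar Q (f i) x = 0) → n.1 x = refl Q w x := fun x hx => by
    rw [hna, hfix x fun i _ => hx i, hσa]
    refine refl_fix (hvx _ ?_ ?_) <;> rw [refl_apply, polar_sub_right, polar_smul_right]
    · rw [(hx o).1, (hw' o).1, smul_zero, sub_zero]
    · rw [(hx o).2, (hw' o).2, smul_zero, sub_zero]
  have hnu : n.1 u = refl Q w u := hnR u hu
  have hnu2 : n.1 (n.1 u) = u := by
    rw [hnu, hnR _ fun i => by
      rw [refl_apply, polar_sub_right, polar_sub_right, polar_smul_right, polar_smul_right, (hu i).1, (hu i).2,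
        (hw' i).1, (hw' i).2, smul_zero, sub_zero]
      exact ⟨rfl, rfl⟩]
    exact LinearEquiv.congr_fun (refl_mul_self (Q := Q) w) u
  obtain ⟨z, hz⟩ : ∃ z : ℕ → V, z = fun k => (n ^ k).1 (e o) := ⟨_, rfl⟩
  have hzs : ∀ k, z (k + 1) = n.1 (z k) := fun k => by rw [hz]; simp only [pow_succ']; rfl
  have hze : ∀ k (i : Fin M), i.val = k → Sim F (z k) (e i) := by
    intro k
    induction k with
    | zero => intro i hi; rw [Fin.ext (hi.trans ho.symm) (b := o), hz]; exact Sim.refl _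
    | succ k ih =>
      intro i hi
      rw [hzs]
      exact ((ih ⟨k, by omega⟩ rfl).map n.1).trans (hnstep ⟨k, by omega⟩ i hi).1
  have hzf : ∀ k (i : Fin M), i.val = k → Sim F (z (M + k)) (f i) := by
    intro k
    induction k with
    | zero =>
      intro i hi
      rw [Fin.ext (hi.trans ho.symm) (b := o), show M + 0 = M - 1 + 1 by omega, hzs]
      exact ((hze _ l hl).map n.1).trans hnle
    | succ k ih =>
      intro i hi
      rw [← Nat.add_assoc, hzs]
      exact ((ih ⟨k, by omega⟩ rfl).map n.1).trans (hnstep ⟨k, by omega⟩ i hi).2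
  have hper : Sim F (z (2 * M)) (e o) := by
    rw [show 2 * M = M + (M - 1) + 1 by omega, hzs]
    exact ((hzf _ l hl).map n.1).trans hnlf
  have hQz : ∀ k, Q (z k) = 0 := fun k => by rw [hz]; exact ((n ^ k).2 _).trans (hf.qe o)
  have horth : ∀ d, d < 2 * M → d ≠ M → polar Q (e o) (z d) = 0 := by
    intro d hd hdM
    rcases Nat.lt_or_ge d M with h | h
    · obtain ⟨a, -, ha⟩ := hze d ⟨d, h⟩ rfl
      rw [ha, polar_smul_right, hf.ee, smul_zero]
    · obtain ⟨a, -, ha⟩ := hzf (d - M) ⟨d - M, by omega⟩ rfl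
      rw [show d = M + (d - M) by omega, ha, polar_smul_right, hf.ef, if_neg, smul_zero]
      intro h'
      have := congrArg Fin.val h'
      simp only [ho] at this
      omega
  have hdual : polar Q (e o) (z M) ≠ 0 := by
    obtain ⟨a, ha0, ha⟩ := hzf 0 o ho
    rw [Nat.add_zero] at ha
    rw [ha, polar_smul_right, hf.ef, if_pos rfl]; simpa using ha0
  have heu : ∀ k : ℕ, polar Q (z k) u = 0 := by
    intro k
    have hpar : ∀ j, (n ^ j).1 u = u ∨ (n ^ j).1 u = n.1 u := by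
      intro j
      induction j with
      | zero => exact Or.inl rfl
      | succ j ih =>
        rw [pow_succ']
        change n.1 ((n ^ j).1 u) = u ∨ n.1 ((n ^ j).1 u) = n.1 u
        rcases ih with h | h <;> rw [h]
        · exact Or.inr rfl
        · exact Or.inl hnu2
    have hb : ∀ x, (x = u ∨ x = n.1 u) → polar Q (e o) x = 0 := by
      rintro x (rfl | rfl)
      · exact (hu o).1
      · rw [hnu, refl_apply, polar_sub_right, polar_smul_right, (hu o).1, (hw' o).1, smul_zero, sub_zero]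
    obtain ⟨x, hxu, hx⟩ : ∃ x, (x = u ∨ x = n.1 u) ∧ (n ^ k).1 x = u := by
      rcases hpar k with h | h
      · exact ⟨u, Or.inl rfl, h⟩
      · refine ⟨n.1 u, Or.inr rfl, ?_⟩
        change ((n ^ k) * n).1 u = u
        rw [← pow_succ, pow_succ']
        change n.1 ((n ^ k).1 u) = u
        rw [h, hnu2]
    rw [hz, ← hx]
    change polar Q ((n ^ k).1 (e o)) ((n ^ k).1 x) = 0
    rw [polar_iso (n ^ k).2]
    exact hb x hxu
  subst hz
  refine ⟨{ n := n, M := M, hM := hM, e := e o, u := u, sing := hf.qe o, orth0 := horth, dual0 := hdual,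
            per := hper, u2 := hnu2, eu := heu, span := fun v => ?_ }, hn ▸ mul_mem hσC hP, rfl, rfl, hnu⟩
  refine Submodule.span_le.2 ?_ (hspan v)
  rintro x ((⟨i, rfl⟩ | ⟨i, rfl⟩) | hx)
  · obtain ⟨a, ha0, ha⟩ := hze i.val i rfl
    have ha' : (n ^ i.val).1 (e o) = a • e i := ha
    rw [show e i = a⁻¹ • (n ^ i.val).1 (e o) by rw [ha', smul_smul, inv_mul_cancel₀ ha0, one_smul]]
    exact Submodule.smul_mem _ _ (Submodule.subset_span (Or.inl ⟨_, rfl⟩))
  · obtain ⟨a, ha0, ha⟩ := hzf i.val i rfl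
    have ha' : (n ^ (M + i.val)).1 (e o) = a • f i := ha
    rw [show f i = a⁻¹ • (n ^ (M + i.val)).1 (e o) by rw [ha', smul_smul, inv_mul_cancel₀ ha0, one_smul]]
    exact Submodule.smul_mem _ _ (Submodule.subset_span (Or.inl ⟨_, rfl⟩))
  · rw [hnu]
    exact Submodule.subset_span (Or.inr hx)

/-- Two generators of a subgroup, from two elements of it. -/
theorem two_generate {G : Type*} [Group G] {K : Subgroup G} (a b : G) (ha : a ∈ K) (hb : b ∈ K)
    (h : K ≤ Subgroup.closure {a, b}) :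
    ∃ a' b' : ↥K, Subgroup.closure ({a', b'} : Set ↥K) = ⊤ := by
  refine ⟨⟨a, ha⟩, ⟨b, hb⟩, Subgroup.map_injective K.subtype_injective ?_⟩
  rw [MonoidHom.map_closure, ← MonoidHom.range_eq_map, Subgroup.range_subtype, Set.image_pair]
  exact le_antisymm ((Subgroup.closure_le _).2 (by rintro x (rfl | rfl) <;> assumption)) h

/-- From a seed which lets every subgroup containing it and the cycle contain the derived group. -/
theorem pair_of_seed [Finite F] (hQ : PND Q) (hq : Nat.card F ≠ 2 ∨ finrank F V ≠ 4) (C : Cyc Q)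
    (hnC : C.n ∈ commutator ↥(Iso Q)) {p : ℕ} (hp : 0 < p) (hpM : p < C.M) {s : V}
    (hs0 : polar Q C.e s = 0) (hs1 : polar Q (C.z p) s = 0) (hs2 : polar Q (C.z (p + C.M)) s = 0)
    (hs3 : polar Q (C.z p) ((C.n ^ p).1 s) = 0) (hs4 : polar Q (C.z (p + C.M)) ((C.n ^ p).1 s) = 0)
    (hclose : ∀ H : Subgroup ↥(Iso Q), C.n ∈ H → Full Q H C.e s → commutator ↥(Iso Q) ≤ H) :
    ∃ a b : ↥(commutator ↥(Iso Q)), Subgroup.closure ({a, b} : Set ↥(commutator ↥(Iso Q))) = ⊤ := by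
  haveI := Fintype.ofFinite F
  obtain ⟨a, haC, ha⟩ := C.seed hQ hq hp hpM hs0 hs1 hs2 hs3 hs4
  refine two_generate a C.n haC hnC ?_
  exact hclose _ (Subgroup.subset_closure (Or.inr rfl))
    (ha _ (Subgroup.subset_closure (Or.inl rfl)) (Subgroup.subset_closure (Or.inr rfl)))

end Abstract

section Standard

variable {F : Type*} [Field F] {R : Type} [Fintype R] [DecidableEq R] {ι : Type} [Fintype ι] [DecidableEq ι]

/-- Descend to `PΩ`. -/
theorem pOmega_gen {Q : QuadraticForm F (ι → F)}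
    (h : ∃ a b : ↥(commutator ↥(Iso Q)), Subgroup.closure ({a, b} : Set ↥(commutator ↥(Iso Q))) = ⊤) :
    ∃ a b : Cfsg.POmega F ⇑Q, Subgroup.closure ({a, b} : Set (Cfsg.POmega F ⇑Q)) = ⊤ := by
  obtain ⟨a, b, h⟩ := h
  let π : ↥(commutator ↥(Iso Q)) →* Cfsg.POmega F ⇑Q :=
    (pOmegaEquiv Q).toMonoidHom.comp (QuotientGroup.mk' _)
  have hπ : Function.Surjective π := (pOmegaEquiv Q).surjective.comp (QuotientGroup.mk'_surjective _)
  refine ⟨π a, π b, ?_⟩
  have := congrArg (Subgroup.map π) h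
  rwa [MonoidHom.map_closure, Set.image_pair, Subgroup.map_top_of_surjective _ hπ] at this

theorem mem_span_bv {m : ℕ} (ε : ι ≃ (Fin m ⊕ Fin m) ⊕ R) (S : Submodule F (ι → F))
    (h : ∀ k, bv ε k ∈ S) (v : ι → F) : v ∈ S := by
  have : v = ∑ k, v (ε.symm k) • bv ε k := by
    funext l
    rw [Finset.sum_apply, Finset.sum_eq_single (ε l)]
    · simp [bv]
    · intro b _ hb
      have : l ≠ ε.symm b := fun h' => hb (by rw [h', Equiv.apply_symm_apply])
      simp [bv, this]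
    · simp
  rw [this]
  exact S.sum_mem fun k _ => S.smul_mem _ (h k)

theorem bv_res {m : ℕ} {ε : ι ≃ (Fin m ⊕ Fin m) ⊕ R} {P : QuadraticForm F (R → F)} (i : Fin m) (r : R) :
    polar (formOf m ε P) (bv ε (.inl (.inl i))) (bv ε (.inr r)) = 0 ∧
      polar (formOf m ε P) (bv ε (.inl (.inr i))) (bv ε (.inr r)) = 0 := by
  constructor <;> rw [formOf_polar_bv] <;> simp [OCount.gram]

variable [Finite F]

/-- `Ω_{2m+1}(q)`, `q` odd. -/
theorem omega_odd (h2 : (2 : F) ≠ 0) {m : ℕ} (hm : 2 ≤ m) :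
    ∃ a b : Cfsg.POmega F (Cfsg.quadFormOdd m F),
      Subgroup.closure ({a, b} : Set (Cfsg.POmega F (Cfsg.quadFormOdd m F))) = ⊤ := by
  rw [← coe_odd]
  refine pOmega_gen ?_
  obtain ⟨Q, hQd⟩ : ∃ Q, Q = formOf m (Equiv.sumComm Unit (Fin m ⊕ Fin m)) (lineForm F) := ⟨_, rfl⟩
  rw [← hQd]
  have hQ : PND Q := hQd ▸ formOf_pnd (pnd_line h2)
  have hq : Nat.card F ≠ 2 ∨ finrank F (Unit ⊕ (Fin m ⊕ Fin m) → F) ≠ 4 := two_ne h2
  obtain ⟨u, hu⟩ : ∃ u, u = (bv (Equiv.sumComm Unit (Fin m ⊕ Fin m)) (.inr ()) : Unit ⊕ (Fin m ⊕ Fin m) → F) :=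
    ⟨_, rfl⟩
  have hQu : Q u = 1 := by rw [hu, hQd, formOf_bv]; simp [lineForm]
  have hfam := hfam_formOf (Equiv.sumComm Unit (Fin m ⊕ Fin m)) (lineForm F)
  rw [← hQd] at hfam
  have hue : ∀ i, polar Q (bv (Equiv.sumComm Unit (Fin m ⊕ Fin m)) (.inl (.inl i))) u = 0 ∧
      polar Q (bv (Equiv.sumComm Unit (Fin m ⊕ Fin m)) (.inl (.inr i))) u = 0 := fun i => by
    rw [hu, hQd]; exact bv_res i ()
  obtain ⟨C, hC, hCM, hCu, hCn⟩ := exists_cyc hQ hq hm hfam (u := u) (w := u) (by rw [hQu]; exact one_ne_zero)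
    hue hue (mem_span_bv (Equiv.sumComm Unit (Fin m ⊕ Fin m)) _ (by
      rintro ((i | i) | r)
      · exact Submodule.subset_span (Or.inl (Or.inl ⟨i, rfl⟩))
      · exact Submodule.subset_span (Or.inl (Or.inr ⟨i, rfl⟩))
      · exact Submodule.subset_span (Or.inr (Or.inl hu.symm))))
  refine pair_of_seed hQ hq C hC one_pos (by omega) (C.z_w 0 0) (C.z_w 1 0) (C.z_w _ 0) (C.z_w 1 (1 + 0)) (C.z_w _ (1 + 0))
    fun H hn hA => C.close_twist hn hQ hq hA ?_ ?_
  · rw [hCu, hQu]; exact one_ne_zero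
  · rw [hCu, hCn, refl_self (by rw [hQu]; exact one_ne_zero), polar_neg_right, polar_self_two, hQu]
    simpa using h2

/-- `PΩ⁺_{2m}(q)`. -/
theorem omega_plus [Fintype F] {m : ℕ} (hm : 4 ≤ m) :
    ∃ a b : Cfsg.POmega F (Cfsg.quadFormPlus m F),
      Subgroup.closure ({a, b} : Set (Cfsg.POmega F (Cfsg.quadFormPlus m F))) = ⊤ := by
  rcases hm.eq_or_lt with rfl | hm5
  · obtain ⟨φ⟩ := Cfsg.Agent.Lie.d4_iso_pOmega (F := F)
    obtain ⟨a, b, h⟩ := Cfsg.Agent.Small.TwoGen.chevalley_two_generated (F := F) (D := Cfsg.Lie.chevD4)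
      (by simp) (fun h => by
        simp only [List.mem_cons, List.not_mem_nil, or_false] at h
        rcases h with h | h <;> exact absurd (congrArg Cfsg.Lie.ChevalleyDatum.rank h) (by decide))
    refine ⟨φ a, φ b, ?_⟩
    have := congrArg (Subgroup.map φ.toMonoidHom) h
    rwa [MonoidHom.map_closure, Set.image_pair, Subgroup.map_top_of_surjective _ φ.surjective] at this
  rw [← coe_plus]
  refine pOmega_gen ?_
  obtain ⟨ε, hε⟩ : ∃ ε : Fin m ⊕ Fin m ≃ (Fin m ⊕ Fin m) ⊕ Empty, ε = (Equiv.sumEmpty (Fin m ⊕ Fin m) Empty).symm :=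
    ⟨_, rfl⟩
  obtain ⟨Q, hQd⟩ : ∃ Q, Q = formOf m ε (0 : QuadraticForm F (Empty → F)) := ⟨_, rfl⟩
  rw [← hε, ← hQd]
  have hQ : PND Q := hQd ▸ formOf_pnd pnd_empty
  have hq : Nat.card F ≠ 2 ∨ finrank F (Fin m ⊕ Fin m → F) ≠ 4 :=
    Or.inr (by rw [finrank_pi, Fintype.card_sum, Fintype.card_fin]; omega)
  have hfam := hfam_formOf ε (0 : QuadraticForm F (Empty → F))
  rw [← hQd] at hfam
  obtain ⟨M, rfl⟩ : ∃ M, m = M + 1 := ⟨m - 1, by omega⟩
  obtain ⟨E₁, hE₁⟩ : ∃ E₁, E₁ = (bv ε (.inl (.inl (Fin.last M))) : Fin (M + 1) ⊕ Fin (M + 1) → F) := ⟨_, rfl⟩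
  obtain ⟨F₁, hF₁⟩ : ∃ F₁, F₁ = (bv ε (.inl (.inr (Fin.last M))) : Fin (M + 1) ⊕ Fin (M + 1) → F) := ⟨_, rfl⟩
  have hsub : HFam Q (fun i : Fin M => bv ε (.inl (.inl i.castSucc))) (fun i : Fin M => bv ε (.inl (.inr i.castSucc))) :=
    ⟨fun i => hfam.qe _, fun i => hfam.qf _, fun i j => by
      rw [hfam.ef]; simp [Fin.castSucc_inj], fun i j => hfam.ee _ _, fun i j => hfam.ff _ _⟩
  have hne : ∀ i : Fin M, i.castSucc ≠ Fin.last M := fun i => (Fin.castSucc_lt_last i).ne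
  have hQ1 : Q E₁ = 0 := hE₁ ▸ hfam.qe _
  have hQ2 : Q F₁ = 0 := hF₁ ▸ hfam.qf _
  have h12 : polar Q E₁ F₁ = 1 := by rw [hE₁, hF₁, hfam.ef, if_pos rfl]
  have hQw : Q (E₁ - F₁) = -1 := by rw [map_sub_two, hQ1, hQ2, h12]; ring
  have hrefl : refl Q (E₁ - F₁) E₁ = F₁ := by
    rw [refl_apply, hQw, polar_sub_left, polar_self_zero hQ1, polar_comm Q F₁, h12]
    simp
  have hperp : ∀ i : Fin M, polar Q (bv ε (.inl (.inl i.castSucc))) E₁ = 0 ∧
      polar Q (bv ε (.inl (.inr i.castSucc))) E₁ = 0 := fun i =>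
    ⟨hE₁ ▸ hfam.ee _ _, by rw [hE₁, hfam.fe, if_neg (hne i)]⟩
  have hperp' : ∀ i : Fin M, polar Q (bv ε (.inl (.inl i.castSucc))) (E₁ - F₁) = 0 ∧
      polar Q (bv ε (.inl (.inr i.castSucc))) (E₁ - F₁) = 0 := fun i => by
    rw [polar_sub_right, polar_sub_right, (hperp i).1, (hperp i).2, hF₁, hfam.ef, if_neg (hne i), hfam.ff]
    simp
  obtain ⟨C, hC, hCM, hCu, hCn⟩ := exists_cyc hQ hq (M := M) (by omega) hsub
    (u := E₁) (w := E₁ - F₁) (by rw [hQw]; exact neg_ne_zero.2 one_ne_zero) hperp hperp'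
    (mem_span_bv ε _ (by
      rintro ((i | i) | r)
      · rcases Fin.eq_castSucc_or_eq_last i with ⟨j, rfl⟩ | rfl
        · exact Submodule.subset_span (Or.inl (Or.inl ⟨j, rfl⟩))
        · exact Submodule.subset_span (Or.inr (Or.inl hE₁.symm))
      · rcases Fin.eq_castSucc_or_eq_last i with ⟨j, rfl⟩ | rfl
        · exact Submodule.subset_span (Or.inl (Or.inr ⟨j, rfl⟩))
        · exact Submodule.subset_span (Or.inr (Or.inr (by rw [hrefl]; exact hF₁.symm)))
      · exact r.elim))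
  have hQu : Q C.u = 0 := by rw [hCu, hQ1]
  have hB : polar Q C.u (C.n.1 C.u) ≠ 0 := by rw [hCu, hCn, hrefl, h12]; exact one_ne_zero
  rcases Nat.even_or_odd M with he | ho
  · refine pair_of_seed hQ hq C hC one_pos (by omega) (C.z_w 0 0) (C.z_w 1 0) (C.z_w _ 0) (C.z_w 1 (1 + 0))
      (C.z_w _ (1 + 0)) fun H hn hA => C.close hn hQ hq hA (fun j hj hj2 hjM => ?_) (fun h => ?_) (Or.inr hB)
    · exact C.short hn hA hA C.z_u hj2 hjM (by rwa [C.w_odd hj, polar_comm])
    · exact absurd (show Odd M by rw [← hCM]; exact h) (Nat.not_odd_iff_even.2 he)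
  · have hM5 : 5 ≤ C.M := by have := Nat.odd_iff.1 ho; omega
    refine pair_of_seed hQ hq C hC one_pos (by omega) (s := C.u + C.z 2) ?_ ?_ ?_ ?_ ?_
      fun H hn hs => C.close_plus hn hQ hq hs (by rw [hCM]; exact ho) hM5 hQu hB
    · rw [show C.e = C.z 0 from rfl, polar_add_right, C.z_u,
        C.orth (by omega) (by omega) (by omega) (by omega) (by omega) (by omega) (by omega) (by omega), add_zero]
    · rw [polar_add_right, C.z_u,
        C.orth (by omega) (by omega) (by omega) (by omega) (by omega) (by omega) (by omega) (by omega), add_zero]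
    · rw [polar_add_right, C.z_u,
        C.orth (by omega) (by omega) (by omega) (by omega) (by omega) (by omega) (by omega) (by omega), add_zero]
    all_goals rw [map_add, C.z_add, polar_add_right, show (C.n ^ 1).1 C.u = C.w 1 from rfl, C.z_w,
      C.orth (by omega) (by omega) (by omega) (by omega) (by omega) (by omega) (by omega) (by omega), add_zero]

/-- `PΩ⁻_{2m+2}(q)`. -/
theorem omega_minus [Fintype F] {m : ℕ} (hm : 3 ≤ m) (a b : F)
    (hab : ∀ z₁ z₂ : F, z₁ ^ 2 + a * z₁ * z₂ + b * z₂ ^ 2 = 0 → z₁ = 0 ∧ z₂ = 0) :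
    ∃ g h : Cfsg.POmega F (Cfsg.quadFormMinus m F a b),
      Subgroup.closure ({g, h} : Set (Cfsg.POmega F (Cfsg.quadFormMinus m F a b))) = ⊤ := by
  rw [← coe_minus]
  refine pOmega_gen ?_
  obtain ⟨ε, hε⟩ : ∃ ε : (Fin m ⊕ Fin m) ⊕ Fin 2 ≃ (Fin m ⊕ Fin m) ⊕ Fin 2, ε = Equiv.refl _ := ⟨_, rfl⟩
  obtain ⟨Q, hQd⟩ : ∃ Q, Q = formOf m ε (planeForm a b) := ⟨_, rfl⟩
  rw [← hε, ← hQd]
  have hQ : PND Q := hQd ▸ formOf_pnd (pnd_plane hab)
  have hq : Nat.card F ≠ 2 ∨ finrank F ((Fin m ⊕ Fin m) ⊕ Fin 2 → F) ≠ 4 :=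
    Or.inr (by rw [finrank_pi, Fintype.card_sum, Fintype.card_sum, Fintype.card_fin, Fintype.card_fin]; omega)
  have hfam := hfam_formOf ε (planeForm a b)
  rw [← hQd] at hfam
  obtain ⟨x, hx⟩ : ∃ x : Fin 2 → ((Fin m ⊕ Fin m) ⊕ Fin 2 → F), x = fun r => bv ε (.inr r) := ⟨_, rfl⟩
  have hxe : ∀ i r, polar Q (bv ε (.inl (.inl i))) (x r) = 0 ∧ polar Q (bv ε (.inl (.inr i))) (x r) = 0 :=
    fun i r => by rw [hx, hQd]; exact bv_res i r
  have hQ0 : Q (x 0) = 1 := by rw [hx, hQd, formOf_bv]; simp [planeForm_apply]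
  have hQ1 : Q (x 1) = b := by rw [hx, hQd, formOf_bv]; simp [planeForm_apply]
  have hxx : polar Q (x 0) (x 1) = a := by
    rw [hx, hQd, formOf_polar_bv]
    simp only [OCount.gram]
    simp [polar, planeForm_apply]
    ring
  have hb0 : b ≠ 0 := fun h => one_ne_zero (hab 0 1 (by rw [h]; ring)).2
  obtain ⟨t, ht⟩ : ∃ t : F, (a ≠ 0 → t = 0) ∧ (a = 0 → t = 1) := by
    by_cases h : a = 0
    · exact ⟨1, fun h' => absurd h h', fun _ => rfl⟩
    · exact ⟨0, fun _ => rfl, fun h' => absurd h' h⟩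
  obtain ⟨w, hw⟩ : ∃ w, w = t • x 0 + x 1 := ⟨_, rfl⟩
  have hQw : Q w = t * t + b + t * a := by
    rw [hw, map_two, QuadraticMap.map_smul, hQ0, hQ1, polar_smul_left, hxx]; simp
  have hQw0 : Q w ≠ 0 := by
    rw [hQw]; intro h
    exact one_ne_zero (hab t 1 (by linear_combination h)).2
  have huw : polar Q (x 0) w = t * 2 + a := by
    rw [hw, polar_add_right, polar_smul_right, hxx, polar_self_two, hQ0]; simp
  have huw0 : t * 2 + a ≠ 0 := by
    by_cases h : a = 0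
    · rw [ht.2 h, h, one_mul, add_zero]
      intro h2
      haveI : CharP F 2 := CharTwo.of_one_ne_zero_of_two_eq_zero one_ne_zero h2
      obtain ⟨s, hs⟩ := FiniteField.isSquare_of_char_two (ringChar.eq F 2) b
      exact one_ne_zero (hab s 1 (by rw [h]; linear_combination hs + s * s * h2)).2
    · rw [ht.1 h, zero_mul, zero_add]; exact h
  have hwe : ∀ i, polar Q (bv ε (.inl (.inl i))) w = 0 ∧ polar Q (bv ε (.inl (.inr i))) w = 0 := fun i => by
    rw [hw, polar_add_right, polar_add_right, polar_smul_right, polar_smul_right, (hxe i 0).1, (hxe i 1).1,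
      (hxe i 0).2, (hxe i 1).2]
    simp
  have hrefl : refl Q w (x 0) = x 0 - ((Q w)⁻¹ * (t * 2 + a)) • w := by
    rw [refl_apply, polar_comm Q w, huw]
  have hk0 : (Q w)⁻¹ * (t * 2 + a) ≠ 0 := mul_ne_zero (inv_ne_zero hQw0) huw0
  obtain ⟨C, hC, hCM, hCu, hCn⟩ := exists_cyc hQ hq (by omega : 2 ≤ m) hfam (u := x 0) (w := w) hQw0
    (fun i => hxe i 0) hwe (mem_span_bv ε _ (by
      have h0 : x 0 ∈ Submodule.span F (Set.range (fun i => bv ε (.inl (.inl i))) ∪
          Set.range (fun i => bv ε (.inl (.inr i))) ∪ {x 0, refl Q w (x 0)}) :=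
        Submodule.subset_span (Or.inr (Or.inl rfl))
      rintro ((i | i) | r)
      · exact Submodule.subset_span (Or.inl (Or.inl ⟨i, rfl⟩))
      · exact Submodule.subset_span (Or.inl (Or.inr ⟨i, rfl⟩))
      · rw [show bv ε (.inr r) = x r by rw [hx]]
        fin_cases r
        · exact h0
        · have h1 : refl Q w (x 0) ∈ Submodule.span F (Set.range (fun i => bv ε (.inl (.inl i))) ∪
              Set.range (fun i => bv ε (.inl (.inr i))) ∪ {x 0, refl Q w (x 0)}) :=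
            Submodule.subset_span (Or.inr (Or.inr rfl))
          have e : x 1 = ((Q w)⁻¹ * (t * 2 + a))⁻¹ • (x 0 - refl Q w (x 0)) - t • x 0 := by
            rw [hrefl, sub_sub_cancel, smul_smul, inv_mul_cancel₀ hk0, one_smul, hw, add_sub_cancel_left]
          change x 1 ∈ _
          rw [e]
          exact Submodule.sub_mem _ (Submodule.smul_mem _ _ (Submodule.sub_mem _ h0 h1)) (Submodule.smul_mem _ _ h0)))
  have hQu : Q C.u = 1 := by rw [hCu, hQ0]
  by_cases h2 : (2 : F) = 0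
  · refine pair_of_seed hQ hq C hC one_pos (by omega) (C.z_w 0 0) (C.z_w 1 0) (C.z_w _ 0) (C.z_w 1 (1 + 0))
      (C.z_w _ (1 + 0)) fun H hn hA => C.close_twist hn hQ hq hA (by rw [hQu]; exact one_ne_zero) ?_
    rw [hCu, hCn, hrefl, polar_sub_right, polar_smul_right, huw, polar_self_two, hQ0, smul_eq_mul, show (2 : F) * 1 = 0 by rw [h2, zero_mul], zero_sub]
    exact neg_ne_zero.2 (mul_ne_zero hk0 huw0)
  have hBu : polar Q C.u C.u ≠ 0 := by rw [polar_self_two, hQu, mul_one]; exact h2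
  rcases Nat.even_or_odd m with he | ho
  · have hM4 : 4 ≤ C.M := by have := Nat.even_iff.1 he; omega
    refine pair_of_seed hQ hq C hC two_pos (by omega) (s := C.u + C.z 1) ?_ ?_ ?_ ?_ ?_
      fun H hn hs => C.close_even hn hQ hq hs (by rw [hCM]; exact he) hM4 hBu
    · rw [show C.e = C.z 0 from rfl, polar_add_right, C.z_u,
        C.orth (by omega) (by omega) (by omega) (by omega) (by omega) (by omega) (by omega) (by omega), add_zero]
    · rw [polar_add_right, C.z_u,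
        C.orth (by omega) (by omega) (by omega) (by omega) (by omega) (by omega) (by omega) (by omega), add_zero]
    · rw [polar_add_right, C.z_u,
        C.orth (by omega) (by omega) (by omega) (by omega) (by omega) (by omega) (by omega) (by omega), add_zero]
    all_goals rw [map_add, C.z_add, polar_add_right, show (C.n ^ 2).1 C.u = C.w 2 from rfl, C.z_w,
      C.orth (by omega) (by omega) (by omega) (by omega) (by omega) (by omega) (by omega) (by omega), add_zero]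
  · exact pair_of_seed hQ hq C hC one_pos (by omega) (C.z_w 0 0) (C.z_w 1 0) (C.z_w _ 0) (C.z_w 1 (1 + 0))
      (C.z_w _ (1 + 0)) fun H hn hA => C.close_odd hn hQ hq hA (by rw [hCM]; exact ho) hBu

end Standard

end Cfsg.Agent.Small.TwoGenO
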