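import Cfsg.Agent.Lib.Classical.OrthSimple

/-!
Families of Siegel transformations inside a subgroup of an orthogonal group: one bracket rule, and
the derived group is contained in any subgroup holding the two opposite Siegel groups of a pair.
-/

set_option autoImplicit false
set_option linter.unusedSectionVars false

namespace Cfsg.Agent.Small.TwoGenO

open Module QuadraticMap Cfsg.Agent.Classical Cfsg.Agent.Classical.OCount Cfsg.Agent.Classical.ORefl
  Cfsg.Agent.Classical.OOmega

variable {F : Type*} [Field F] {V : Type*} [AddCommGroup V] [Module F V] [FiniteDimensional F V]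
  {Q : QuadraticForm F V}

open _root_.Classical in
variable (Q) in
/-- The Siegel transformation, `1` for bad parameters. -/
noncomputable def E (e v : V) : ↥(Iso Q) :=
  if h : Q e = 0 ∧ polar Q e v = 0 then el h.1 h.2 else 1

theorem E_eq {e v : V} (he : Q e = 0) (hv : polar Q e v = 0) : E Q e v = el he hv := dif_pos ⟨he, hv⟩

theorem E_apply {e v : V} (he : Q e = 0) (hv : polar Q e v = 0) (x : V) :
    (E Q e v).1 x = x + polar Q e x • v - (polar Q v x + Q v * polar Q e x) • e := by
  rw [E_eq he hv, el_apply]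

theorem iso_ext {g h : ↥(Iso Q)} (hgh : ∀ x, g.1 x = h.1 x) : g = h := Subtype.ext (LinearEquiv.ext hgh)

theorem E_mul {e v w : V} (he : Q e = 0) (hv : polar Q e v = 0) (hw : polar Q e w = 0) :
    E Q e v * E Q e w = E Q e (v + w) := by
  rw [E_eq he hv, E_eq he hw, el_mul, E_eq]

theorem E_zero (e : V) : E Q e 0 = 1 := by
  by_cases he : Q e = 0
  · refine iso_ext fun x => ?_
    rw [E_apply he (polar_zero_right _ e), QuadraticMap.map_zero, polar_zero_left]
    simp
  · exact dif_neg fun h => he h.1

theorem E_inv (e v : V) : (E Q e v)⁻¹ = E Q e (-v) := by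
  by_cases h : Q e = 0 ∧ polar Q e v = 0
  · rw [inv_eq_iff_mul_eq_one, E_mul h.1 h.2 (by rw [polar_neg_right, h.2, neg_zero]), add_neg_cancel, E_zero]
  · have h' : ¬(Q e = 0 ∧ polar Q e (-v) = 0) := by rwa [polar_neg_right, neg_eq_zero]
    rw [E, dif_neg h, inv_one, E, dif_neg h']

theorem E_pow {e v : V} (he : Q e = 0) (hv : polar Q e v = 0) (k : ℕ) :
    E Q e v ^ k = E Q e ((k : F) • v) := by
  induction k with
  | zero => simp [E_zero]
  | succ k ih =>
    rw [pow_succ, ih, E_mul he (by rw [polar_smul_right, hv, smul_zero]) hv]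
    push_cast; rw [add_smul, one_smul]

theorem E_pow_card [Fintype F] {e v : V} (he : Q e = 0) (hv : polar Q e v = 0) :
    E Q e v ^ (Fintype.card F - 1) = (E Q e v)⁻¹ := by
  rw [E_pow he hv, E_inv, Nat.cast_sub Fintype.card_pos, FiniteField.cast_card_eq_zero]
  simp

theorem E_conj (g : ↥(Iso Q)) (e v : V) : g * E Q e v * g⁻¹ = E Q (g.1 e) (g.1 v) := by
  by_cases h : Q e = 0 ∧ polar Q e v = 0
  · rw [E_eq h.1 h.2, el_conj, E_eq ((g.2 e).trans h.1) ((polar_iso g.2 e v).trans h.2)]
  · have h' : ¬(Q (g.1 e) = 0 ∧ polar Q (g.1 e) (g.1 v) = 0) := by rwa [g.2 e, polar_iso g.2]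
    rw [E, dif_neg h, mul_one, mul_inv_cancel, E, dif_neg h']

theorem E_scale {c : F} (hc : c ≠ 0) (e v : V) : E Q (c • e) v = E Q e (c • v) := by
  by_cases h : Q e = 0 ∧ polar Q e v = 0
  · rw [E_eq (by rw [QuadraticMap.map_smul, h.1, smul_zero]) (by rw [polar_smul_left, h.2, smul_zero]),
      el_scale c h.1 h.2, E_eq]
  · rw [E, E, dif_neg, dif_neg]
    · rw [polar_smul_right, smul_eq_zero]; tauto
    · rw [QuadraticMap.map_smul, polar_smul_left, smul_eq_zero, smul_eq_zero]
      simpa [hc] using h

theorem E_swap {e f : V} (he : Q e = 0) (hf : Q f = 0) (hef : polar Q e f = 0) :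
    E Q f (-e) = E Q e f := by
  refine iso_ext fun x => ?_
  rw [E_apply hf (by rw [polar_neg_right, polar_comm, hef, neg_zero]), E_apply he hef,
    QuadraticMap.map_neg, he, hf, polar_neg_left, zero_mul, zero_mul, add_zero, add_zero]
  module

theorem E_self {e : V} (he : Q e = 0) (r : F) : E Q e (r • e) = 1 := by
  refine iso_ext fun x => ?_
  rw [E_apply he (by rw [polar_smul_right, polar_self_zero he, smul_zero]), QuadraticMap.map_smul, he,
    polar_smul_left, smul_zero, zero_mul, add_zero, smul_smul]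
  change _ = x
  simp only [smul_eq_mul]
  module

/-! ### Full families -/

variable (Q) in
/-- All multiples of `v` give Siegel transformations at `e` inside `H`. -/
def Full (H : Subgroup ↥(Iso Q)) (e v : V) : Prop := ∀ t : F, E Q e (t • v) ∈ H

variable {H : Subgroup ↥(Iso Q)}

theorem Full.one {e v : V} (h : Full Q H e v) : E Q e v ∈ H := by simpa using h 1

theorem Full.smul {e v : V} (h : Full Q H e v) (c : F) : Full Q H e (c • v) := fun t => by
  rw [smul_smul]; exact h _

theorem Full.of_smul {e v : V} {c : F} (hc : c ≠ 0) (h : Full Q H e (c • v)) : Full Q H e v := by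
  have := h.smul c⁻¹
  rwa [smul_smul, inv_mul_cancel₀ hc, one_smul] at this

theorem Full.neg {e v : V} (h : Full Q H e v) : Full Q H e (-v) := by
  simpa using h.smul (-1)

theorem Full.conj {e v : V} (h : Full Q H e v) {g : ↥(Iso Q)} (hg : g ∈ H) :
    Full Q H (g.1 e) (g.1 v) := fun t => by
  rw [← map_smul, ← E_conj]
  exact mul_mem (mul_mem hg (h t)) (inv_mem hg)

theorem Full.of_scale {e v : V} {c : F} (hc : c ≠ 0) (h : Full Q H (c • e) v) : Full Q H e v := fun t => by
  have := h (c⁻¹ * t)
  rwa [E_scale hc, smul_smul, ← mul_assoc, mul_inv_cancel₀ hc, one_mul] at this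

theorem Full.scale {e v : V} {c : F} (hc : c ≠ 0) (h : Full Q H e v) : Full Q H (c • e) v := fun t => by
  rw [E_scale hc, smul_smul]
  exact h _

theorem Full.add {e v w : V} (he : Q e = 0) (hv : polar Q e v = 0) (hw : polar Q e w = 0)
    (h : Full Q H e v) (h' : Full Q H e w) : Full Q H e (v + w) := fun t => by
  rw [smul_add, ← E_mul he (by rw [polar_smul_right, hv, smul_zero]) (by rw [polar_smul_right, hw, smul_zero])]
  exact mul_mem (h t) (h' t)

theorem Full.sub {e v w : V} (he : Q e = 0) (hv : polar Q e v = 0) (hw : polar Q e w = 0)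
    (h : Full Q H e v) (h' : Full Q H e w) : Full Q H e (v - w) := by
  rw [sub_eq_add_neg]
  exact h.add he hv (by rw [polar_neg_right, hw, neg_zero]) h'.neg

theorem Full.zero (e : V) : Full Q H e 0 := fun t => by
  rw [smul_zero, E_zero]; exact one_mem H

theorem Full.swap {e f : V} (he : Q e = 0) (hf : Q f = 0) (hef : polar Q e f = 0)
    (h : Full Q H e f) : Full Q H f e := fun t => by
  have hfe : polar Q f e = 0 := by rw [polar_comm, hef]
  rcases eq_or_ne t 0 with rfl | ht
  · rw [zero_smul, E_zero]; exact one_mem H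
  have h1 : E Q (t • e) (-f) = E Q f (t • e) :=
    E_swap hf (by rw [QuadraticMap.map_smul, he, smul_zero]) (by rw [polar_smul_right, hfe, smul_zero])
  rw [← h1, E_scale ht, smul_neg, ← neg_smul]
  exact h _

/-- The bracket of one Siegel transformation with a family. -/
theorem Full.bracket {e a f b : V} (hg : E Q e a ∈ H) (h : Full Q H f b)
    (he : Q e = 0) (hf : Q f = 0) (hea : polar Q e a = 0) (hfb : polar Q f b = 0)
    (hef : polar Q e f = 0) (haf : polar Q a f = 0) :
    Full Q H f (polar Q e b • a - (polar Q a b + Q a * polar Q e b) • e) := by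
  have hfix : (E Q e a).1 f = f := by
    rw [E_apply he hea, hef, haf]; simp
  have h1 := h.conj hg
  rw [hfix] at h1
  have hgb : polar Q f ((E Q e a).1 b) = 0 := by
    rw [show polar Q f ((E Q e a).1 b) = polar Q ((E Q e a).1 f) ((E Q e a).1 b) by rw [hfix],
      polar_iso (E Q e a).2, hfb]
  have h2 := h1.sub hf hgb hfb h
  convert h2 using 1
  rw [E_apply he hea]
  abel

/-- Two opposite Siegel groups give everything. -/
theorem rootGroup_le {p : V × V} (hQ : PND Q) (hp : IsHPair Q p)
    (hpR : ∃ q : comp Q p × comp Q p, IsHPair (res Q p) q)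
    (he : ∀ v ∈ comp Q p, E Q p.1 v ∈ H) (hf : ∀ v ∈ comp Q p, E Q p.2 v ∈ H) :
    rootGroup Q ≤ H := by
  obtain ⟨e, f⟩ := p
  obtain ⟨he', hf', hef⟩ := hp
  have hfe : polar Q f e = 1 := by rw [polar_comm]; exact hef
  have hee := polar_self_zero he'
  have hff := polar_self_zero hf'
  have hRQ := res_pnd (p := (e, f)) hQ ⟨he', hf', hef⟩
  obtain ⟨⟨u₀, z₀⟩, hp₀⟩ := hpR
  have hcomp : ∀ v : comp Q (e, f), polar Q e (v : V) = 0 ∧ polar Q f (v : V) = 0 :=
    fun v => mem_comp.mp v.2
  have fullf : ∀ v, polar Q f v = 0 → E Q f v ∈ H := by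
    intro v hv
    obtain ⟨r, hr⟩ : ∃ r, r = v - polar Q f v • e - polar Q e v • f := ⟨_, rfl⟩
    have hrm : r ∈ comp Q (e, f) := hr ▸ exists_split (p := (e, f)) ⟨he', hf', hef⟩ v
    have hv' : v = r + polar Q e v • f := by rw [hr, hv, zero_smul, sub_zero, sub_add_cancel]
    rw [hv', ← E_mul hf' (mem_comp.mp hrm).2 (by rw [polar_smul_right, hff, smul_zero]), E_self hf',
      mul_one]
    exact hf r hrm
  have fulle : ∀ v, polar Q e v = 0 → E Q e v ∈ H := by
    intro v hv
    obtain ⟨r, hr⟩ : ∃ r, r = v - polar Q f v • e - polar Q e v • f := ⟨_, rfl⟩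
    have hrm : r ∈ comp Q (e, f) := hr ▸ exists_split (p := (e, f)) ⟨he', hf', hef⟩ v
    have hv' : v = r + polar Q f v • e := by rw [hr, hv, zero_smul, sub_zero, sub_add_cancel]
    rw [hv', ← E_mul he' (mem_comp.mp hrm).1 (by rw [polar_smul_right, hee, smul_zero]), E_self he',
      mul_one]
    exact he r hrm
  -- transitivity on singular vectors
  have hmove : ∀ z : V, Q z = 0 → z ≠ 0 → ∃ g ∈ H, ∃ c : F, c ≠ 0 ∧ (g.1 z = c • e ∨ g.1 z = c • f) := by
    intro z hz hz0
    have key : ∀ z : V, Q z = 0 → polar Q e z ≠ 0 →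
        ∃ g ∈ H, ∃ c : F, c ≠ 0 ∧ g.1 z = c • f := by
      intro z hz hb
      obtain ⟨r, hr⟩ : ∃ r : comp Q (e, f), z = polar Q f z • e + polar Q e z • f + (r : V) :=
        ⟨⟨_, exists_split (p := (e, f)) ⟨he', hf', hef⟩ z⟩, by
          change z = _ + (z - polar Q f z • e - polar Q e z • f); abel⟩
      obtain ⟨hr1, hr2⟩ := hcomp r
      refine ⟨E Q e (-(polar Q e z)⁻¹ • (r : V)), he _ (Submodule.smul_mem _ _ r.2), polar Q e z, hb, ?_⟩
      have hval : Q z = polar Q f z * polar Q e z + Q (r : V) := by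
        conv_lhs => rw [hr]
        rw [map_two, map_two, QuadraticMap.map_smul, QuadraticMap.map_smul, he', hf', polar_smul_left,
          polar_smul_right, hef, polar_add_left, polar_smul_left, polar_smul_left, hr1, hr2]
        simp
      rw [hz] at hval
      have hrz : polar Q (r : V) z = Q (r : V) + Q (r : V) := by
        conv_lhs => rw [hr]
        rw [polar_add_right, polar_add_right, polar_smul_right, polar_smul_right,
          polar_comm Q (r : V) e, hr1, polar_comm Q (r : V) f, hr2, polar_self_two]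
        simp only [smul_eq_mul]; ring
      rw [E_apply he' (by rw [polar_smul_right, hr1, smul_zero]), QuadraticMap.map_smul, polar_smul_left,
        hrz]
      conv_lhs => rw [hr]
      simp only [polar_add_right, polar_smul_right, hee, hef, hr1, smul_eq_mul]
      match_scalars <;>
        first
        | ring1
        | linear_combination (-(polar Q e z)⁻¹) * hval -
            (polar Q f z + (polar Q e z)⁻¹ * Q (r : V)) * mul_inv_cancel₀ hb
        | linear_combination -(mul_inv_cancel₀ hb)
    by_cases hb : polar Q e z = 0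
    swap
    · obtain ⟨g, hg, c, hc, h⟩ := key z hz hb
      exact ⟨g, hg, c, hc, Or.inr h⟩
    obtain ⟨r, hr⟩ : ∃ r : comp Q (e, f), z = polar Q f z • e + (r : V) :=
      ⟨⟨_, exists_split (p := (e, f)) ⟨he', hf', hef⟩ z⟩, by
        change z = _ + (z - polar Q f z • e - polar Q e z • f); rw [hb, zero_smul]; abel⟩
    by_cases hr0 : r = 0
    · refine ⟨1, one_mem _, polar Q f z, fun h => hz0 ?_, Or.inl ?_⟩
      · rw [hr, h, hr0, Submodule.coe_zero, zero_smul, add_zero]
      · change z = _
        conv_lhs => rw [hr, hr0, Submodule.coe_zero, add_zero]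
    obtain ⟨v, hv, hvr⟩ : ∃ v : comp Q (e, f), Q (v : V) = 0 ∧ polar Q (v : V) r ≠ 0 := by
      by_contra hcon
      push Not at hcon
      exact hr0 (hRQ r fun w => singular_induction hp₀ (motive := fun w => polar (res Q (e, f)) r w = 0)
        (fun u v hu hv => by rw [polar_add_right, hu, hv, add_zero])
        (fun v hv => by rw [res_polar, polar_comm]; exact hcon v hv) w)
    have hgz : polar Q e ((E Q f (v : V)).1 z) = -polar Q (v : V) r := by
      rw [E_apply hf' (hcomp v).2, hv]
      conv_lhs => rw [hr]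
      simp only [polar_add_right, polar_sub_right, polar_smul_right, hee, hef, (hcomp r).1, (hcomp v).1,
        polar_comm Q (v : V) e, smul_eq_mul]
      ring
    obtain ⟨g, hg, c, hc, h⟩ := key _ (((E Q f (v : V)).2 z).trans hz)
      (by rw [hgz]; exact neg_ne_zero.2 hvr)
    exact ⟨g * E Q f (v : V), mul_mem hg (hf _ v.2), c, hc, Or.inr h⟩
  rw [rootGroup, Subgroup.closure_le]
  rintro x ⟨a, b, ha, hb, -, hx⟩
  rw [SetLike.mem_coe, show x = E Q a b by rw [E_eq ha hb]; exact Subtype.ext hx]
  rcases eq_or_ne a 0 with rfl | ha0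
  · rw [show E Q (0 : V) b = 1 from iso_ext fun y => by rw [E_apply ha hb, polar_zero_left]; simp]
    exact one_mem H
  obtain ⟨g, hg, c, hc, h⟩ := hmove a ha ha0
  have hgab : E Q (g.1 a) (g.1 b) ∈ H := by
    have hb' : polar Q (g.1 a) (g.1 b) = 0 := (polar_iso g.2 a b).trans hb
    rcases h with h | h <;> rw [h] at hb' ⊢ <;> rw [polar_smul_left, smul_eq_zero] at hb' <;>
      rw [E_scale hc]
    · exact fulle _ (by rw [polar_smul_right, hb'.resolve_left hc, smul_zero])
    · exact fullf _ (by rw [polar_smul_right, hb'.resolve_left hc, smul_zero])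
  have := mul_mem (mul_mem (inv_mem hg) hgab) hg
  rwa [← E_conj, show g⁻¹ * (g * E Q a b * g⁻¹) * g = E Q a b by group] at this

end Cfsg.Agent.Small.TwoGenO
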